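import Mathlib
set_option autoImplicit false

namespace H64.Prim
open MulAction

variable {G Ω : Type*} [Group G] [MulAction G Ω]

/-- A normal subgroup inside a point stabilizer of a faithful transitive action is trivial. -/
theorem normal_le_stabilizer_eq_bot [FaithfulSMul G Ω] [IsPretransitive G Ω] (a : Ω)
    (L : Subgroup G) [hL : L.Normal] (h : L ≤ stabilizer G a) : L = ⊥ := by
  rw [eq_bot_iff]
  intro x hx
  rw [Subgroup.mem_bot]
  apply FaithfulSMul.eq_of_smul_eq_smul (α := Ω)
  intro ω
  obtain ⟨g, rfl⟩ := exists_smul_eq G a ω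
  have h1 : g⁻¹ * x * g ∈ L := by
    have := hL.conj_mem x hx g⁻¹
    simpa using this
  have h2 := h h1
  rw [mem_stabilizer_iff, mul_smul, mul_smul] at h2
  rw [one_smul]
  rw [inv_smul_eq_iff] at h2
  exact h2

theorem card_stabilizer_eq [Finite G] [IsPretransitive G Ω] (a b : Ω) :
    Nat.card (stabilizer G a) = Nat.card (stabilizer G b) := by
  obtain ⟨g, rfl⟩ := exists_smul_eq G a b
  exact Nat.card_congr (stabilizerEquivStabilizer (rfl : g • a = g • a)).toEquiv

theorem isCoatom_stabilizer (hprim : IsPreprimitive G Ω) {a b : Ω} (hab : a ≠ b) (c : Ω) :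
    IsCoatom (stabilizer G c) := by
  have : Nontrivial Ω := ⟨a, b, hab⟩
  exact IsPreprimitive.isCoatom_stabilizer_of_isPreprimitive G c

/-- A subgroup normalized by a maximal subgroup `H` and by something outside is normal. -/
theorem normal_of_coatom (H L : Subgroup G) (hH : IsCoatom H) (h1 : H ≤ Subgroup.normalizer (L : Set G))
    (K : Subgroup G) (hK : ¬ K ≤ H) (h2 : K ≤ Subgroup.normalizer (L : Set G)) : L.Normal := by
  rw [← Subgroup.normalizer_eq_top_iff]
  rcases hH.le_iff.mp h1 with h | h
  · exact h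
  · exact absurd (h ▸ h2) hK

/-- The suborbit length as a relative index. -/
theorem relIndex_eq_card_orbit (a b : Ω) :
    (stabilizer G b).relIndex (stabilizer G a) = Nat.card (orbit (stabilizer G a) b) := by
  rw [Subgroup.relIndex]
  have : (stabilizer G b).subgroupOf (stabilizer G a) = stabilizer (stabilizer G a) b := by
    ext x
    simp [Subgroup.mem_subgroupOf, mem_stabilizer_iff, Subgroup.smul_def]
  rw [this, index_stabilizer, Nat.card_coe_set_eq]

theorem relIndex_comm [Finite G] [IsPretransitive G Ω] (a b : Ω) :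
    (stabilizer G b).relIndex (stabilizer G a) = (stabilizer G a).relIndex (stabilizer G b) := by
  have h1 := Subgroup.relIndex_mul_index (H := stabilizer G a ⊓ stabilizer G b) inf_le_left
  have h2 := Subgroup.relIndex_mul_index (H := stabilizer G a ⊓ stabilizer G b) inf_le_right
  rw [Subgroup.inf_relIndex_left] at h1
  rw [Subgroup.inf_relIndex_right] at h2
  have h3 : (stabilizer G a).index = (stabilizer G b).index := by
    have e1 := Subgroup.card_mul_index (stabilizer G a)
    have e2 := Subgroup.card_mul_index (stabilizer G b)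
    rw [card_stabilizer_eq a b] at e1
    exact Nat.eq_of_mul_eq_mul_left Nat.card_pos (e1.trans e2.symm)
  rw [h3] at h1
  exact Nat.eq_of_mul_eq_mul_right (Nat.pos_of_ne_zero Subgroup.index_ne_zero_of_finite)
    (h1.trans h2.symm)

/-- A stabilizer fixing a second point in a primitive faithful action is trivial. -/
theorem stabilizer_eq_bot_of_fix [Finite G] [FaithfulSMul G Ω] (hprim : IsPreprimitive G Ω)
    (a b : Ω) (hab : a ≠ b) (hfix : ∀ g : G, g • a = a → g • b = b) : stabilizer G a = ⊥ := by
  have : IsPretransitive G Ω := hprim.toIsPretransitive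
  have hle : stabilizer G a ≤ stabilizer G b := fun g hg => hfix g hg
  have heq : stabilizer G a = stabilizer G b :=
    Subgroup.eq_of_le_of_card_ge hle (card_stabilizer_eq a b).ge
  obtain ⟨g, hg⟩ := exists_smul_eq G a b
  have hN : g ∈ Subgroup.normalizer (stabilizer G a : Set G) := by
    rw [Subgroup.mem_normalizer_iff]
    intro h
    nth_rewrite 2 [heq]
    rw [mem_stabilizer_iff, mem_stabilizer_iff, ← hg, mul_smul, mul_smul, inv_smul_smul,
      smul_left_cancel_iff]
  have hnot : ¬ Subgroup.zpowers g ≤ stabilizer G a := by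
    intro h
    have := h (Subgroup.mem_zpowers g)
    rw [mem_stabilizer_iff, hg] at this
    exact hab this.symm
  have hnorm : (stabilizer G a).Normal :=
    normal_of_coatom (stabilizer G a) (stabilizer G a) (isCoatom_stabilizer hprim hab a)
      Subgroup.le_normalizer (Subgroup.zpowers g) hnot (by rwa [Subgroup.zpowers_le])
  exact normal_le_stabilizer_eq_bot a _ le_rfl

/-- A finite group whose trivial subgroup is maximal is cyclic of prime order. -/
theorem prime_of_isCoatom_bot [Finite G] (h : IsCoatom (⊥ : Subgroup G)) :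
    IsCyclic G ∧ (Nat.card G).Prime := by
  have hcard : Nat.card G ≠ 1 := by
    intro h1
    apply h.1
    rw [eq_comm, Subgroup.eq_bot_iff_card, Subgroup.card_top, h1]
  obtain ⟨p, hp, hpd⟩ := Nat.exists_prime_and_dvd hcard
  have : Fact p.Prime := ⟨hp⟩
  obtain ⟨x, hx⟩ := exists_prime_orderOf_dvd_card' p hpd
  have hx1 : x ≠ 1 := by
    rintro rfl
    rw [orderOf_one] at hx
    exact hp.one_lt.ne hx
  have htop : Subgroup.zpowers x = ⊤ := by
    rcases h.le_iff.mp (bot_le : ⊥ ≤ Subgroup.zpowers x) with h1 | h1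
    · exact h1
    · exact absurd (Subgroup.zpowers_eq_bot.mp h1) hx1
  refine ⟨⟨x, fun y => Subgroup.mem_zpowers_iff.mp (by rw [htop]; trivial)⟩, ?_⟩
  have : Nat.card G = p := by
    rw [← hx, ← Nat.card_zpowers, htop, Subgroup.card_top]
  rw [this]
  exact hp

end H64.Prim

namespace H64.Prim.Dihedral

variable {G : Type*} [Group G]

/-- Recognition of the dihedral group of order `2n` from a rotation and a reflection. -/
theorem equiv_of [Finite G] (n : ℕ) [NeZero n] (r s : G) (hr : orderOf r = n) (hs : s * s = 1)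
    (hrs : s * r * s = r⁻¹) (hns : s ∉ Subgroup.zpowers r) (hcard : Nat.card G = 2 * n) :
    Nonempty (G ≃* DihedralGroup n) := by
  have hpow : ∀ m : ℕ, r ^ (m % n) = r ^ m := fun m => by rw [← hr, pow_mod_orderOf]
  let ρ : ZMod n → G := fun i => r ^ i.val
  have hρ0 : ρ 0 = 1 := by simp [ρ]
  have hρadd : ∀ i j, ρ (i + j) = ρ i * ρ j := by
    intro i j
    simp only [ρ]
    rw [ZMod.val_add, hpow, pow_add]
  have hρneg : ∀ i, ρ (-i) = (ρ i)⁻¹ := by
    intro i
    rw [eq_inv_iff_mul_eq_one, ← hρadd, neg_add_cancel, hρ0]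
  have hρcomm : ∀ i j, ρ i * ρ j = ρ j * ρ i := by
    intro i j
    rw [← hρadd, add_comm, hρadd]
  have hsinv : s⁻¹ = s := by rw [inv_eq_iff_mul_eq_one]; exact hs
  have hconj : ∀ m : ℕ, s * r ^ m * s = (r ^ m)⁻¹ := by
    intro m
    have h1 : s * r ^ m * s⁻¹ = (s * r * s⁻¹) ^ m := by rw [conj_pow]
    rw [hsinv] at h1
    rw [h1, hrs, inv_pow]
  have hρs : ∀ i, ρ i * s = s * ρ (-i) := by
    intro i
    have h1 := hconj i.val
    have h2 : s * ρ i * s = (ρ i)⁻¹ := h1
    rw [hρneg, ← h2, ← mul_assoc, ← mul_assoc, hs, one_mul]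
  let f : DihedralGroup n → G := fun x => match x with
    | .r i => ρ i
    | .sr i => s * ρ i
  have hfm : ∀ x y, f (x * y) = f x * f y := by
    rintro (i | i) (j | j)
    · change ρ (i + j) = ρ i * ρ j
      exact hρadd i j
    · change s * ρ (j - i) = ρ i * (s * ρ j)
      rw [← mul_assoc, hρs, mul_assoc, ← hρadd, sub_eq_neg_add]
    · change s * ρ (i + j) = s * ρ i * ρ j
      rw [hρadd, mul_assoc]
    · change ρ (j - i) = s * ρ i * (s * ρ j)
      rw [← mul_assoc, mul_assoc s (ρ i) s, hρs, ← mul_assoc, hs, one_mul, ← hρadd, sub_eq_neg_add]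
  let F : DihedralGroup n →* G := MonoidHom.mk' f hfm
  have hmem : ∀ i, ρ i ∈ Subgroup.zpowers r := fun i => Subgroup.npow_mem_zpowers r _
  have hinj : Function.Injective F := by
    rw [injective_iff_map_eq_one]
    rintro (i | i) h
    · change ρ i = 1 at h
      have h1 : orderOf r ∣ i.val := orderOf_dvd_of_pow_eq_one h
      rw [hr] at h1
      have h2 : i = 0 := by
        have := (ZMod.val_eq_zero i).mp (Nat.eq_zero_of_dvd_of_lt h1 (ZMod.val_lt i))
        exact this
      rw [h2]; rfl
    · change s * ρ i = 1 at h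
      exfalso
      apply hns
      rw [eq_inv_of_mul_eq_one_left h]
      exact Subgroup.inv_mem _ (hmem i)
  have hbij : Function.Bijective F := by
    have : Fintype G := Fintype.ofFinite G
    rw [Fintype.bijective_iff_injective_and_card]
    refine ⟨hinj, ?_⟩
    rw [DihedralGroup.card, ← Nat.card_eq_fintype_card, hcard]
  exact ⟨(MulEquiv.ofBijective F hbij).symm⟩

end H64.Prim.Dihedral
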