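import Cfsg.Agent.Lib.H89.MX0

/-!
# S5316, piece PE (helper89): extension of a partial automorphism to `C_S(V2)`
-/

set_option autoImplicit false

namespace H64.MXPE

open Subgroup Cfsg Cfsg.FusionSystem H67.HallPetrescu H57.Mc H89.MX
open H86.FusBasic H86.FusSat H86.FusAlperin H57.Ess

variable {Ω : Type*} [Group Ω] {S : Subgroup Ω} [Finite S] {p n : ℕ} [hp : Fact p.Prime] {F : FusionSystem S} {E C W B : Subgroup Ω} {τ : MulAut E}

theorem part_ext (hS : IsPGroup p ↥S) (hF : F.IsSaturated p) {V3 V2 : Subgroup Ω} (h3 : V3 ≤ S)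
    (h23 : V2 ≤ V3) (n3 : ∀ g ∈ S, ∀ v ∈ V3, g * v * g⁻¹ ∈ V3)
    (n2 : ∀ g ∈ S, ∀ v ∈ V2, g * v * g⁻¹ ∈ V2) (hab : ∀ x ∈ V3, ∀ y ∈ V3, x * y = y * x)
    (hi : V2.relIndex V3 = p)
    {φ : MulAut V3} (hφ : φ ∈ F.autGroup V3) (f2 : ∀ v : V3, (v : Ω) ∈ V2 → ((φ v : V3) : Ω) ∈ V2) :
    ∃ ψ ∈ F.autGroup (centralizerIn S V2), ∀ (v : V3) (hv : (v : Ω) ∈ centralizerIn S V2),
      ((ψ ⟨v, hv⟩ : centralizerIn S V2) : Ω) = φ v := by
  have hfV : Finite V3 := finite_of_le h3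
  have hfA : Finite (MulAut V3) := finite_mulAut V3
  have mN : ∀ (V : Subgroup Ω), (∀ g ∈ S, ∀ v ∈ V, g * v * g⁻¹ ∈ V) → S ≤ normalizer (V : Set Ω) := by
    intro V hV g hg
    rw [Subgroup.mem_normalizer_iff]
    intro x
    refine ⟨fun hx => hV g hg x hx, fun hx => ?_⟩
    have h1 := hV g⁻¹ (S.inv_mem hg) _ hx
    have h4 : g⁻¹ * (g * x * g⁻¹) * g⁻¹⁻¹ = x := by group
    rwa [h4] at h1
  have N3 := mN V3 n3
  have N2 := mN V2 n2
  have hnS : normalizerIn S V3 = S := inf_eq_left.mpr N3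
  have hfn : F.IsFullyNormalized V3 := by
    refine ⟨h3, fun Q _ => ?_⟩
    rw [hnS]
    have : Finite S := inferInstance
    exact Nat.card_le_card_of_injective (Subgroup.inclusion (normalizerIn_le S Q))
      (Subgroup.inclusion_injective _)
  have hrec : F.IsReceptive V3 := receptive_of_fullyNormalized hS hF hfn
  have hsyl := sylIn_aut hS hF hfn
  -- the chain
  let d : ℕ → Subgroup V3 := fun i => if i = 0 then ⊥ else if i = 1 then V2.subgroupOf V3 else ⊤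
  have d0 : d 0 = ⊥ := by simp [d]
  have d1 : d 1 = V2.subgroupOf V3 := by simp [d]
  have d2 : d 2 = ⊤ := by simp [d]
  have hm : Monotone d := by
    refine monotone_nat_of_le_succ fun i => ?_
    rcases i with _ | _ | i
    · rw [d0]; exact bot_le
    · show d 1 ≤ d 2
      rw [d2]; exact le_top
    · have : d (i + 2 + 1) = ⊤ := by simp [d]
      rw [this]; exact le_top
  have hchain : IsPGroup p (chainStab d 2 hm) := isPGroup_chainStab (hS.to_le h3) d0 d2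
  -- membership in the chain stabilizer
  have memU : ∀ β : MulAut V3, β ∈ chainStab d 2 hm ↔
      (∀ x : V3, (x : Ω) ∈ V2 → β x = x) ∧ ∀ x : V3, ((x⁻¹ * β x : V3) : Ω) ∈ V2 := by
    intro β
    rw [mem_chainStab]
    constructor
    · intro h
      refine ⟨fun x hx => ?_, fun x => ?_⟩
      · have h1 := h 0 (by norm_num) x (by rw [zero_add, d1]; exact Subgroup.mem_subgroupOf.2 hx)
        rw [d0, Subgroup.mem_bot] at h1
        exact (inv_mul_eq_one.mp h1).symm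
      · have h1 := h 1 (by norm_num) x (by show x ∈ d 2; rw [d2]; exact Subgroup.mem_top _)
        rw [d1] at h1
        exact Subgroup.mem_subgroupOf.1 h1
    · rintro ⟨h1, h4⟩ i hi2 x hx
      interval_cases i
      · rw [zero_add, d1] at hx
        rw [d0, Subgroup.mem_bot, h1 x (Subgroup.mem_subgroupOf.1 hx), inv_mul_cancel]
      · rw [d1]
        exact Subgroup.mem_subgroupOf.2 (h4 x)
  let U : Subgroup (MulAut V3) := chainStab d 2 hm ⊓ F.autGroup V3
  have hUp : IsPGroup p U := hchain.to_le inf_le_left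
  -- conjugation by an automorphism preserving `V2`
  have inv2 : ∀ α : MulAut V3, (∀ v : V3, (v : Ω) ∈ V2 → ((α v : V3) : Ω) ∈ V2) →
      ∀ v : V3, (v : Ω) ∈ V2 → ((α⁻¹ v : V3) : Ω) ∈ V2 := by
    intro α hα v hv
    have hfin : Finite (V2.subgroupOf V3) := inferInstance
    let f : V2.subgroupOf V3 → V2.subgroupOf V3 := fun w =>
      ⟨α w, Subgroup.mem_subgroupOf.2 (hα w (Subgroup.mem_subgroupOf.1 w.2))⟩
    have hf : Function.Injective f := by
      intro a b hab'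
      have h1 : α a = α b := congrArg Subtype.val hab'
      exact Subtype.ext (α.injective h1)
    obtain ⟨w, hw⟩ := Finite.injective_iff_surjective.1 hf ⟨v, Subgroup.mem_subgroupOf.2 hv⟩
    have h1 : α w = v := congrArg Subtype.val hw
    have h4 : α⁻¹ v = w := by rw [← h1, MulAut.inv_apply_self]
    rw [h4]
    exact Subgroup.mem_subgroupOf.1 w.2
  have conjU : ∀ α ∈ F.autGroup V3, (∀ v : V3, (v : Ω) ∈ V2 → ((α v : V3) : Ω) ∈ V2) →
      ∀ β ∈ U, α * β * α⁻¹ ∈ U := by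
    rintro α hα hα2 β ⟨hβ, hβ'⟩
    refine ⟨(memU _).2 ⟨fun x hx => ?_, fun x => ?_⟩,
      Subgroup.mul_mem _ (Subgroup.mul_mem _ hα hβ') (Subgroup.inv_mem _ hα)⟩
    · rw [MulAut.mul_apply, MulAut.mul_apply, ((memU β).1 hβ).1 _ (inv2 α hα2 x hx),
        MulAut.apply_inv_self]
    · have key : x⁻¹ * (α * β * α⁻¹) x = α ((α⁻¹ x)⁻¹ * β (α⁻¹ x)) := by
        rw [map_mul, map_inv, MulAut.apply_inv_self, MulAut.mul_apply, MulAut.mul_apply]
      rw [key]
      exact hα2 _ (((memU β).1 hβ).2 _)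
  -- `U` is contained in `Aut_S(V3)`
  have hRp : IsPGroup p (autInducedBy S V3) := by
    have := hsyl.exists_sylow
    obtain ⟨hle, R, hR⟩ := (H89.Syl.sylIn_iff).1 hsyl
    have h1 : IsPGroup p ((autInducedBy S V3).subgroupOf (F.autGroup V3)) := by rw [← hR]; exact R.2
    exact h1.of_equiv (Subgroup.subgroupOfEquivOfLe hle)
  have hRle : autInducedBy S V3 ≤ F.autGroup V3 := autInducedBy_le_autGroup F h3
  have hnorm : autInducedBy S V3 ≤ normalizer (U : Set (MulAut V3)) := by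
    intro α hα
    obtain ⟨g, hg, hgx⟩ := mem_autInducedBy.1 hα
    have p1 : ∀ v : V3, (v : Ω) ∈ V2 → ((α v : V3) : Ω) ∈ V2 := fun v hv => by
      rw [hgx]; exact n2 g hg _ hv
    rw [Subgroup.mem_normalizer_iff]
    intro β
    refine ⟨fun hβ => conjU α (hRle hα) p1 β hβ, fun hβ => ?_⟩
    have h1 := conjU α⁻¹ (Subgroup.inv_mem _ (hRle hα)) (inv2 α p1) _ hβ
    have h4 : α⁻¹ * (α * β * α⁻¹) * α⁻¹⁻¹ = β := by group
    rwa [h4] at h1
  have hsup : IsPGroup p (autInducedBy S V3 ⊔ U : Subgroup (MulAut V3)) :=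
    hRp.to_sup_of_normal_right' hUp hnorm
  have hUR : U ≤ autInducedBy S V3 := by
    have h1 := hsyl.eq_of_le (le_sup_left : autInducedBy S V3 ≤ autInducedBy S V3 ⊔ U)
      (sup_le hRle inf_le_right) hsup
    rw [h1]; exact le_sup_right
  -- the extension
  have hCS : centralizerIn S V2 ≤ S := inf_le_left
  have hVC : V3 ≤ centralizerIn S V2 := fun x hx => ⟨h3 hx, Subgroup.mem_centralizer_iff.2
    (fun y hy => hab y (h23 hy) x hx)⟩
  have hCN : centralizerIn S V2 ≤ normalizer (V3 : Set Ω) := hCS.trans N3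
  have hgU : ∀ g (hg : g ∈ centralizerIn S V2), conjAut V3 (hCN hg) ∈ U := by
    intro g hg
    refine ⟨(memU _).2 ⟨fun x hx => ?_, fun x => ?_⟩, hRle (conjAut_mem_autInducedBy (hCN hg) (hCS hg))⟩
    · apply Subtype.ext
      show g * (x : Ω) * g⁻¹ = x
      have := Subgroup.mem_centralizer_iff.1 hg.2 x hx
      rw [← this]; group
    · show (x : Ω)⁻¹ * (g * (x : Ω) * g⁻¹) ∈ V2
      exact comm_mem_of_relIndex hS h23 h3 N2 N3 hi x.2 (hCS hg)
  have he : IsIso F (φ : V3 ≃* V3) := (H86.FusBasic.mem_autGroup F h3).1 hφ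
  obtain ⟨ψ, hψ, hψx⟩ := receptive_extend' hrec he hVC hCS hCN
    (fun g hg => hUR (conjU φ hφ f2 _ (hgU g hg)))
  have hle : ψ.range ≤ centralizerIn S V2 := by
    rintro _ ⟨g, rfl⟩
    refine ⟨apply_mem F hψ g, Subgroup.mem_centralizer_iff.2 fun y hy => ?_⟩
    have h1 := inv2 φ f2 ⟨y, h23 hy⟩ hy
    have h4 : ψ ⟨(φ⁻¹ ⟨y, h23 hy⟩ : V3), hVC (φ⁻¹ ⟨y, h23 hy⟩ : V3).2⟩ = y := by
      rw [hψx (φ⁻¹ ⟨y, h23 hy⟩ : V3)]
      show ((φ (φ⁻¹ ⟨y, h23 hy⟩) : V3) : Ω) = y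
      rw [MulAut.apply_inv_self]
    have h5 : (⟨(φ⁻¹ ⟨y, h23 hy⟩ : V3), hVC (φ⁻¹ ⟨y, h23 hy⟩ : V3).2⟩ : centralizerIn S V2) * g
        = g * ⟨(φ⁻¹ ⟨y, h23 hy⟩ : V3), hVC (φ⁻¹ ⟨y, h23 hy⟩ : V3).2⟩ :=
      Subtype.ext (Subgroup.mem_centralizer_iff.1 g.2.2 _ h1)
    have h6 := congrArg ψ h5
    rw [map_mul, map_mul, h4] at h6
    exact h6
  have hfC : Finite (centralizerIn S V2) := finite_of_le hCS
  have hr : ψ.range = centralizerIn S V2 := by
    apply Subgroup.eq_of_le_of_card_ge hle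
    rw [← Nat.card_congr (MonoidHom.ofInjective (F.injective_of_mem hψ)).toEquiv]
  have hiso := isIso_toEquiv F hψ hr
  exact ⟨_, hiso.mem_autGroup, fun v hv => hψx v⟩

end H64.MXPE
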