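import Mathlib

set_option autoImplicit false

/-! A computable field with 8 elements. -/

namespace H64

/-- The field with 8 elements, as bit vectors modulo `x^3 + x + 1`. -/
def F8 : Type := Fin 8

namespace F8

instance : DecidableEq F8 := inferInstanceAs (DecidableEq (Fin 8))
instance : Fintype F8 := inferInstanceAs (Fintype (Fin 8))

/-- multiplication table -/
def TAB : ℕ := 2821848294356612419217921029917578219971947684264937521152

/-- the element with code `n` -/
def c (n : ℕ) : F8 := (⟨n % 8, Nat.mod_lt _ (by norm_num)⟩ : Fin 8)

/-- the code of an element -/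
def code (a : F8) : ℕ := Fin.val (n := 8) a

def add (a b : F8) : F8 := c (Nat.xor a.code b.code)
def mul (a b : F8) : F8 := c (Nat.shiftRight TAB (3 * (8 * a.code + b.code)))
def inv (a : F8) : F8 := c (Nat.shiftRight 9272648 (3 * a.code))

instance : Zero F8 := ⟨c 0⟩
instance : One F8 := ⟨c 1⟩
instance : Add F8 := ⟨add⟩
instance : Mul F8 := ⟨mul⟩
instance : Neg F8 := ⟨id⟩
instance : Inv F8 := ⟨inv⟩

instance : CommRing F8 where
  add_assoc := by decide +kernel
  zero_add := by decide +kernel
  add_zero := by decide +kernel
  add_comm := by decide +kernel
  neg_add_cancel := by decide +kernel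
  left_distrib := by decide +kernel
  right_distrib := by decide +kernel
  zero_mul := by decide +kernel
  mul_zero := by decide +kernel
  mul_assoc := by decide +kernel
  one_mul := by decide +kernel
  mul_one := by decide +kernel
  mul_comm := by decide +kernel
  nsmul := nsmulRec
  zsmul := zsmulRec

instance : Field F8 where
  inv := inv
  exists_pair_ne := ⟨0, 1, by decide +kernel⟩
  mul_inv_cancel := by decide +kernel
  inv_zero := by decide +kernel
  nnqsmul := _
  nnqsmul_def := fun _ _ => rfl
  qsmul := _
  qsmul_def := fun _ _ => rfl

theorem card : Fintype.card F8 = 8 := rfl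

theorem card' : Fintype.card F8 = 2 ^ (2 * 1 + 1) := rfl

/-- the Frobenius automorphism -/
def frob : F8 ≃+* F8 where
  toFun x := x ^ 2
  invFun x := x ^ 4
  left_inv := by decide +kernel
  right_inv := by decide +kernel
  map_mul' := by decide +kernel
  map_add' := by decide +kernel

end F8

end H64
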