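import Mathlib

set_option autoImplicit false

/-! Groups of shape `2^{1+4}.A_5` with involutions outside the centre of the extraspecial group: frames. -/

namespace H64.J2

variable {C : Type*} [Group C]

theorem card_eq_ncard (W : Subgroup C) : Nat.card W = (W : Set C).ncard := Nat.card_coe_set_eq (W : Set C)

/-- fixed points of an element of prime order on an invariant subgroup -/
theorem card_fix_mod [Finite C] {p : ℕ} (hp : p.Prime) {x : C} (hx : orderOf x = p) {W : Subgroup C}
    (hW : ∀ w ∈ W, x * w * x⁻¹ ∈ W) :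
    Nat.card W ≡ Nat.card (W ⊓ Subgroup.centralizer ({x} : Set C) : Subgroup C) [MOD p] := by
  have hpf : Fact p.Prime := ⟨hp⟩
  have hWk : ∀ k : ℕ, ∀ w ∈ W, x ^ k * w * (x ^ k)⁻¹ ∈ W := by
    intro k
    induction k with
    | zero => intro w hw; simpa using hw
    | succ k ih =>
      intro w hw
      have e : x ^ (k + 1) * w * (x ^ (k + 1))⁻¹ = x * (x ^ k * w * (x ^ k)⁻¹) * x⁻¹ := by
        rw [pow_succ']; group
      rw [e]
      exact hW _ (ih w hw)
  have hWz : ∀ g ∈ Subgroup.zpowers x, ∀ w ∈ W, g * w * g⁻¹ ∈ W := by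
    intro g hg w hw
    obtain ⟨k, rfl⟩ := (isOfFinOrder_of_finite x).mem_powers_iff_mem_zpowers.2 hg
    exact hWk k w hw
  let act : MulAction (Subgroup.zpowers x) W :=
    { smul := fun g w => ⟨g * w * (g : C)⁻¹, hWz g g.2 w w.2⟩
      one_smul := fun w => Subtype.ext (by change (1 : C) * w * (1 : C)⁻¹ = w; simp)
      mul_smul := fun a b w => Subtype.ext (by
        change ((a : C) * b) * w * ((a : C) * b)⁻¹ = a * (b * w * (b : C)⁻¹) * (a : C)⁻¹
        group) }
  have hpg : IsPGroup p (Subgroup.zpowers x) := IsPGroup.of_card (n := 1) (by rw [Nat.card_zpowers, hx, pow_one])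
  have hmod := hpg.card_modEq_card_fixedPoints W
  have hfp : Nat.card (MulAction.fixedPoints (Subgroup.zpowers x) W) =
      Nat.card (W ⊓ Subgroup.centralizer ({x} : Set C) : Subgroup C) := by
    refine Nat.card_congr ⟨fun w => ⟨w.1.1, w.1.2, ?_⟩, fun w => ⟨⟨w.1, w.2.1⟩, ?_⟩, fun w => rfl, fun w => rfl⟩
    · have h1 := w.2 ⟨x, Subgroup.mem_zpowers x⟩
      have h2 : x * (w.1 : C) * x⁻¹ = w.1 := congrArg Subtype.val h1
      change (w.1 : C) ∈ Subgroup.centralizer ({x} : Set C)
      rw [Subgroup.mem_centralizer_singleton_iff]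
      exact (mul_inv_eq_iff_eq_mul.1 h2).symm
    · rw [MulAction.mem_fixedPoints]
      intro g
      apply Subtype.ext
      change (g : C) * w.1 * (g : C)⁻¹ = w.1
      have h1 := Subgroup.mem_centralizer_singleton_iff.1 w.2.2
      obtain ⟨k, hk⟩ := Subgroup.mem_zpowers_iff.1 g.2
      rw [← hk]
      have h2 : Commute (w.1 : C) x := h1
      have h3 := (h2.zpow_right k).eq
      rw [← h3]
      group
  rw [hfp] at hmod
  exact hmod

/-- the basic data -/
structure Core (z : C) (Q : Subgroup C) : Prop where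
  zc : ∀ c : C, c * z = z * c
  zz : z * z = 1
  z1 : z ≠ 1
  zQ : z ∈ Q
  Qn : Q.Normal
  cardQ : Nat.card Q = 32
  cardC : Nat.card C = 1920
  comm : ∀ a ∈ Q, ∀ b ∈ Q, a * b = b * a ∨ a * b = z * (b * a)
  sq : ∀ a ∈ Q, a * a = 1 ∨ a * a = z
  cen : ∀ a ∈ Q, (∀ b ∈ Q, a * b = b * a) → a = 1 ∨ a = z
  self : ∀ c : C, (∀ q ∈ Q, c * q = q * c) → c ∈ Q
  inv : ∃ y ∈ Q, y * y = 1 ∧ y ≠ 1 ∧ y ≠ z

/-- five anticommuting involutions -/
structure Frame (z : C) (Q : Subgroup C) (y : Fin 5 → C) : Prop where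
  mem : ∀ i, y i ∈ Q
  sq : ∀ i, y i * y i = 1
  anti : ∀ i j, i ≠ j → y i * y j = z * (y j * y i)
  prod : y 0 * (y 1 * (y 2 * (y 3 * y 4))) = 1

/-! ### an element of order five -/

section five
variable [Finite C] {z : C} {Q : Subgroup C} (h : Core z Q) {x : C} (hx : orderOf x = 5)
include h hx

omit [Finite C] in
theorem Core.commute_of {q : C} (hf : x * q * x⁻¹ = q ∨ x * q * x⁻¹ = z * q) : x * q = q * x := by
  have hx5 : x ^ 5 = 1 := by rw [← hx, pow_orderOf_eq_one]
  rcases hf with h1 | h1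
  · calc x * q = x * q * x⁻¹ * x := by group
      _ = q * x := by rw [h1]
  · have h2 : x * q = z * q * x := by
      calc x * q = x * q * x⁻¹ * x := by group
        _ = z * q * x := by rw [h1]
    have h3 : x ^ 2 * q = q * x ^ 2 := by
      calc x ^ 2 * q = x * (x * q) := by rw [pow_two, mul_assoc]
        _ = x * z * q * x := by rw [h2]; group
        _ = z * (x * q) * x := by rw [h.zc]; group
        _ = z * z * q * x * x := by rw [h2]; group
        _ = q * x ^ 2 := by rw [h.zz, pow_two]; group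
    have h4 : Commute (x ^ 2) q := h3
    have h5 := h4.pow_left 3
    rw [← pow_mul, show 2 * 3 = 5 + 1 by norm_num, pow_succ, hx5, one_mul] at h5
    exact h5

/-- an element of order five has no fixed points on `Q` outside the centre -/
theorem Core.fix5 {q : C} (hq : q ∈ Q) (hf : x * q * x⁻¹ = q ∨ x * q * x⁻¹ = z * q) : q = 1 ∨ q = z := by
  have hcomm := h.commute_of hx hf
  have h1 := card_fix_mod (by norm_num : Nat.Prime 5) hx (W := Q) (fun w hw => h.Qn.conj_mem w hw x)
  rw [h.cardQ] at h1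
  have hdvd : Nat.card (Q ⊓ Subgroup.centralizer ({x} : Set C) : Subgroup C) ∣ 32 :=
    h.cardQ ▸ Subgroup.card_dvd_of_le inf_le_left
  have hle : Nat.card (Q ⊓ Subgroup.centralizer ({x} : Set C) : Subgroup C) ≤ 32 := Nat.le_of_dvd (by norm_num) hdvd
  have hne : Nat.card (Q ⊓ Subgroup.centralizer ({x} : Set C) : Subgroup C) ≠ 32 := by
    intro h2
    have h3 : (Q ⊓ Subgroup.centralizer ({x} : Set C) : Subgroup C) = Q :=
      Subgroup.eq_of_le_of_card_ge inf_le_left (by rw [h2, h.cardQ])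
    have h4 : x ∈ Q := h.self x fun q hq => by
      rw [← h3] at hq
      exact (Subgroup.mem_centralizer_singleton_iff.1 hq.2).symm
    have h5 : orderOf x ∣ 32 := by
      rw [← h.cardQ, ← Subgroup.orderOf_mk x h4]
      exact orderOf_dvd_natCard _
    rw [hx] at h5
    norm_num at h5
  have h2 : Nat.card (Q ⊓ Subgroup.centralizer ({x} : Set C) : Subgroup C) = 2 := by
    have h3 : 32 % 5 = Nat.card (Q ⊓ Subgroup.centralizer ({x} : Set C) : Subgroup C) % 5 := h1
    generalize Nat.card (Q ⊓ Subgroup.centralizer ({x} : Set C) : Subgroup C) = n at *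
    interval_cases n <;> simp_all
  by_contra hcon
  push Not at hcon
  have hz : z ∈ (Q ⊓ Subgroup.centralizer ({x} : Set C) : Subgroup C) :=
    ⟨h.zQ, Subgroup.mem_centralizer_singleton_iff.2 (h.zc x).symm⟩
  have hq' : q ∈ (Q ⊓ Subgroup.centralizer ({x} : Set C) : Subgroup C) :=
    ⟨hq, Subgroup.mem_centralizer_singleton_iff.2 hcomm.symm⟩
  have h3 : ({1, z, q} : Set C).ncard ≤ Nat.card (Q ⊓ Subgroup.centralizer ({x} : Set C) : Subgroup C) := by
    rw [card_eq_ncard]
    refine Set.ncard_le_ncard ?_ (Set.toFinite _)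
    rintro w (rfl | rfl | rfl)
    · exact Subgroup.one_mem _
    · exact hz
    · exact hq'
  rw [h2, Set.ncard_eq_three.2 ⟨1, z, q, h.z1.symm, hcon.1.symm, hcon.2.symm, rfl⟩] at h3
  omega

/-- subgroups of `Q` invariant under `x` -/
theorem Core.card_inv {W : Subgroup C} (hWQ : W ≤ Q) (hzW : z ∈ W) (hW : ∀ w ∈ W, x * w * x⁻¹ ∈ W) :
    Nat.card W = 2 ∨ W = Q := by
  have h1 := card_fix_mod (by norm_num : Nat.Prime 5) hx (W := W) hW
  have h2 : Nat.card (W ⊓ Subgroup.centralizer ({x} : Set C) : Subgroup C) = 2 := by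
    rw [card_eq_ncard]
    have : ((W ⊓ Subgroup.centralizer ({x} : Set C) : Subgroup C) : Set C) = {1, z} := by
      ext w
      constructor
      · rintro ⟨hw1, hw2⟩
        refine h.fix5 hx (hWQ hw1) (Or.inl ?_)
        rw [← (Subgroup.mem_centralizer_singleton_iff.1 hw2)]
        group
      · rintro (rfl | rfl)
        · exact Subgroup.one_mem _
        · exact ⟨hzW, Subgroup.mem_centralizer_singleton_iff.2 (h.zc x).symm⟩
    rw [this, Set.ncard_pair h.z1.symm]
  rw [h2] at h1
  have hdvd : Nat.card W ∣ 32 := h.cardQ ▸ Subgroup.card_dvd_of_le hWQ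
  have h3 : Nat.card W % 5 = 2 := h1
  have h4 : Nat.card W ≤ 32 := Nat.le_of_dvd (by norm_num) hdvd
  have h5 : Nat.card W = 2 ∨ Nat.card W = 32 := by
    generalize Nat.card W = n at *
    interval_cases n <;> simp_all
  rcases h5 with h5 | h5
  · exact Or.inl h5
  · exact Or.inr (Subgroup.eq_of_le_of_card_ge hWQ (by rw [h5, h.cardQ]))

omit [Finite C] h hx in
theorem pow_conj_succ {x q : C} (k : ℕ) : x * (x ^ k * q * (x ^ k)⁻¹) * x⁻¹ = x ^ (k + 1) * q * (x ^ (k + 1))⁻¹ := by
  rw [pow_succ']; group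

/-- existence of a frame -/
theorem Core.exists_frame : ∃ y : Fin 5 → C, Frame z Q y := by
  have hx5 : x ^ 5 = 1 := by rw [← hx, pow_orderOf_eq_one]
  obtain ⟨u, huQ, hu2, hu1, huz⟩ := h.inv
  -- the conjugates
  obtain ⟨y, hy⟩ : ∃ y : Fin 5 → C, ∀ i, y i = x ^ (i : ℕ) * u * (x ^ (i : ℕ))⁻¹ := ⟨_, fun i => rfl⟩
  have hyQ : ∀ i, y i ∈ Q := fun i => by rw [hy]; exact h.Qn.conj_mem u huQ _
  have hysq : ∀ i, y i * y i = 1 := fun i => by
    rw [hy]
    calc x ^ (i : ℕ) * u * (x ^ (i : ℕ))⁻¹ * (x ^ (i : ℕ) * u * (x ^ (i : ℕ))⁻¹) = x ^ (i : ℕ) * (u * u) * (x ^ (i : ℕ))⁻¹ := by group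
      _ = 1 := by rw [hu2]; group
  have hx1 : ∀ i, x * y i * x⁻¹ = y (i + 1) := by
    intro i
    rw [hy, hy, pow_conj_succ]
    fin_cases i
    · rfl
    · rfl
    · rfl
    · rfl
    · change x ^ 5 * u * (x ^ 5)⁻¹ = x ^ 0 * u * (x ^ 0)⁻¹
      rw [hx5, pow_zero]
  have hy0 : y 0 = u := by rw [hy]; change x ^ 0 * u * (x ^ 0)⁻¹ = u; simp
  -- the commutation relations
  have rel : ∀ d : Fin 5, ∃ c : C, (c = 1 ∨ c = z) ∧ ∀ i, y i * y (i + d) = c * (y (i + d) * y i) := by
    intro d
    have step : ∀ c : C, (∀ g, g * c = c * g) → ∀ i, y i * y (i + d) = c * (y (i + d) * y i) →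
        y (i + 1) * y (i + 1 + d) = c * (y (i + 1 + d) * y (i + 1)) := by
      intro c hc i hi
      have e : i + 1 + d = i + d + 1 := add_right_comm _ _ _
      rw [e, ← hx1 i, ← hx1 (i + d)]
      calc x * y i * x⁻¹ * (x * y (i + d) * x⁻¹) = x * (y i * y (i + d)) * x⁻¹ := by group
        _ = x * c * (y (i + d) * y i) * x⁻¹ := by rw [hi]; group
        _ = c * x * (y (i + d) * y i) * x⁻¹ := by rw [hc]
        _ = c * (x * y (i + d) * x⁻¹ * (x * y i * x⁻¹)) := by group
    have all : ∀ c : C, (∀ g, g * c = c * g) → y 0 * y (0 + d) = c * (y (0 + d) * y 0) →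
        ∀ i, y i * y (i + d) = c * (y (i + d) * y i) := by
      intro c hc h0
      have h1 := step c hc 0 h0
      have h2 := step c hc 1 h1
      have h3 := step c hc 2 h2
      have h4 := step c hc 3 h3
      intro i
      fin_cases i
      · exact h0
      · exact h1
      · exact h2
      · exact h3
      · exact h4
    rcases h.comm _ (hyQ 0) _ (hyQ (0 + d)) with h1 | h1
    · exact ⟨1, Or.inl rfl, all 1 (fun g => by rw [mul_one, one_mul]) (by rw [one_mul]; exact h1)⟩
    · exact ⟨z, Or.inr rfl, all z h.zc h1⟩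
  -- the product
  obtain ⟨p, hp⟩ : ∃ p, p = y 0 * (y 1 * (y 2 * (y 3 * y 4))) := ⟨_, rfl⟩
  have hpQ : p ∈ Q := by
    rw [hp]
    exact Q.mul_mem (hyQ 0) (Q.mul_mem (hyQ 1) (Q.mul_mem (hyQ 2) (Q.mul_mem (hyQ 3) (hyQ 4))))
  have hpx : x * p * x⁻¹ = y 0 * p * y 0 := by
    have e0 := hx1 0
    have e1 := hx1 1
    have e2 := hx1 2
    have e3 := hx1 3
    have e4 := hx1 4
    change x * y 0 * x⁻¹ = y 1 at e0
    change x * y 1 * x⁻¹ = y 2 at e1
    change x * y 2 * x⁻¹ = y 3 at e2
    change x * y 3 * x⁻¹ = y 4 at e3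
    change x * y 4 * x⁻¹ = y 0 at e4
    calc x * p * x⁻¹ = (x * y 0 * x⁻¹) * ((x * y 1 * x⁻¹) * ((x * y 2 * x⁻¹) * ((x * y 3 * x⁻¹) * (x * y 4 * x⁻¹)))) := by
          rw [hp]; group
      _ = y 1 * (y 2 * (y 3 * (y 4 * y 0))) := by rw [e0, e1, e2, e3, e4]
      _ = y 0 * y 0 * (y 1 * (y 2 * (y 3 * (y 4 * y 0)))) := by rw [hysq, one_mul]
      _ = y 0 * p * y 0 := by rw [hp]; group
  have hp1 : p = 1 ∨ p = z := by
    refine h.fix5 hx hpQ ?_
    rw [hpx]
    rcases h.comm _ (hyQ 0) _ hpQ with h1 | h1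
    · left
      rw [h1, mul_assoc, hysq, mul_one]
    · right
      rw [h1, mul_assoc, mul_assoc, hysq, mul_one]
  have hpp : p * p = 1 := by
    rcases hp1 with h1 | h1
    · rw [h1, mul_one]
    · rw [h1, h.zz]
  obtain ⟨c1, hc1, r1⟩ := rel 1
  obtain ⟨c2, hc2, r2⟩ := rel 2
  have z0 := h.zc (y 0)
  have z1 := h.zc (y 1)
  have z2 := h.zc (y 2)
  have z3 := h.zc (y 3)
  have z4 := h.zc (y 4)
  have zl : ∀ i w, y i * (z * w) = z * (y i * w) := fun i w => by rw [← mul_assoc, h.zc, mul_assoc]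
  have zzl : ∀ w, z * (z * w) = w := fun w => by rw [← mul_assoc, h.zz, one_mul]
  have sql : ∀ i w, y i * (y i * w) = w := fun i w => by rw [← mul_assoc, hysq, one_mul]
  -- sorting rules
  have sortr : ∀ c i j, (c = 1 ∨ c = z) → y i * y j = c * (y j * y i) → ∀ w, y j * (y i * w) = c * (y i * (y j * w)) := by
    intro c i j hc hij w
    have h1 : y j * y i = c * (y i * y j) := by
      rw [hij]
      rcases hc with rfl | rfl
      · simp
      · rw [zzl]
    rw [← mul_assoc, h1]
    group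
  have sortr' : ∀ c i j, (c = 1 ∨ c = z) → y i * y j = c * (y j * y i) → y j * y i = c * (y i * y j) := by
    intro c i j hc hij
    have := sortr c i j hc hij 1
    rwa [mul_one, mul_one] at this
  have a01 := sortr c1 0 1 hc1 (r1 0)
  have a12 := sortr c1 1 2 hc1 (r1 1)
  have a23 := sortr c1 2 3 hc1 (r1 2)
  have a34 := sortr c1 3 4 hc1 (r1 3)
  have a40 : ∀ w, y 4 * (y 0 * w) = c1 * (y 0 * (y 4 * w)) := sortr c1 0 4 hc1 (sortr' c1 4 0 hc1 (r1 4))
  have a02 := sortr c2 0 2 hc2 (r2 0)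
  have a13 := sortr c2 1 3 hc2 (r2 1)
  have a24 := sortr c2 2 4 hc2 (r2 2)
  have a30 : ∀ w, y 3 * (y 0 * w) = c2 * (y 0 * (y 3 * w)) := sortr c2 0 3 hc2 (sortr' c2 3 0 hc2 (r2 3))
  have a41 : ∀ w, y 4 * (y 1 * w) = c2 * (y 1 * (y 4 * w)) := sortr c2 1 4 hc2 (sortr' c2 4 1 hc2 (r2 4))
  have key : p * (p * 1) = 1 := by rw [mul_one, hpp]
  rw [hp] at key
  rcases hc1 with hc1 | hc1 <;> rcases hc2 with hc2 | hc2 <;> subst c1 <;> subst c2
  · -- everything commutes
    exfalso
    have hcomm : ∀ i j, y i * y j = y j * y i := by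
      intro i j
      have e : ∃ d, j = i + d := ⟨j - i, by rw [add_sub_cancel]⟩
      obtain ⟨d, rfl⟩ := e
      have s1 := fun i => r1 i
      have s2 := fun i => r2 i
      simp only [one_mul] at s1 s2
      fin_cases d
      · change y i * y (i + 0) = y (i + 0) * y i
        rw [add_zero]
      · exact s1 i
      · exact s2 i
      · have := s2 (i + 3)
        rw [add_assoc, show (3 : Fin 5) + 2 = 0 from rfl, add_zero] at this
        exact this.symm
      · have := s1 (i + 4)
        rw [add_assoc, show (4 : Fin 5) + 1 = 0 from rfl, add_zero] at this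
        exact this.symm
    let W : Subgroup C := Subgroup.closure (insert z (Set.range y))
    have hWQ : W ≤ Q := by
      rw [Subgroup.closure_le]
      rintro w (rfl | ⟨i, rfl⟩)
      · exact h.zQ
      · exact hyQ i
    have hzW : z ∈ W := Subgroup.subset_closure (Or.inl rfl)
    have hyW : ∀ i, y i ∈ W := fun i => Subgroup.subset_closure (Or.inr ⟨i, rfl⟩)
    have hWx : ∀ w ∈ W, x * w * x⁻¹ ∈ W := by
      intro w hw
      have h1 : W ≤ W.comap (MulAut.conj x).toMonoidHom := by
        rw [Subgroup.closure_le]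
        rintro w (rfl | ⟨i, rfl⟩)
        · change x * w * x⁻¹ ∈ W
          rw [h.zc, mul_inv_cancel_right]
          exact hzW
        · change x * y i * x⁻¹ ∈ W
          rw [hx1]
          exact hyW _
      exact h1 hw
    rcases h.card_inv hx hWQ hzW hWx with h1 | h1
    · have h3 : ({1, z, y 0} : Set C).ncard ≤ Nat.card W := by
        rw [card_eq_ncard]
        refine Set.ncard_le_ncard ?_ (Set.toFinite _)
        rintro w (rfl | rfl | rfl)
        · exact Subgroup.one_mem _
        · exact hzW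
        · exact hyW 0
      rw [h1, Set.ncard_eq_three.2 ⟨1, z, y 0, h.z1.symm, by rw [hy0]; exact hu1.symm, by rw [hy0]; exact huz.symm, rfl⟩] at h3
      omega
    · have h2 : W ≤ Subgroup.centralizer ({y 0} : Set C) := by
        rw [Subgroup.closure_le]
        rintro w (rfl | ⟨i, rfl⟩)
        · exact Subgroup.mem_centralizer_singleton_iff.2 (h.zc _).symm
        · exact Subgroup.mem_centralizer_singleton_iff.2 (hcomm _ _)
      rcases h.cen _ (hyQ 0) (fun b hb => by
        rw [← h1] at hb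
        exact (Subgroup.mem_centralizer_singleton_iff.1 (h2 hb)).symm) with h3 | h3
      · exact hu1 (hy0 ▸ h3)
      · exact huz (hy0 ▸ h3)
  · exfalso
    simp only [mul_assoc, one_mul, a01, a12, a23, a34, a40, a02, a13, a24, a30, a41, zl, zzl, sql] at key
    rw [mul_one] at key
    exact h.z1 key
  · exfalso
    simp only [mul_assoc, one_mul, a01, a12, a23, a34, a40, a02, a13, a24, a30, a41, zl, zzl, sql] at key
    rw [mul_one] at key
    exact h.z1 key
  · have anti : ∀ i j, i ≠ j → y i * y j = z * (y j * y i) := by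
      intro i j hij
      have e : ∃ d, j = i + d := ⟨j - i, by rw [add_sub_cancel]⟩
      obtain ⟨d, rfl⟩ := e
      fin_cases d
      · exact absurd (add_zero i).symm hij
      · exact r1 i
      · exact r2 i
      · have := r2 (i + 3)
        rw [add_assoc, show (3 : Fin 5) + 2 = 0 from rfl, add_zero] at this
        exact sortr' z _ _ (Or.inr rfl) this
      · have := r1 (i + 4)
        rw [add_assoc, show (4 : Fin 5) + 1 = 0 from rfl, add_zero] at this
        exact sortr' z _ _ (Or.inr rfl) this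
    rcases hp1 with h1 | h1
    · exact ⟨y, hyQ, hysq, anti, by rw [← hp, h1]⟩
    · refine ⟨fun i => z * y i, fun i => Q.mul_mem h.zQ (hyQ i), fun i => ?_, fun i j hij => ?_, ?_⟩
      · rw [mul_assoc, zl, zzl, hysq]
      · simp only [mul_assoc, zl, zzl]
        rw [anti i j hij]
      · simp only [mul_assoc, zl, zzl]
        rw [← hp, h1, h.zz]

end five

end H64.J2
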