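import Cfsg.Agent.Lib.H64.J2A

set_option autoImplicit false

/-! Frames: classification of the elements of `Q`, the action on the five pairs. -/

namespace H64.J2

variable {C : Type*} [Group C] {z : C} {Q : Subgroup C} {y : Fin 5 → C}

/-- commutation sign -/
noncomputable def cs (a b : C) : ℤˣ := by classical exact if a * b = b * a then 1 else -1

theorem cs_of_eq {a b : C} (h : a * b = b * a) : cs a b = 1 := by
  classical
  unfold cs
  rw [if_pos h]

theorem cs_of_ne {a b : C} (h : a * b ≠ b * a) : cs a b = -1 := by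
  classical
  unfold cs
  rw [if_neg h]

theorem cs_eq_one {a b : C} : cs a b = 1 ↔ a * b = b * a := by
  constructor
  · intro h
    by_contra hne
    rw [cs_of_ne hne] at h
    exact absurd h (by decide)
  · exact cs_of_eq

section
variable (h : Core z Q)
include h

theorem Core.zl (g w : C) : g * (z * w) = z * (g * w) := by rw [← mul_assoc, h.zc, mul_assoc]
theorem Core.zzl (w : C) : z * (z * w) = w := by rw [← mul_assoc, h.zz, one_mul]
theorem Core.zne (w : C) : z * w ≠ w := fun h1 => h.z1 (mul_eq_right.1 h1)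

theorem Core.cs_of_z {a b : C} (h1 : a * b = z * (b * a)) : cs a b = -1 :=
  cs_of_ne fun h2 => h.zne (b * a) (h1 ▸ h2)

theorem Core.cs_ne {a b : C} (ha : a ∈ Q) (hb : b ∈ Q) (hc : cs a b ≠ 1) : a * b = z * (b * a) := by
  rcases h.comm a ha b hb with h1 | h1
  · exact absurd (cs_of_eq h1) hc
  · exact h1

theorem Core.cs_mul {a a' b : C} (ha : a ∈ Q) (ha' : a' ∈ Q) (hb : b ∈ Q) : cs (a * a') b = cs a b * cs a' b := by
  rcases h.comm a ha b hb with h1 | h1 <;> rcases h.comm a' ha' b hb with h2 | h2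
  · rw [cs_of_eq h1, cs_of_eq h2, one_mul]
    exact cs_of_eq (by rw [mul_assoc, h2, ← mul_assoc, h1, mul_assoc])
  · rw [cs_of_eq h1, h.cs_of_z h2, one_mul]
    exact h.cs_of_z (by rw [mul_assoc, h2, h.zl, ← mul_assoc a, h1, mul_assoc])
  · rw [h.cs_of_z h1, cs_of_eq h2, mul_one]
    exact h.cs_of_z (by rw [mul_assoc, h2, ← mul_assoc, h1]; group)
  · rw [h.cs_of_z h1, h.cs_of_z h2]
    exact cs_of_eq (by rw [mul_assoc, h2, h.zl, ← mul_assoc a, h1, mul_assoc, mul_assoc, h.zzl])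

/-- the pattern homomorphism -/
noncomputable def Core.pat (hy : ∀ i, y i ∈ Q) : Q →* (Fin 5 → ℤˣ) :=
  MonoidHom.mk' (fun q i => cs (q : C) (y i)) (fun a b => funext fun i => h.cs_mul a.2 b.2 (hy i))

end

/-- the pattern of a frame element -/
def ci (i : Fin 5) : Fin 5 → ℤˣ := fun k => if k = i then 1 else -1

theorem even_cases : ∀ v : Fin 5 → ℤˣ, v 0 * v 1 * v 2 * v 3 * v 4 = 1 →
    v = 1 ∨ (∃ i, v = ci i) ∨ ∃ i j, i ≠ j ∧ v = ci i * ci j := by decide +kernel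

theorem card_even : (Finset.univ.filter fun v : Fin 5 → ℤˣ => v 0 * v 1 * v 2 * v 3 * v 4 = 1).card = 16 := by
  decide +kernel

section
variable (h : Core z Q) (f : Frame z Q y)
include h f

theorem Frame.cs_y (i k : Fin 5) : cs (y i) (y k) = ci i k := by
  unfold ci
  by_cases hk : k = i
  · rw [if_pos hk, hk]
    exact cs_of_eq rfl
  · rw [if_neg hk]
    exact h.cs_of_z (f.anti i k (Ne.symm hk))

theorem Frame.pat_y (i : Fin 5) : h.pat f.mem ⟨y i, f.mem i⟩ = ci i := funext fun k => f.cs_y h i k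

theorem Frame.pat_even (q : Q) : (h.pat f.mem q) 0 * (h.pat f.mem q) 1 * (h.pat f.mem q) 2 * (h.pat f.mem q) 3 *
    (h.pat f.mem q) 4 = 1 := by
  have hs : ∀ a b : C, a ∈ Q → b ∈ Q → cs a b = cs b a := by
    intro a b _ _
    by_cases h1 : a * b = b * a
    · rw [cs_of_eq h1, cs_of_eq h1.symm]
    · rw [cs_of_ne h1, cs_of_ne (Ne.symm h1)]
  have h1 : cs (y 0 * (y 1 * (y 2 * (y 3 * y 4)))) (q : C) = 1 := by
    rw [f.prod]
    exact cs_of_eq (by rw [one_mul, mul_one])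
  have m4 := f.mem 4
  have m34 := Q.mul_mem (f.mem 3) m4
  have m234 := Q.mul_mem (f.mem 2) m34
  have m1234 := Q.mul_mem (f.mem 1) m234
  rw [h.cs_mul (f.mem 0) m1234 q.2, h.cs_mul (f.mem 1) m234 q.2, h.cs_mul (f.mem 2) m34 q.2,
    h.cs_mul (f.mem 3) m4 q.2] at h1
  change cs (q : C) (y 0) * cs (q : C) (y 1) * cs (q : C) (y 2) * cs (q : C) (y 3) * cs (q : C) (y 4) = 1
  rw [hs _ _ q.2 (f.mem 0), hs _ _ q.2 (f.mem 1), hs _ _ q.2 (f.mem 2), hs _ _ q.2 (f.mem 3), hs _ _ q.2 (f.mem 4),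
    ← h1]
  group

theorem Frame.exists_pat (v : Fin 5 → ℤˣ) (hv : v 0 * v 1 * v 2 * v 3 * v 4 = 1) :
    ∃ q : Q, h.pat f.mem q = v ∧ ((q : C) = 1 ∨ (∃ i, (q : C) = y i) ∨ ∃ i j, i ≠ j ∧ (q : C) = y i * y j) := by
  rcases even_cases v hv with rfl | ⟨i, rfl⟩ | ⟨i, j, hij, rfl⟩
  · exact ⟨1, map_one _, Or.inl rfl⟩
  · exact ⟨⟨y i, f.mem i⟩, f.pat_y h i, Or.inr (Or.inl ⟨i, rfl⟩)⟩
  · refine ⟨⟨y i, f.mem i⟩ * ⟨y j, f.mem j⟩, ?_, Or.inr (Or.inr ⟨i, j, hij, rfl⟩)⟩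
    rw [map_mul, f.pat_y h, f.pat_y h]

theorem Frame.card_range : Nat.card (h.pat f.mem).range = 16 := by
  rw [← card_even]
  have : ((h.pat f.mem).range : Set (Fin 5 → ℤˣ)) =
      ((Finset.univ.filter fun v : Fin 5 → ℤˣ => v 0 * v 1 * v 2 * v 3 * v 4 = 1 : Finset _) : Set _) := by
    ext v
    constructor
    · rintro ⟨q, rfl⟩
      rw [Finset.mem_coe, Finset.mem_filter]
      exact ⟨Finset.mem_univ _, f.pat_even h q⟩
    · intro hv
      rw [Finset.mem_coe, Finset.mem_filter] at hv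
      obtain ⟨q, hq, -⟩ := f.exists_pat h v hv.2
      exact ⟨q, hq⟩
  rw [card_eq_ncard, this, Set.ncard_coe_finset]

theorem Frame.ker_cases {q : C} (hq : q ∈ Q) (hc : ∀ i, q * y i = y i * q) : q = 1 ∨ q = z := by
  have hfin : Finite Q := Nat.finite_of_card_ne_zero (by rw [h.cardQ]; norm_num)
  have h1 := (h.pat f.mem).ker.card_mul_index
  rw [Subgroup.index_ker, f.card_range h, h.cardQ] at h1
  have h2 : Nat.card (h.pat f.mem).ker = 2 := by omega
  by_contra hcon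
  push Not at hcon
  have hk : (⟨q, hq⟩ : Q) ∈ (h.pat f.mem).ker := by
    rw [MonoidHom.mem_ker]
    funext i
    exact cs_of_eq (hc i)
  have hkz : (⟨z, h.zQ⟩ : Q) ∈ (h.pat f.mem).ker := by
    rw [MonoidHom.mem_ker]
    funext i
    exact cs_of_eq (h.zc _).symm
  have h3 : ({1, ⟨z, h.zQ⟩, ⟨q, hq⟩} : Set Q).ncard ≤ Nat.card (h.pat f.mem).ker := by
    rw [card_eq_ncard]
    refine Set.ncard_le_ncard ?_ (Set.toFinite _)
    rintro w (rfl | rfl | rfl)
    · exact Subgroup.one_mem _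
    · exact hkz
    · exact hk
  rw [h2, Set.ncard_eq_three.2 ⟨1, ⟨z, h.zQ⟩, ⟨q, hq⟩, fun h4 => h.z1 (congrArg Subtype.val h4).symm,
    fun h4 => hcon.1 (congrArg Subtype.val h4).symm, fun h4 => hcon.2 (congrArg Subtype.val h4).symm, rfl⟩] at h3
  omega

/-- the elements of `Q` -/
theorem Frame.cls {q : C} (hq : q ∈ Q) : ∃ s : C, (s = 1 ∨ s = z) ∧
    (q = s ∨ (∃ i, q = s * y i) ∨ ∃ i j, i ≠ j ∧ q = s * (y i * y j)) := by
  obtain ⟨r, hr1, hr2⟩ := f.exists_pat h _ (f.pat_even h ⟨q, hq⟩)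
  have h1 : q * (r : C)⁻¹ = 1 ∨ q * (r : C)⁻¹ = z := by
    refine f.ker_cases h (Q.mul_mem hq (Q.inv_mem r.2)) fun i => ?_
    have h2 : h.pat f.mem (⟨q, hq⟩ * r⁻¹) = 1 := by rw [map_mul, map_inv, hr1, mul_inv_cancel]
    exact cs_eq_one.1 (congrFun h2 i)
  refine ⟨q * (r : C)⁻¹, h1, ?_⟩
  have h2 : q = q * (r : C)⁻¹ * r := by group
  rcases hr2 with h3 | ⟨i, h3⟩ | ⟨i, j, hij, h3⟩
  · left; rw [h3]; group
  · right; left
    exact ⟨i, by rw [← h3, ← h2]⟩
  · right; right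
    exact ⟨i, j, hij, by rw [← h3, ← h2]⟩

end

end H64.J2
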