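import Cfsg.Agent.Lib.H64.J2B

set_option autoImplicit false

/-! Frames: involutions of `Q` and the action on the five pairs. -/

namespace H64.J2

variable {C : Type*} [Group C] {z : C} {Q : Subgroup C} {y : Fin 5 → C}

theorem fin5_ne : ∀ i : Fin 5, ∃ j, i ≠ j := by decide

section
variable (h : Core z Q) (f : Frame z Q y)
include h f

theorem Frame.ne_one (i : Fin 5) : y i ≠ 1 := by
  intro h1
  obtain ⟨j, hj⟩ := fin5_ne i
  have h2 := f.anti i j hj
  rw [h1, one_mul, mul_one] at h2
  exact h.zne _ h2.symm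

theorem Frame.ne_z (i : Fin 5) : y i ≠ z := by
  intro h1
  obtain ⟨j, hj⟩ := fin5_ne i
  have h2 := f.anti i j hj
  rw [h1, h.zc] at h2
  exact h.zne _ h2.symm

theorem Frame.idx_unique {i j : Fin 5} {c : C} (hi : c = y i ∨ c = z * y i) (hj : c = y j ∨ c = z * y j) : i = j := by
  by_contra hne
  have h1 : c * y j = y j * c := by
    rcases hj with h1 | h1
    · rw [h1]
    · rw [h1, h.zl, mul_assoc]
  have h2 : c * y j = z * (y j * c) := by
    rcases hi with h2 | h2
    · rw [h2]; exact f.anti i j hne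
    · rw [h2, mul_assoc, f.anti i j hne, h.zl (y j) (y i)]
  rw [h1] at h2
  exact h.zne _ h2.symm

theorem Frame.yy {i j : Fin 5} (hij : i ≠ j) : y i * y j * (y i * y j) = z := by
  rw [f.anti i j hij]
  calc z * (y j * y i) * (z * (y j * y i)) = z * (y j * y i * z) * (y j * y i) := by group
    _ = z * z * (y j * y i) * (y j * y i) := by rw [h.zc]; group
    _ = y j * (y i * y j) * y i := by rw [h.zz]; group
    _ = y j * z * (y j * y i) * y i := by rw [f.anti i j hij]; group
    _ = z * (y j * y j) * (y i * y i) := by rw [h.zc]; group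
    _ = z := by rw [f.sq, f.sq, mul_one, mul_one]

theorem Frame.yy_ne {i j : Fin 5} (hij : i ≠ j) : y i * y j ≠ 1 ∧ y i * y j ≠ z := by
  constructor
  · intro h1
    have h2 := f.yy h hij
    rw [h1, one_mul] at h2
    exact h.z1 h2.symm
  · intro h1
    have h2 := f.yy h hij
    rw [h1, h.zz] at h2
    exact h.z1 h2.symm

omit f in
theorem Core.s_sq {s : C} (hs : s = 1 ∨ s = z) : s * s = 1 := by
  rcases hs with rfl | rfl
  · exact one_mul 1
  · exact h.zz

omit f in
theorem Core.s_comm {s : C} (hs : s = 1 ∨ s = z) (g : C) : g * s = s * g := by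
  rcases hs with rfl | rfl
  · rw [mul_one, one_mul]
  · exact h.zc g

omit f in
theorem Core.s_mul_sq {s g : C} (hs : s = 1 ∨ s = z) : s * g * (s * g) = g * g := by
  rw [mul_assoc, ← mul_assoc g, h.s_comm hs g, mul_assoc, ← mul_assoc, h.s_sq hs, one_mul]

/-- involutions in `Q` -/
theorem Frame.inv_cases {q : C} (hq : q ∈ Q) (h2 : q * q = 1) : q = 1 ∨ q = z ∨ ∃ i, q = y i ∨ q = z * y i := by
  obtain ⟨s, hs, h3 | ⟨i, h3⟩ | ⟨i, j, hij, h3⟩⟩ := f.cls h hq
  · rcases hs with rfl | rfl
    · exact Or.inl h3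
    · exact Or.inr (Or.inl h3)
  · right; right
    refine ⟨i, ?_⟩
    rcases hs with hs | hs
    · left; rw [h3, hs, one_mul]
    · right; rw [h3, hs]
  · exfalso
    rw [h3, h.s_mul_sq hs, f.yy h hij] at h2
    exact h.z1 h2

theorem Frame.card_sq : Nat.card {q : C // q ∈ Q ∧ q * q = 1} = 12 := by
  let g : Bool × Option (Fin 5) → {q : C // q ∈ Q ∧ q * q = 1} := fun p =>
    match p with
    | (false, none) => ⟨1, Q.one_mem, one_mul 1⟩
    | (true, none) => ⟨z, h.zQ, h.zz⟩
    | (false, some i) => ⟨y i, f.mem i, f.sq i⟩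
    | (true, some i) => ⟨z * y i, Q.mul_mem h.zQ (f.mem i), by rw [h.s_mul_sq (Or.inr rfl), f.sq]⟩
  have hg : Function.Bijective g := by
    constructor
    · rintro ⟨s, a⟩ ⟨t, b⟩ hab
      have hv := congrArg Subtype.val hab
      rcases s with _ | _ <;> rcases t with _ | _ <;> rcases a with _ | i <;> rcases b with _ | j
      · rfl
      · exact absurd hv.symm (f.ne_one h j)
      · exact absurd hv (f.ne_one h i)
      · have := f.idx_unique h (i := i) (j := j) (c := y i) (Or.inl rfl) (Or.inl hv)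
        rw [this]
      · exact absurd hv.symm h.z1
      · exfalso
        have h1 : (1 : C) = z * y j := hv
        have h2 : z = y j := by rw [← mul_one z, h1, h.zzl]
        exact f.ne_z h j h2.symm
      · exact absurd hv (f.ne_z h i)
      · exfalso
        have h1 : y i = z * y j := hv
        have := f.idx_unique h (i := i) (j := j) (c := y i) (Or.inl rfl) (Or.inr h1)
        subst this
        exact h.zne _ h1.symm
      · exact absurd hv h.z1
      · exact absurd hv.symm (f.ne_z h j)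
      · exfalso
        have h1 : z * y i = 1 := hv
        have h2 : y i = z := by rw [← h.zzl (y i), h1, mul_one]
        exact f.ne_z h i h2
      · exfalso
        have h1 : z * y i = y j := hv
        have := f.idx_unique h (i := i) (j := j) (c := z * y i) (Or.inr rfl) (Or.inl h1)
        subst this
        exact h.zne _ h1
      · rfl
      · exfalso
        have h1 : z = z * y j := hv
        exact f.ne_one h j (mul_eq_left.1 h1.symm)
      · exfalso
        have h1 : z * y i = z := hv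
        exact f.ne_one h i (mul_eq_left.1 h1)
      · have h1 : z * y i = z * y j := hv
        have := f.idx_unique h (i := i) (j := j) (c := z * y i) (Or.inr rfl) (Or.inr h1)
        rw [this]
    · rintro ⟨q, hq, hq2⟩
      rcases f.inv_cases h hq hq2 with rfl | rfl | ⟨i, rfl | rfl⟩
      · exact ⟨(false, none), rfl⟩
      · exact ⟨(true, none), rfl⟩
      · exact ⟨(false, some i), rfl⟩
      · exact ⟨(true, some i), rfl⟩
  rw [← Nat.card_congr (Equiv.ofBijective g hg), Nat.card_eq_fintype_card]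
  rfl

/-- action on the pairs -/
theorem Frame.exists_idx (c : C) (i : Fin 5) : ∃ j, c * y i * c⁻¹ = y j ∨ c * y i * c⁻¹ = z * y j := by
  have hq : c * y i * c⁻¹ ∈ Q := h.Qn.conj_mem _ (f.mem i) c
  have h2 : c * y i * c⁻¹ * (c * y i * c⁻¹) = 1 := by
    calc c * y i * c⁻¹ * (c * y i * c⁻¹) = c * (y i * y i) * c⁻¹ := by group
      _ = 1 := by rw [f.sq]; group
  rcases f.inv_cases h hq h2 with h3 | h3 | h3
  · exfalso
    rw [conj_eq_one_iff] at h3
    exact f.ne_one h i h3
  · exfalso
    have h4 : y i = z := by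
      calc y i = c⁻¹ * (c * y i * c⁻¹) * c := by group
        _ = c⁻¹ * z * c := by rw [h3]
        _ = z := by rw [h.zc]; group
    exact f.ne_z h i h4
  · exact h3

/-- the index of the image -/
noncomputable def Frame.idx (c : C) (i : Fin 5) : Fin 5 := (f.exists_idx h c i).choose

theorem Frame.idx_spec (c : C) (i : Fin 5) : c * y i * c⁻¹ = y (f.idx h c i) ∨ c * y i * c⁻¹ = z * y (f.idx h c i) :=
  (f.exists_idx h c i).choose_spec

theorem Frame.idx_eq {c : C} {i j : Fin 5} (hj : c * y i * c⁻¹ = y j ∨ c * y i * c⁻¹ = z * y j) :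
    f.idx h c i = j := f.idx_unique h (f.idx_spec h c i) hj

theorem Frame.idx_one (i : Fin 5) : f.idx h 1 i = i := f.idx_eq h (Or.inl (by group))

theorem Frame.idx_mul (c d : C) (i : Fin 5) : f.idx h (c * d) i = f.idx h c (f.idx h d i) := by
  refine f.idx_eq h ?_
  have e : c * d * y i * (c * d)⁻¹ = c * (d * y i * d⁻¹) * c⁻¹ := by group
  rw [e]
  have h1 := f.idx_spec h c (f.idx h d i)
  rcases f.idx_spec h d i with h2 | h2
  · rw [h2]; exact h1
  · rw [h2]
    have e2 : c * (z * y (f.idx h d i)) * c⁻¹ = z * (c * y (f.idx h d i) * c⁻¹) := by rw [h.zl]; group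
    rw [e2]
    rcases h1 with h1 | h1
    · right; rw [h1]
    · left; rw [h1, h.zzl]

/-- the permutation action on the pairs -/
noncomputable def Frame.pi : C →* Equiv.Perm (Fin 5) :=
  MonoidHom.mk' (fun c => ⟨f.idx h c, f.idx h c⁻¹, fun i => by rw [← f.idx_mul, inv_mul_cancel, f.idx_one],
    fun i => by rw [← f.idx_mul, mul_inv_cancel, f.idx_one]⟩) (fun c d => Equiv.ext fun i => f.idx_mul h c d i)

theorem Frame.pi_spec (c : C) (i : Fin 5) : c * y i * c⁻¹ = y (f.pi h c i) ∨ c * y i * c⁻¹ = z * y (f.pi h c i) :=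
  f.idx_spec h c i

theorem Frame.pi_eq {c : C} {i j : Fin 5} (hj : c * y i * c⁻¹ = y j ∨ c * y i * c⁻¹ = z * y j) :
    f.pi h c i = j := f.idx_eq h hj

/-- elements commuting with all frame vectors centralize `Q` -/
theorem Frame.cent_Q {c : C} (hc : ∀ i, c * y i = y i * c) : ∀ q ∈ Q, c * q = q * c := by
  intro q hq
  obtain ⟨s, hs, h3 | ⟨i, h3⟩ | ⟨i, j, hij, h3⟩⟩ := f.cls h hq
  · rw [h3, h.s_comm hs]
  · rw [h3, ← mul_assoc, h.s_comm hs, mul_assoc, hc, mul_assoc]
  · rw [h3, ← mul_assoc, h.s_comm hs, mul_assoc, ← mul_assoc c, hc, mul_assoc (y i) c, hc]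
    group

/-- the kernel of the action is `Q` -/
theorem Frame.ker_pi : (f.pi h).ker = Q := by
  apply le_antisymm
  · intro c hc
    rw [MonoidHom.mem_ker] at hc
    have h1 : ∀ i, ∃ s : C, (s = 1 ∨ s = z) ∧ c * y i * c⁻¹ = s * y i := by
      intro i
      have h2 := f.pi_spec h c i
      rw [hc, Equiv.Perm.one_apply] at h2
      rcases h2 with h2 | h2
      · exact ⟨1, Or.inl rfl, by rw [h2, one_mul]⟩
      · exact ⟨z, Or.inr rfl, h2⟩
    choose s hs hsy using h1
    classical
    let v : Fin 5 → ℤˣ := fun i => if s i = 1 then 1 else -1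
    have hprod : s 0 * (s 1 * (s 2 * (s 3 * s 4))) = 1 := by
      have e1 : c * (y 0 * (y 1 * (y 2 * (y 3 * y 4)))) * c⁻¹ = (c * y 0 * c⁻¹) * ((c * y 1 * c⁻¹) * ((c * y 2 * c⁻¹) *
        ((c * y 3 * c⁻¹) * (c * y 4 * c⁻¹)))) := by group
      rw [f.prod, hsy, hsy, hsy, hsy, hsy] at e1
      have hl : ∀ (i : Fin 5) (g w : C), g * (s i * w) = s i * (g * w) := fun i g w => by
        rw [← mul_assoc, h.s_comm (hs i), mul_assoc]
      have e2 : s 0 * y 0 * (s 1 * y 1 * (s 2 * y 2 * (s 3 * y 3 * (s 4 * y 4)))) =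
          s 0 * (s 1 * (s 2 * (s 3 * s 4))) * (y 0 * (y 1 * (y 2 * (y 3 * y 4)))) := by
        rw [mul_assoc, mul_assoc (s 1), mul_assoc (s 2), mul_assoc (s 3), hl 1, hl 2, hl 3, hl 4, hl 2, hl 3, hl 4,
          hl 3, hl 4, hl 4]
        group
      rw [e2, f.prod, mul_one, mul_one, mul_inv_cancel] at e1
      exact e1.symm
    have hv : v 0 * v 1 * v 2 * v 3 * v 4 = 1 := by
      have hc : ∀ i, (s i = 1 ∧ v i = 1) ∨ (s i = z ∧ v i = -1) := by
        intro i
        rcases hs i with h2 | h2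
        · left; exact ⟨h2, if_pos h2⟩
        · right; exact ⟨h2, if_neg (by rw [h2]; exact h.z1)⟩
      have zz := h.zz
      have zzl := h.zzl
      have z1 := h.z1
      rcases hc 0 with ⟨a0, b0⟩ | ⟨a0, b0⟩ <;> rcases hc 1 with ⟨a1, b1⟩ | ⟨a1, b1⟩ <;>
        rcases hc 2 with ⟨a2, b2⟩ | ⟨a2, b2⟩ <;> rcases hc 3 with ⟨a3, b3⟩ | ⟨a3, b3⟩ <;>
        rcases hc 4 with ⟨a4, b4⟩ | ⟨a4, b4⟩ <;>
        rw [a0, a1, a2, a3, a4] at hprod <;> rw [b0, b1, b2, b3, b4] <;>
        first
          | rfl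
          | (exfalso; simp only [one_mul, mul_one, zz] at hprod; exact z1 hprod)
    obtain ⟨q, hq, -⟩ := f.exists_pat h v hv
    have hqc : ∀ i, (q : C) * y i * (q : C)⁻¹ = s i * y i := by
      intro i
      have h2 : cs (q : C) (y i) = v i := congrFun hq i
      rcases hs i with h3 | h3
      · have h4 : v i = 1 := if_pos h3
        rw [h4] at h2
        rw [h3, cs_eq_one.1 h2]; group
      · have h4 : v i = -1 := if_neg (by rw [h3]; exact h.z1)
        rw [h4] at h2
        rw [h3, h.cs_ne q.2 (f.mem i) (by rw [h2]; decide)]; group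
    have h5 : (q : C)⁻¹ * c ∈ Q := by
      refine h.self _ (f.cent_Q h fun i => ?_)
      have h6 := hsy i
      rw [← hqc i] at h6
      calc (q : C)⁻¹ * c * y i = (q : C)⁻¹ * (c * y i * c⁻¹) * c := by group
        _ = (q : C)⁻¹ * ((q : C) * y i * (q : C)⁻¹) * c := by rw [h6]
        _ = y i * ((q : C)⁻¹ * c) := by group
    exact (Q.mul_mem_cancel_left (Q.inv_mem q.2)).1 h5
  · intro q hq
    rw [MonoidHom.mem_ker]
    refine Equiv.ext fun i => f.pi_eq h ?_
    rcases h.comm q hq _ (f.mem i) with h1 | h1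
    · left
      rw [h1, Equiv.Perm.one_apply]; group
    · right
      rw [h1, Equiv.Perm.one_apply]; group

theorem Frame.range_pi : (f.pi h).range = alternatingGroup (Fin 5) := by
  have hfin : Finite C := Nat.finite_of_card_ne_zero (by rw [h.cardC]; norm_num)
  refine Equiv.Perm.eq_alternatingGroup_of_index_eq_two ?_
  have h1 := (f.pi h).ker.card_mul_index
  rw [Subgroup.index_ker, f.ker_pi h, h.cardQ, h.cardC] at h1
  have h2 := (f.pi h).range.card_mul_index
  rw [Nat.card_eq_fintype_card (α := Equiv.Perm (Fin 5)), Fintype.card_perm, Fintype.card_fin] at h2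
  have h3 : Nat.card (f.pi h).range = 60 := by omega
  rw [h3] at h2
  have h4 : Nat.factorial 5 = 120 := rfl
  omega

end

end H64.J2
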