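import Cfsg.Agent.Lib.H64.J2C

set_option autoImplicit false

/-! Involutions outside the extraspecial subgroup. -/

namespace H64.J2

variable {C : Type*} [Group C] {z : C} {Q : Subgroup C} {y : Fin 5 → C}

section
variable (h : Core z Q)
include h

omit h in
/-- sorting rule -/
theorem Core.flip (_h : Core z Q) {a b : C} (hab : a * b = z * (b * a)) (w : C) : a * (b * w) = z * (b * (a * w)) := by
  rw [← mul_assoc, hab]; group

theorem Core.flip' {a b : C} (hab : a * b = z * (b * a)) : b * a = z * (a * b) := by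
  rw [hab, h.zzl]

/-- a frame from four anticommuting involutions -/
theorem Core.mkFrame (u : Fin 4 → C) (hu : ∀ i, u i ∈ Q) (hsq : ∀ i, u i * u i = 1)
    (hanti : ∀ i j, i ≠ j → u i * u j = z * (u j * u i)) :
    Frame z Q ![u 0, u 1, u 2, u 3, u 0 * (u 1 * (u 2 * u 3))] := by
  have m3 := hu 3
  have m23 := Q.mul_mem (hu 2) m3
  have m123 := Q.mul_mem (hu 1) m23
  have m0123 := Q.mul_mem (hu 0) m123
  have sql : ∀ i w, u i * (u i * w) = w := fun i w => by rw [← mul_assoc, hsq, one_mul]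
  have a10 := h.flip (hanti 1 0 (by decide))
  have a20 := h.flip (hanti 2 0 (by decide))
  have a30 := h.flip (hanti 3 0 (by decide))
  have a21 := h.flip (hanti 2 1 (by decide))
  have a31 := h.flip (hanti 3 1 (by decide))
  have a32 := h.flip (hanti 3 2 (by decide))
  have zl := h.zl
  have zzl := h.zzl
  have hw : u 0 * (u 1 * (u 2 * u 3)) * (u 0 * (u 1 * (u 2 * u 3))) = 1 := by
    have : u 0 * (u 1 * (u 2 * u 3)) * (u 0 * (u 1 * (u 2 * (u 3 * 1)))) = 1 := by
      simp only [mul_assoc, a10, a20, a30, a21, a31, a32, zl, zzl, sql]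
    rwa [mul_one] at this
  have hcs : ∀ i j, i ≠ j → cs (u i) (u j) = -1 := fun i j hij => h.cs_of_z (hanti i j hij)
  have hcs1 : ∀ i, cs (u i) (u i) = 1 := fun i => cs_of_eq rfl
  have hwi : ∀ i, u 0 * (u 1 * (u 2 * u 3)) * u i = z * (u i * (u 0 * (u 1 * (u 2 * u 3)))) := by
    intro i
    refine h.cs_ne m0123 (hu i) ?_
    rw [h.cs_mul (hu 0) m123 (hu i), h.cs_mul (hu 1) m23 (hu i), h.cs_mul (hu 2) m3 (hu i)]
    fin_cases i
    · change cs (u 0) (u 0) * (cs (u 1) (u 0) * (cs (u 2) (u 0) * cs (u 3) (u 0))) ≠ 1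
      rw [hcs1, hcs 1 0 (by decide), hcs 2 0 (by decide), hcs 3 0 (by decide)]
      decide
    · change cs (u 0) (u 1) * (cs (u 1) (u 1) * (cs (u 2) (u 1) * cs (u 3) (u 1))) ≠ 1
      rw [hcs1, hcs 0 1 (by decide), hcs 2 1 (by decide), hcs 3 1 (by decide)]
      decide
    · change cs (u 0) (u 2) * (cs (u 1) (u 2) * (cs (u 2) (u 2) * cs (u 3) (u 2))) ≠ 1
      rw [hcs1, hcs 0 2 (by decide), hcs 1 2 (by decide), hcs 3 2 (by decide)]
      decide
    · change cs (u 0) (u 3) * (cs (u 1) (u 3) * (cs (u 2) (u 3) * cs (u 3) (u 3))) ≠ 1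
      rw [hcs1, hcs 0 3 (by decide), hcs 1 3 (by decide), hcs 2 3 (by decide)]
      decide
  refine ⟨?_, ?_, ?_, ?_⟩
  · intro i
    fin_cases i
    · exact hu 0
    · exact hu 1
    · exact hu 2
    · exact hu 3
    · exact m0123
  · intro i
    fin_cases i
    · exact hsq 0
    · exact hsq 1
    · exact hsq 2
    · exact hsq 3
    · exact hw
  · intro i j hij
    fin_cases i <;> fin_cases j
    · exact absurd rfl hij
    · exact hanti 0 1 (by decide)
    · exact hanti 0 2 (by decide)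
    · exact hanti 0 3 (by decide)
    · exact h.flip' (hwi 0)
    · exact hanti 1 0 (by decide)
    · exact absurd rfl hij
    · exact hanti 1 2 (by decide)
    · exact hanti 1 3 (by decide)
    · exact h.flip' (hwi 1)
    · exact hanti 2 0 (by decide)
    · exact hanti 2 1 (by decide)
    · exact absurd rfl hij
    · exact hanti 2 3 (by decide)
    · exact h.flip' (hwi 2)
    · exact hanti 3 0 (by decide)
    · exact hanti 3 1 (by decide)
    · exact hanti 3 2 (by decide)
    · exact absurd rfl hij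
    · exact h.flip' (hwi 3)
    · exact hwi 0
    · exact hwi 1
    · exact hwi 2
    · exact hwi 3
    · exact absurd rfl hij
  · change u 0 * (u 1 * (u 2 * (u 3 * (u 0 * (u 1 * (u 2 * u 3)))))) = 1
    rw [← hw]; group

end

/-- a frame adapted to an involution -/
structure TFrame (z : C) (Q : Subgroup C) (y : Fin 5 → C) (t : C) : Prop extends Frame z Q y where
  tt : t * t = 1
  tQ : t ∉ Q
  t0 : t * y 0 = y 1 * t
  t1 : t * y 1 = y 0 * t
  t2 : t * y 2 = y 3 * t
  t3 : t * y 3 = y 2 * t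
  t4 : t * y 4 = y 4 * t

theorem perm_two : ∀ σ : Equiv.Perm (Fin 5), Equiv.Perm.sign σ = 1 → σ * σ = 1 → σ ≠ 1 →
    ∃ a b, σ a ≠ a ∧ σ b ≠ b ∧ b ≠ a ∧ b ≠ σ a := by decide +kernel

section
variable (h : Core z Q)
include h

theorem Frame.exists_tframe (f : Frame z Q y) {t : C} (htt : t * t = 1) (htQ : t ∉ Q) : ∃ y' : Fin 5 → C, TFrame z Q y' t := by
  have h1 : f.pi h t * f.pi h t = 1 := by rw [← map_mul, htt, map_one]
  have h2 : f.pi h t ≠ 1 := by
    intro h2
    rw [← MonoidHom.mem_ker, f.ker_pi h] at h2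
    exact htQ h2
  have h3 : Equiv.Perm.sign (f.pi h t) = 1 := by
    rw [← Equiv.Perm.mem_alternatingGroup, ← f.range_pi h]
    exact ⟨t, rfl⟩
  obtain ⟨a, b, ha, hb, hba, hbs⟩ := perm_two _ h3 h1 h2
  have hti : t⁻¹ = t := inv_eq_of_mul_eq_one_right htt
  obtain ⟨u, hu⟩ : ∃ u : Fin 4 → C, u = ![y a, t * y a * t⁻¹, y b, t * y b * t⁻¹] := ⟨_, rfl⟩
  have e0 : u 0 = y a := by rw [hu]; rfl
  have e1 : u 1 = t * y a * t⁻¹ := by rw [hu]; rfl
  have e2 : u 2 = y b := by rw [hu]; rfl
  have e3 : u 3 = t * y b * t⁻¹ := by rw [hu]; rfl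
  -- each is a signed frame vector
  have key : ∀ i : Fin 4, ∃ (s : C) (k : Fin 5), (s = 1 ∨ s = z) ∧ u i = s * y k ∧
      k = (![a, f.pi h t a, b, f.pi h t b] : Fin 4 → Fin 5) i := by
    intro i
    fin_cases i
    · exact ⟨1, a, Or.inl rfl, by rw [one_mul]; exact e0, rfl⟩
    · rcases f.pi_spec h t a with h4 | h4
      · exact ⟨1, _, Or.inl rfl, by rw [one_mul]; exact e1.trans h4, rfl⟩
      · exact ⟨z, _, Or.inr rfl, e1.trans h4, rfl⟩
    · exact ⟨1, b, Or.inl rfl, by rw [one_mul]; exact e2, rfl⟩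
    · rcases f.pi_spec h t b with h4 | h4
      · exact ⟨1, _, Or.inl rfl, by rw [one_mul]; exact e3.trans h4, rfl⟩
      · exact ⟨z, _, Or.inr rfl, e3.trans h4, rfl⟩
  have hinj : ∀ i j : Fin 4, i ≠ j → (![a, f.pi h t a, b, f.pi h t b] : Fin 4 → Fin 5) i ≠
      (![a, f.pi h t a, b, f.pi h t b] : Fin 4 → Fin 5) j := by
    have h5 : f.pi h t (f.pi h t a) = a := by rw [← Equiv.Perm.mul_apply, h1]; rfl
    have h6 : f.pi h t b ≠ a := by
      intro h6
      apply hbs
      have h7 : f.pi h t (f.pi h t b) = b := by rw [← Equiv.Perm.mul_apply, h1]; rfl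
      rw [← h7, h6]
    have h7 : f.pi h t a ≠ f.pi h t b := fun h8 => hba ((f.pi h t).injective h8).symm
    intro i j hij
    fin_cases i <;> fin_cases j <;> first
      | exact absurd rfl hij
      | exact ha
      | exact ha.symm
      | exact hb
      | exact hb.symm
      | exact hba
      | exact hba.symm
      | exact hbs
      | exact hbs.symm
      | exact h6
      | exact h6.symm
      | exact h7
      | exact h7.symm
  have huQ : ∀ i, u i ∈ Q := by
    intro i
    obtain ⟨s, k, hs, hk, -⟩ := key i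
    rw [hk]
    refine Q.mul_mem ?_ (f.mem k)
    rcases hs with rfl | rfl
    · exact Q.one_mem
    · exact h.zQ
  have husq : ∀ i, u i * u i = 1 := by
    intro i
    obtain ⟨s, k, hs, hk, -⟩ := key i
    rw [hk, h.s_mul_sq hs, f.sq]
  have hanti : ∀ i j, i ≠ j → u i * u j = z * (u j * u i) := by
    intro i j hij
    obtain ⟨s, k, hs, hk, hk'⟩ := key i
    obtain ⟨s', l, hs', hl, hl'⟩ := key j
    have hkl : k ≠ l := by rw [hk', hl']; exact hinj i j hij
    rw [hk, hl]
    calc s * y k * (s' * y l) = s * (y k * s') * y l := by group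
      _ = s' * s * (y k * y l) := by rw [h.s_comm hs', ← mul_assoc s, h.s_comm hs']; group
      _ = s' * s * z * (y l * y k) := by rw [f.anti k l hkl]; group
      _ = z * (s' * s) * (y l * y k) := by rw [h.zc]
      _ = z * s' * (s * y l) * y k := by group
      _ = z * s' * (y l * s) * y k := by rw [h.s_comm hs]
      _ = z * (s' * y l * (s * y k)) := by group
  have hF := h.mkFrame u huQ husq hanti
  have r01 : t * u 0 = u 1 * t := by rw [e0, e1]; group
  have r10 : t * u 1 = u 0 * t := by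
    rw [e0, e1]
    calc t * (t * y a * t⁻¹) = t * t * y a * t⁻¹ := by group
      _ = y a * t := by rw [htt, hti, one_mul]
  have r23 : t * u 2 = u 3 * t := by rw [e2, e3]; group
  have r32 : t * u 3 = u 2 * t := by
    rw [e2, e3]
    calc t * (t * y b * t⁻¹) = t * t * y b * t⁻¹ := by group
      _ = y b * t := by rw [htt, hti, one_mul]
  refine ⟨_, { hF with tt := htt, tQ := htQ, t0 := r01, t1 := r10, t2 := r23, t3 := r32, t4 := ?_ }⟩
  change t * (u 0 * (u 1 * (u 2 * u 3))) = u 0 * (u 1 * (u 2 * u 3)) * t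
  calc t * (u 0 * (u 1 * (u 2 * u 3))) = (t * u 0) * (u 1 * (u 2 * u 3)) := by group
    _ = u 1 * (t * u 1) * (u 2 * u 3) := by rw [r01]; group
    _ = u 1 * u 0 * (t * u 2) * u 3 := by rw [r10]; group
    _ = u 1 * u 0 * u 3 * (t * u 3) := by rw [r23]; group
    _ = (u 1 * u 0) * (u 3 * u 2) * t := by rw [r32]; group
    _ = (z * (u 0 * u 1)) * (z * (u 2 * u 3)) * t := by
        rw [hanti 1 0 (by decide), hanti 3 2 (by decide)]
    _ = z * ((u 0 * u 1) * z) * (u 2 * u 3) * t := by group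
    _ = z * z * (u 0 * u 1) * (u 2 * u 3) * t := by rw [h.zc]; group
    _ = u 0 * (u 1 * (u 2 * u 3)) * t := by rw [h.zz]; group

end

end H64.J2
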