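import Cfsg.Agent.Lib.H64.J2D

set_option autoImplicit false

/-! Involutions outside the extraspecial subgroup: centralizers and conjugacy. -/

namespace H64.J2

variable {C : Type*} [Group C] {z : C} {Q : Subgroup C} {y : Fin 5 → C} {t : C}

/-- the permutation of an adapted frame -/
def σ0 : Equiv.Perm (Fin 5) := Equiv.swap 0 1 * Equiv.swap 2 3

theorem conj_two : ∀ σ : Equiv.Perm (Fin 5), Equiv.Perm.sign σ = 1 → σ * σ = 1 → σ ≠ 1 →
    ∃ ρ : Equiv.Perm (Fin 5), Equiv.Perm.sign ρ = 1 ∧ ρ * σ * ρ⁻¹ = σ0 := by decide +kernel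

theorem cent_two : ∀ ρ : Equiv.Perm (Fin 5), Equiv.Perm.sign ρ = 1 → ρ * σ0 = σ0 * ρ →
    (ρ 0 = 0 ∧ ρ 2 = 2) ∨ (ρ 0 = 1 ∧ ρ 2 = 3) ∨ (ρ 0 = 2 ∧ ρ 2 = 0) ∨ (ρ 0 = 3 ∧ ρ 2 = 1) := by decide +kernel

theorem σ0_fix : ∀ i : Fin 5, σ0 i = i → i = 4 := by decide

theorem card_cent_two : (Finset.univ.filter fun ρ : Equiv.Perm (Fin 5) => Equiv.Perm.sign ρ = 1 ∧ ρ * σ0 = σ0 * ρ).card = 4 := by
  decide +kernel

section
variable (h : Core z Q) (f : TFrame z Q y t)
include h f

omit h in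
theorem TFrame.tinv : t⁻¹ = t := inv_eq_of_mul_eq_one_right f.tt

theorem TFrame.pi_t : f.pi h t = σ0 := by
  refine Equiv.ext fun i => f.pi_eq h (Or.inl ?_)
  fin_cases i
  · change t * y 0 * t⁻¹ = y 1
    rw [f.t0]; group
  · change t * y 1 * t⁻¹ = y 0
    rw [f.t1]; group
  · change t * y 2 * t⁻¹ = y 3
    rw [f.t2]; group
  · change t * y 3 * t⁻¹ = y 2
    rw [f.t3]; group
  · change t * y 4 * t⁻¹ = y 4
    rw [f.t4]; group

omit h in
theorem TFrame.ty (i : Fin 5) : t * y i = y (σ0 i) * t := by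
  fin_cases i
  · exact f.t0
  · exact f.t1
  · exact f.t2
  · exact f.t3
  · exact f.t4

omit f in
theorem Frame.sy_inj {y : Fin 5 → C} (f : Frame z Q y) {s s' : C} {i j : Fin 5} (hs : s = 1 ∨ s = z) (hs' : s' = 1 ∨ s' = z)
    (he : s * y i = s' * y j) : i = j ∧ s = s' := by
  have hij : i = j := by
    refine f.idx_unique h (c := s * y i) ?_ ?_
    · rcases hs with rfl | rfl
      · left; rw [one_mul]
      · right; rfl
    · rw [he]
      rcases hs' with rfl | rfl
      · left; rw [one_mul]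
      · right; rfl
  subst hij
  exact ⟨rfl, mul_right_cancel he⟩

omit f in
theorem mul_z_cases {s : C} (hs : s = 1 ∨ s = z) : z * s = 1 ∨ z * s = z := by
  rcases hs with rfl | rfl
  · right; rw [mul_one]
  · left; exact h.zz

omit f in
/-- products of two frame vectors -/
theorem Frame.syy_inj {y : Fin 5 → C} (f : Frame z Q y) {s s' : C} {i j k l : Fin 5} (hs : s = 1 ∨ s = z)
    (hs' : s' = 1 ∨ s' = z) (hij : i ≠ j) (hkl : k ≠ l) (he : s * (y i * y j) = s' * (y k * y l)) :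
    (i = k ∧ j = l ∧ s = s') ∨ (i = l ∧ j = k ∧ s = z * s') := by
  have hpat : ci i * ci j = ci k * ci l := by
    have h1 : h.pat f.mem ((⟨y i, f.mem i⟩ : Q) * ⟨y j, f.mem j⟩) = h.pat f.mem ((⟨y k, f.mem k⟩ : Q) * ⟨y l, f.mem l⟩) := by
      funext m
      have e1 : ∀ (s w : C), (s = 1 ∨ s = z) → w ∈ Q → cs (s * w) (y m) = cs w (y m) := by
        intro s w hs hw
        have hsQ : s ∈ Q := by
          rcases hs with rfl | rfl
          · exact Q.one_mem
          · exact h.zQ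
        rw [h.cs_mul hsQ hw (f.mem m), cs_of_eq (h.s_comm hs _).symm, one_mul]
      change cs (y i * y j) (y m) = cs (y k * y l) (y m)
      rw [← e1 s _ hs (Q.mul_mem (f.mem i) (f.mem j)), he, e1 s' _ hs' (Q.mul_mem (f.mem k) (f.mem l))]
    rw [map_mul, map_mul, f.pat_y h, f.pat_y h, f.pat_y h, f.pat_y h] at h1
    exact h1
  have key : ∀ i j k l : Fin 5, i ≠ j → k ≠ l → ci i * ci j = ci k * ci l → (i = k ∧ j = l) ∨ (i = l ∧ j = k) := by
    decide +kernel
  rcases key i j k l hij hkl hpat with ⟨rfl, rfl⟩ | ⟨rfl, rfl⟩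
  · left
    exact ⟨rfl, rfl, mul_right_cancel he⟩
  · right
    refine ⟨rfl, rfl, ?_⟩
    rw [f.anti i j hij, h.zl, ← mul_assoc] at he
    have h2 : z * s = s' := mul_right_cancel he
    rw [← h2, h.zzl]

/-- the centralizer of `t` in `Q` -/
theorem TFrame.cent_cases {q : C} (hq : q ∈ Q) (hc : t * q = q * t) : q = 1 ∨ q = z ∨ q = y 4 ∨ q = z * y 4 := by
  obtain ⟨s, hs, h3 | ⟨i, h3⟩ | ⟨i, j, hij, h3⟩⟩ := f.cls h hq
  · rcases hs with rfl | rfl
    · exact Or.inl h3
    · exact Or.inr (Or.inl h3)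
  · have h4 : s * y (σ0 i) = s * y i := by
      have e1 : t * q = s * y (σ0 i) * t := by rw [h3, ← mul_assoc, h.s_comm hs, mul_assoc, f.ty, mul_assoc]
      rw [hc, h3] at e1
      exact (mul_right_cancel e1).symm
    have h5 := (f.sy_inj h hs hs h4).1
    have h6 : i = 4 := σ0_fix i h5
    subst h6
    rcases hs with rfl | rfl
    · right; right; left
      rw [h3, one_mul]
    · right; right; right
      exact h3
  · exfalso
    have h4 : s * (y (σ0 i) * y (σ0 j)) = s * (y i * y j) := by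
      have e1 : t * q = s * (y (σ0 i) * y (σ0 j)) * t := by
        rw [h3]
        calc t * (s * (y i * y j)) = s * ((t * y i) * y j) := by rw [← mul_assoc, h.s_comm hs]; group
          _ = s * (y (σ0 i) * (t * y j)) := by rw [f.ty]; group
          _ = s * (y (σ0 i) * y (σ0 j)) * t := by rw [f.ty]; group
      rw [hc, h3] at e1
      exact (mul_right_cancel e1).symm
    have hσ : σ0 i ≠ σ0 j := fun h5 => hij (σ0.injective h5)
    rcases f.syy_inj h hs hs hσ hij h4 with ⟨h5, h6, -⟩ | ⟨-, -, h5⟩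
    · have key : ∀ i j : Fin 5, i ≠ j → σ0 i = i → σ0 j = j → False := by decide
      exact key i j hij h5 h6
    · exact h.zne s h5.symm

/-- involutions in the coset of `t` -/
theorem TFrame.inv_conj {q : C} (hq : q ∈ Q) (hc : t * q * (t * q) = 1) : ∃ r ∈ Q, r * t * r⁻¹ = t * q := by
  -- t q = q⁻¹ t
  have hc' : t * q = q⁻¹ * t := by
    have h1 : t * q = (t * q)⁻¹ := eq_inv_of_mul_eq_one_left hc
    rw [mul_inv_rev, f.tinv] at h1
    exact h1
  have rinv : ∀ i, (y i)⁻¹ = y i := fun i => inv_eq_of_mul_eq_one_right (f.sq i)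
  have sql : ∀ i w, y i * (y i * w) = w := fun i w => by rw [← mul_assoc, f.sq, one_mul]
  have zl := h.zl
  have zzl := h.zzl
  have tz := h.zc t
  have tzl : ∀ w, t * (z * w) = z * (t * w) := h.zl t
  -- the eight cases
  have cases : q = 1 ∨ q = z ∨ q = y 4 ∨ q = z * y 4 ∨ q = y 0 * y 1 ∨ q = y 1 * y 0 ∨ q = y 2 * y 3 ∨ q = y 3 * y 2 := by
    obtain ⟨s, hs, h3 | ⟨i, h3⟩ | ⟨i, j, hij, h3⟩⟩ := f.cls h hq
    · rcases hs with rfl | rfl
      · exact Or.inl h3
      · exact Or.inr (Or.inl h3)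
    · have hqi : q⁻¹ = q := by
        refine inv_eq_of_mul_eq_one_right ?_
        rw [h3, h.s_mul_sq hs, f.sq]
      rw [hqi] at hc'
      rcases f.cent_cases h hq hc' with h4 | h4 | h4 | h4
      · exact Or.inl h4
      · exact Or.inr (Or.inl h4)
      · exact Or.inr (Or.inr (Or.inl h4))
      · exact Or.inr (Or.inr (Or.inr (Or.inl h4)))
    · have hqi : q⁻¹ = z * s * (y i * y j) := by
        refine inv_eq_of_mul_eq_one_right ?_
        rw [h3]
        calc s * (y i * y j) * (z * s * (y i * y j)) = s * ((y i * y j) * (z * s)) * (y i * y j) := by group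
          _ = s * ((z * s) * (y i * y j)) * (y i * y j) := by rw [h.s_comm (mul_z_cases h hs) (y i * y j)]
          _ = (s * (z * s)) * (y i * y j * (y i * y j)) := by group
          _ = 1 := by rw [f.yy h hij, h.zl, h.s_sq hs, mul_one, h.zz]
      have h4 : s * (y (σ0 i) * y (σ0 j)) = z * s * (y i * y j) := by
        have e1 : t * q = s * (y (σ0 i) * y (σ0 j)) * t := by
          rw [h3]
          calc t * (s * (y i * y j)) = s * ((t * y i) * y j) := by rw [← mul_assoc, h.s_comm hs]; group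
            _ = s * (y (σ0 i) * (t * y j)) := by rw [f.ty]; group
            _ = s * (y (σ0 i) * y (σ0 j)) * t := by rw [f.ty]; group
        rw [hc', hqi] at e1
        exact (mul_right_cancel e1).symm
      have hσ : σ0 i ≠ σ0 j := fun h5 => hij (σ0.injective h5)
      rcases f.syy_inj h hs (mul_z_cases h hs) hσ hij h4 with ⟨-, -, h5⟩ | ⟨h5, h6, -⟩
      · exact absurd h5.symm (h.zne s)
      · have key : ∀ i j : Fin 5, i ≠ j → σ0 i = j → σ0 j = i → (i = 0 ∧ j = 1) ∨ (i = 1 ∧ j = 0) ∨ (i = 2 ∧ j = 3) ∨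
            (i = 3 ∧ j = 2) := by decide
        have a01 := f.anti 0 1 (by decide)
        have a10 := f.anti 1 0 (by decide)
        have a23 := f.anti 2 3 (by decide)
        have a32 := f.anti 3 2 (by decide)
        rcases key i j hij h5 h6 with ⟨rfl, rfl⟩ | ⟨rfl, rfl⟩ | ⟨rfl, rfl⟩ | ⟨rfl, rfl⟩ <;> rcases hs with hs | hs
        · rw [h3, hs, one_mul]; tauto
        · rw [h3, hs, ← a10]; tauto
        · rw [h3, hs, one_mul]; tauto
        · rw [h3, hs, ← a01]; tauto
        · rw [h3, hs, one_mul]; tauto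
        · rw [h3, hs, ← a32]; tauto
        · rw [h3, hs, one_mul]; tauto
        · rw [h3, hs, ← a23]; tauto
  -- a conjugating element
  have conj : ∀ r : C, r * t * r⁻¹ = t * (t * r * t * r⁻¹) := by
    intro r
    calc r * t * r⁻¹ = (t * t) * r * t * r⁻¹ := by rw [f.tt, one_mul]
      _ = t * (t * r * t * r⁻¹) := by group
  have fin : ∀ r ∈ Q, t * r * t * r⁻¹ = q → ∃ r ∈ Q, r * t * r⁻¹ = t * q := by
    intro r hr h1
    exact ⟨r, hr, by rw [conj, h1]⟩
  have c1 : ∀ i, t * y i * t = y (σ0 i) := fun i => by rw [f.ty, mul_assoc, f.tt, mul_one]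
  have c2 : ∀ i j, t * (y i * y j) * t = y (σ0 i) * y (σ0 j) := fun i j => by
    calc t * (y i * y j) * t = (t * y i) * y j * t := by group
      _ = y (σ0 i) * (t * y j) * t := by rw [f.ty]; group
      _ = y (σ0 i) * y (σ0 j) * (t * t) := by rw [f.ty]; group
      _ = y (σ0 i) * y (σ0 j) := by rw [f.tt, mul_one]
  have i2 : ∀ i j, (y i * y j)⁻¹ = y j * y i := fun i j => by rw [mul_inv_rev, rinv, rinv]
  have s00 : σ0 0 = 1 := by decide
  have s11 : σ0 1 = 0 := by decide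
  have s22 : σ0 2 = 3 := by decide
  have s33 : σ0 3 = 2 := by decide
  have hy4 : y 4 = y 3 * (y 2 * (y 1 * y 0)) := by
    have h1 := f.prod
    have h2 : y 0 * (y 1 * (y 2 * y 3)) * y 4 = 1 := by rw [← h1]; group
    rw [eq_inv_of_mul_eq_one_right h2, mul_inv_rev, mul_inv_rev, mul_inv_rev, rinv, rinv, rinv, rinv]
    group
  have a10 := f.anti 1 0 (by decide)
  have a32 := f.anti 3 2 (by decide)
  have f13 := h.flip (f.anti 1 3 (by decide))
  have f12 := h.flip (f.anti 1 2 (by decide))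
  have f23 := h.flip (f.anti 2 3 (by decide))
  rcases cases with rfl | rfl | h1 | h1 | h1 | h1 | h1 | h1
  · exact ⟨1, Q.one_mem, by group⟩
  · refine fin (y 0 * y 1) (Q.mul_mem (f.mem 0) (f.mem 1)) ?_
    rw [c2, i2, s00, s11, f.yy h (by decide)]
  · refine fin (y 0 * y 2) (Q.mul_mem (f.mem 0) (f.mem 2)) ?_
    rw [c2, i2, s00, s22, h1, hy4, mul_assoc, f13, f12, zl, zzl]
  · refine fin (y 0 * y 3) (Q.mul_mem (f.mem 0) (f.mem 3)) ?_
    rw [c2, i2, s00, s33, h1, hy4, mul_assoc, f12, f13, zl, zzl, f23]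
  · refine fin (y 1) (f.mem 1) ?_
    rw [c1, rinv, s11, h1]
  · refine fin (y 0) (f.mem 0) ?_
    rw [c1, rinv, s00, h1]
  · refine fin (y 3) (f.mem 3) ?_
    rw [c1, rinv, s33, h1]
  · refine fin (y 2) (f.mem 2) ?_
    rw [c1, rinv, s22, h1]

/-- all involutions outside `Q` are conjugate -/
theorem TFrame.conj {t' : C} (htt : t' * t' = 1) (htQ : t' ∉ Q) : ∃ c : C, c * t' * c⁻¹ = t := by
  have h1 : f.pi h t' * f.pi h t' = 1 := by rw [← map_mul, htt, map_one]
  have h2 : f.pi h t' ≠ 1 := by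
    intro h2
    rw [← MonoidHom.mem_ker, f.ker_pi h] at h2
    exact htQ h2
  have h3 : Equiv.Perm.sign (f.pi h t') = 1 := by
    rw [← Equiv.Perm.mem_alternatingGroup, ← f.range_pi h]
    exact ⟨t', rfl⟩
  obtain ⟨ρ, hρ, hρ2⟩ := conj_two _ h3 h1 h2
  rw [← Equiv.Perm.mem_alternatingGroup, ← f.range_pi h] at hρ
  obtain ⟨c, rfl⟩ := hρ
  have h4 : f.pi h (t⁻¹ * (c * t' * c⁻¹)) = 1 := by
    rw [map_mul, map_mul, map_mul, map_inv, map_inv, hρ2, f.pi_t h, inv_mul_cancel]
  rw [← MonoidHom.mem_ker, f.ker_pi h] at h4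
  have h5 : t * (t⁻¹ * (c * t' * c⁻¹)) = c * t' * c⁻¹ := by group
  obtain ⟨r, hr, hr2⟩ := f.inv_conj h h4 (by
    rw [h5]
    calc c * t' * c⁻¹ * (c * t' * c⁻¹) = c * (t' * t') * c⁻¹ := by group
      _ = 1 := by rw [htt]; group)
  refine ⟨r⁻¹ * c, ?_⟩
  rw [h5] at hr2
  calc r⁻¹ * c * t' * (r⁻¹ * c)⁻¹ = r⁻¹ * (c * t' * c⁻¹) * r := by group
    _ = r⁻¹ * (r * t * r⁻¹) * r := by rw [hr2]
    _ = t := by group

/-- the order of the centralizer -/
theorem TFrame.card_cent : Nat.card (Subgroup.centralizer ({t} : Set C)) = 16 := by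
  have hfin : Finite C := Nat.finite_of_card_ne_zero (by rw [h.cardC]; norm_num)
  let B := Subgroup.centralizer ({t} : Set C)
  let π : B →* Equiv.Perm (Fin 5) := (f.pi h).comp B.subtype
  have hB : ∀ b : C, b ∈ B ↔ b * t = t * b := fun b => Subgroup.mem_centralizer_singleton_iff
  have hrange : (π.range : Set (Equiv.Perm (Fin 5))) =
      ((Finset.univ.filter fun ρ : Equiv.Perm (Fin 5) => Equiv.Perm.sign ρ = 1 ∧ ρ * σ0 = σ0 * ρ : Finset _) : Set _) := by
    ext ρ
    rw [Finset.mem_coe, Finset.mem_filter]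
    constructor
    · rintro ⟨b, rfl⟩
      refine ⟨Finset.mem_univ _, ?_, ?_⟩
      · rw [← Equiv.Perm.mem_alternatingGroup, ← f.range_pi h]
        exact ⟨b, rfl⟩
      · change f.pi h b * σ0 = σ0 * f.pi h b
        rw [← f.pi_t h, ← map_mul, ← map_mul, (hB b).1 b.2]
    · rintro ⟨-, h1, h2⟩
      rw [← Equiv.Perm.mem_alternatingGroup, ← f.range_pi h] at h1
      obtain ⟨c, rfl⟩ := h1
      have h4 : f.pi h (t⁻¹ * (c * t * c⁻¹)) = 1 := by
        rw [map_mul, map_mul, map_mul, map_inv, map_inv, f.pi_t h, h2]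
        group
      rw [← MonoidHom.mem_ker, f.ker_pi h] at h4
      have h5 : t * (t⁻¹ * (c * t * c⁻¹)) = c * t * c⁻¹ := by group
      obtain ⟨r, hr, hr2⟩ := f.inv_conj h h4 (by
        rw [h5]
        calc c * t * c⁻¹ * (c * t * c⁻¹) = c * (t * t) * c⁻¹ := by group
          _ = 1 := by rw [f.tt]; group)
      rw [h5] at hr2
      have h6 : r⁻¹ * c ∈ B := by
        rw [hB]
        calc r⁻¹ * c * t = r⁻¹ * (c * t * c⁻¹) * c := by group
          _ = r⁻¹ * (r * t * r⁻¹) * c := by rw [hr2]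
          _ = t * (r⁻¹ * c) := by group
      refine ⟨⟨r⁻¹ * c, h6⟩, ?_⟩
      change f.pi h (r⁻¹ * c) = f.pi h c
      have h7 : f.pi h r = 1 := by
        rw [← MonoidHom.mem_ker, f.ker_pi h]
        exact hr
      rw [map_mul, map_inv, h7, inv_one, one_mul]
  have hr4 : Nat.card π.range = 4 := by
    rw [card_eq_ncard, hrange, Set.ncard_coe_finset, card_cent_two]
  have hk4 : Nat.card π.ker = 4 := by
    have hmem : ∀ b : B, b ∈ π.ker ↔ (b : C) = 1 ∨ (b : C) = z ∨ (b : C) = y 4 ∨ (b : C) = z * y 4 := by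
      intro b
      have h1 : b ∈ π.ker ↔ (b : C) ∈ Q := by
        rw [MonoidHom.mem_ker, ← f.ker_pi h, MonoidHom.mem_ker]
        rfl
      rw [h1]
      constructor
      · intro hb
        exact f.cent_cases h hb ((hB b).1 b.2).symm
      · rintro (h2 | h2 | h2 | h2) <;> rw [h2]
        · exact Q.one_mem
        · exact h.zQ
        · exact f.mem 4
        · exact Q.mul_mem h.zQ (f.mem 4)
    have hz : z ∈ B := (hB z).2 (h.zc t).symm
    have hy : y 4 ∈ B := (hB _).2 f.t4.symm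
    have e : (π.ker : Set B) = {1, ⟨z, hz⟩, ⟨y 4, hy⟩, ⟨z, hz⟩ * ⟨y 4, hy⟩} := by
      ext b
      rw [SetLike.mem_coe, hmem]
      simp only [Set.mem_insert_iff, Set.mem_singleton_iff, Subtype.ext_iff]
      rfl
    rw [card_eq_ncard, e]
    have n1 : y 4 ≠ 1 := f.ne_one h 4
    have n2 : y 4 ≠ z := f.ne_z h 4
    rw [Set.ncard_insert_of_notMem, Set.ncard_insert_of_notMem, Set.ncard_pair]
    · intro h1
      exact h.zne (y 4) (congrArg Subtype.val h1).symm
    · simp only [Set.mem_insert_iff, Set.mem_singleton_iff, Subtype.ext_iff, not_or]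
      exact ⟨n2.symm, fun h1 => n1 (mul_eq_left.1 h1.symm)⟩
    · simp only [Set.mem_insert_iff, Set.mem_singleton_iff, Subtype.ext_iff, not_or]
      refine ⟨h.z1.symm, n1.symm, fun h1 => n2 ?_⟩
      have h2 : (1 : C) = z * y 4 := h1
      rw [← h.zzl (y 4), ← h2, mul_one]
  have h1 := π.ker.card_mul_index
  rw [Subgroup.index_ker, hr4, hk4] at h1
  exact h1.symm

end

end H64.J2
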