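import Cfsg.Agent.Lib.H64.J2E

set_option autoImplicit false
set_option linter.unusedSimpArgs false

/-! Involutions outside the extraspecial subgroup: structure of the centralizer, counting. -/

namespace H64.J2

variable {C : Type*} [Group C] {z : C} {Q : Subgroup C} {y : Fin 5 → C} {t : C}

theorem cent_two' : ∀ ρ ρ' : Equiv.Perm (Fin 5), Equiv.Perm.sign ρ = 1 → Equiv.Perm.sign ρ' = 1 → ρ * σ0 = σ0 * ρ →
    ρ' * σ0 = σ0 * ρ' → ((ρ = 1 ∨ ρ = σ0) ∨ (ρ' = 1 ∨ ρ' = σ0)) ∨ (ρ * ρ'⁻¹ = 1 ∨ ρ * ρ'⁻¹ = σ0) := by decide +kernel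

theorem cent_two_sq : ∀ ρ : Equiv.Perm (Fin 5), Equiv.Perm.sign ρ = 1 → ρ * σ0 = σ0 * ρ → ρ * ρ = 1 := by decide +kernel

theorem trans_alt : ∀ i j : Fin 5, ∃ ρ : Equiv.Perm (Fin 5), Equiv.Perm.sign ρ = 1 ∧ ρ i = j := by decide +kernel

section
variable (h : Core z Q)
include h

theorem Frame.pi_sign (f : Frame z Q y) (c : C) : Equiv.Perm.sign (f.pi h c) = 1 := by
  rw [← Equiv.Perm.mem_alternatingGroup, ← f.range_pi h]
  exact ⟨c, rfl⟩

/-- transitivity on the non-central involutions of `Q` -/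
theorem Frame.trans (f : Frame z Q y) {q q' : C} (hq : q ∈ Q) (hq' : q' ∈ Q) (h2 : q * q = 1) (h2' : q' * q' = 1)
    (h1 : q ≠ 1) (h1' : q' ≠ 1) (hz : q ≠ z) (hz' : q' ≠ z) : ∃ c : C, c * q * c⁻¹ = q' := by
  have e : ∀ {q : C}, q ∈ Q → q * q = 1 → q ≠ 1 → q ≠ z → ∃ i, ∃ s, (s = 1 ∨ s = z) ∧ q = s * y i := by
    intro q hq h2 h1 hz
    rcases f.inv_cases h hq h2 with h3 | h3 | ⟨i, h3 | h3⟩
    · exact absurd h3 h1
    · exact absurd h3 hz
    · exact ⟨i, 1, Or.inl rfl, by rw [one_mul]; exact h3⟩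
    · exact ⟨i, z, Or.inr rfl, h3⟩
  obtain ⟨i, s, hs, h3⟩ := e hq h2 h1 hz
  obtain ⟨j, s', hs', h3'⟩ := e hq' h2' h1' hz'
  obtain ⟨ρ, hρ, hρij⟩ := trans_alt i j
  rw [← Equiv.Perm.mem_alternatingGroup, ← f.range_pi h] at hρ
  obtain ⟨c, rfl⟩ := hρ
  have h4 : ∃ u, (u = 1 ∨ u = z) ∧ c * q * c⁻¹ = u * y j := by
    have h5 := f.pi_spec h c i
    rw [hρij] at h5
    have h6 : c * q * c⁻¹ = s * (c * y i * c⁻¹) := by
      rw [h3, ← mul_assoc, h.s_comm hs]; group
    rcases h5 with h5 | h5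
    · exact ⟨s, hs, by rw [h6, h5]⟩
    · exact ⟨z * s, mul_z_cases h hs, by rw [h6, h5, ← mul_assoc, h.zc]⟩
  obtain ⟨u, hu, h5⟩ := h4
  by_cases hus : u = s'
  · exact ⟨c, by rw [h5, hus, ← h3']⟩
  · -- conjugate by another frame vector
    obtain ⟨k, hk⟩ := fin5_ne j
    have h6 : s' = z * u := by
      rcases hu with rfl | rfl <;> rcases hs' with rfl | rfl
      · exact absurd rfl hus
      · rw [mul_one]
      · rw [h.zz]
      · exact absurd rfl hus
    refine ⟨y k * c, ?_⟩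
    have rinv : (y k)⁻¹ = y k := inv_eq_of_mul_eq_one_right (f.sq k)
    calc y k * c * q * (y k * c)⁻¹ = y k * (c * q * c⁻¹) * (y k)⁻¹ := by group
      _ = y k * u * y j * y k := by rw [h5, rinv]; group
      _ = u * (y k * y j) * y k := by rw [h.s_comm hu]; group
      _ = u * z * (y j * (y k * y k)) := by rw [f.anti k j (Ne.symm hk)]; group
      _ = q' := by rw [f.sq, h.zc, ← h6, mul_one, ← h3']

end

section
variable (h : Core z Q) (f : TFrame z Q y t)
include h f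

theorem TFrame.pi_comm {b : C} (hb : b * t = t * b) : f.pi h b * σ0 = σ0 * f.pi h b := by
  rw [← f.pi_t h, ← map_mul, ← map_mul, hb]

omit h in
theorem TFrame.rinv (i : Fin 5) : (y i)⁻¹ = y i := inv_eq_of_mul_eq_one_right (f.sq i)

omit h in
theorem TFrame.y4 : y 4 = y 3 * (y 2 * (y 1 * y 0)) := by
  have h1 := f.prod
  have h2 : y 0 * (y 1 * (y 2 * y 3)) * y 4 = 1 := by rw [← h1]; group
  rw [eq_inv_of_mul_eq_one_right h2, mul_inv_rev, mul_inv_rev, mul_inv_rev, f.rinv, f.rinv, f.rinv, f.rinv]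
  group

/-- elements centralizing `t` centralize `y 4` -/
theorem TFrame.comm_y4 {b : C} (hb : b * t = t * b) : b * y 4 = y 4 * b := by
  have key : ∀ i j, (f.pi h b) i = j → ∃ s, (s = 1 ∨ s = z) ∧ b * y i * b⁻¹ = s * y j ∧
      b * y (σ0 i) * b⁻¹ = s * y (σ0 j) := by
    intro i j hij
    have h1 := f.pi_spec h b i
    rw [hij] at h1
    have h2 : ∃ s, (s = 1 ∨ s = z) ∧ b * y i * b⁻¹ = s * y j := by
      rcases h1 with h1 | h1
      · exact ⟨1, Or.inl rfl, by rw [one_mul, h1]⟩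
      · exact ⟨z, Or.inr rfl, h1⟩
    obtain ⟨s, hs, h3⟩ := h2
    refine ⟨s, hs, h3, ?_⟩
    have h4 : y (σ0 i) = t * y i * t⁻¹ := by rw [f.ty]; group
    have h5 : y (σ0 j) = t * y j * t⁻¹ := by rw [f.ty]; group
    have hb' : b * t⁻¹ = t⁻¹ * b := by
      calc b * t⁻¹ = t⁻¹ * (t * b) * t⁻¹ := by group
        _ = t⁻¹ * b := by rw [← hb]; group
    have hb'' : t⁻¹ * b⁻¹ = b⁻¹ * t⁻¹ := by
      calc t⁻¹ * b⁻¹ = (b * t)⁻¹ := by group
        _ = b⁻¹ * t⁻¹ := by rw [hb]; group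
    calc b * y (σ0 i) * b⁻¹ = (b * t) * y i * (t⁻¹ * b⁻¹) := by rw [h4]; group
      _ = t * (b * y i * b⁻¹) * t⁻¹ := by rw [hb, hb'']; group
      _ = (t * s) * y j * t⁻¹ := by rw [h3]; group
      _ = s * y (σ0 j) := by rw [h.s_comm hs, h5]; group
  have s00 : σ0 0 = 1 := by decide
  have s22 : σ0 2 = 3 := by decide
  have fin : ∀ i j, (f.pi h b) 0 = i → (f.pi h b) 2 = j → y (σ0 j) * (y j * (y (σ0 i) * y i)) = y 4 →
      b * y 4 = y 4 * b := by
    intro i j hi hj hij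
    obtain ⟨s, hs, h1, h2⟩ := key 0 i hi
    obtain ⟨s', hs', h3, h4⟩ := key 2 j hj
    rw [s00] at h2
    rw [s22] at h4
    have h5 : b * y 4 * b⁻¹ = y 4 := by
      calc b * y 4 * b⁻¹ = (b * y 3 * b⁻¹) * ((b * y 2 * b⁻¹) * ((b * y 1 * b⁻¹) * (b * y 0 * b⁻¹))) := by
            rw [f.y4]; group
        _ = (s' * y (σ0 j) * (s' * y j)) * ((s * y (σ0 i)) * (s * y i)) := by rw [h1, h2, h3, h4]; group
        _ = s' * (y (σ0 j) * s') * y j * (s * (y (σ0 i) * s) * y i) := by group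
        _ = (s' * s') * y (σ0 j) * y j * ((s * s) * y (σ0 i) * y i) := by rw [h.s_comm hs', h.s_comm hs]; group
        _ = y (σ0 j) * (y j * (y (σ0 i) * y i)) := by rw [h.s_sq hs, h.s_sq hs']; group
        _ = y 4 := hij
    calc b * y 4 = b * y 4 * b⁻¹ * b := by group
      _ = y 4 * b := by rw [h5]
  have zl := h.zl
  have zzl := h.zzl
  have s11 : σ0 1 = 0 := by decide
  have s33 : σ0 3 = 2 := by decide
  have r01 := f.anti 0 1 (by decide)
  have f10 := h.flip (f.anti 1 0 (by decide))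
  have f03 := h.flip (f.anti 0 3 (by decide))
  have f02 := h.flip (f.anti 0 2 (by decide))
  have f13 := h.flip (f.anti 1 3 (by decide))
  have f12 := h.flip (f.anti 1 2 (by decide))
  have f23 := h.flip (f.anti 2 3 (by decide))
  have q02 := f.anti 0 2 (by decide)
  have q03 := f.anti 0 3 (by decide)
  have q12 := f.anti 1 2 (by decide)
  have q13 := f.anti 1 3 (by decide)
  have q23 := f.anti 2 3 (by decide)
  rcases cent_two _ (f.pi_sign h b) (f.pi_comm h hb) with ⟨h1, h2⟩ | ⟨h1, h2⟩ | ⟨h1, h2⟩ | ⟨h1, h2⟩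
  · refine fin 0 2 h1 h2 ?_
    rw [s00, s22, f.y4]
  · refine fin 1 3 h1 h2 ?_
    rw [s11, s33, f.y4]
    simp only [zl, zzl, r01, f10, f03, f02, f13, f12, f23, q02, q03, q12, q13, q23]
  · refine fin 2 0 h1 h2 ?_
    rw [s00, s22, f.y4]
    simp only [zl, zzl, r01, f10, f03, f02, f13, f12, f23, q02, q03, q12, q13, q23]
  · refine fin 3 1 h1 h2 ?_
    rw [s11, s33, f.y4]
    simp only [zl, zzl, r01, f10, f03, f02, f13, f12, f23, q02, q03, q12, q13, q23]

/-- elements of the centralizer acting like `1` or `t` -/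
theorem TFrame.central {b : C} (hb : b * t = t * b) (hp : f.pi h b = 1 ∨ f.pi h b = σ0) {a : C} (ha : a * t = t * a) :
    a * b = b * a := by
  have h4 := f.comm_y4 h ha
  have hY : ∀ w ∈ Q, w * t = t * w → a * w = w * a := by
    intro w hw hwt
    rcases f.cent_cases h hw hwt.symm with rfl | rfl | rfl | rfl
    · rw [mul_one, one_mul]
    · exact h.zc a
    · exact h4
    · rw [h.zl, h4]; group
  rcases hp with hp | hp
  · rw [← MonoidHom.mem_ker, f.ker_pi h] at hp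
    exact hY b hp hb
  · have h1 : f.pi h (t * b) = 1 := by
      rw [map_mul, f.pi_t h, hp]
      decide
    rw [← MonoidHom.mem_ker, f.ker_pi h] at h1
    have h2 := hY _ h1 (by rw [mul_assoc, hb])
    have h3 : t * (a * b) = t * (b * a) := by
      calc t * (a * b) = (t * a) * b := by group
        _ = a * (t * b) := by rw [← ha]; group
        _ = t * (b * a) := by rw [h2]; group
    exact mul_left_cancel h3

/-- the centralizer is commutative -/
theorem TFrame.cent_comm {a b : C} (ha : a * t = t * a) (hb : b * t = t * b) : a * b = b * a := by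
  rcases cent_two' _ _ (f.pi_sign h a) (f.pi_sign h b) (f.pi_comm h ha) (f.pi_comm h hb) with (h1 | h1) | h1
  · exact (f.central h ha h1 hb).symm
  · exact f.central h hb h1 ha
  · have hab : a * b⁻¹ * t = t * (a * b⁻¹) := by
      have h2 : b⁻¹ * t = t * b⁻¹ := by
        calc b⁻¹ * t = b⁻¹ * (t * b) * b⁻¹ := by group
          _ = t * b⁻¹ := by rw [← hb]; group
      rw [mul_assoc, h2, ← mul_assoc, ha, mul_assoc]
    have h3 : f.pi h (a * b⁻¹) = 1 ∨ f.pi h (a * b⁻¹) = σ0 := by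
      rw [map_mul, map_inv]
      exact h1
    have h4 := f.central h hab h3 hb
    calc a * b = (a * b⁻¹) * b * b := by group
      _ = b * (a * b⁻¹) * b := by rw [h4]
      _ = b * a := by group

/-- squares in the centralizer -/
theorem TFrame.cent_sq {b : C} (hb : b * t = t * b) : b * b = 1 ∨ b * b = z ∨ b * b = y 4 ∨ b * b = z * y 4 := by
  refine f.cent_cases h ?_ ?_
  · rw [← f.ker_pi h, MonoidHom.mem_ker, map_mul]
    exact cent_two_sq _ (f.pi_sign h b) (f.pi_comm h hb)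
  · rw [← mul_assoc, ← hb, mul_assoc, ← hb, mul_assoc]

/-- the index of the centralizer -/
theorem TFrame.index_cent : (Subgroup.centralizer ({t} : Set C)).index = 120 := by
  have h1 := (Subgroup.centralizer ({t} : Set C)).card_mul_index
  rw [f.card_cent h, h.cardC] at h1
  omega

/-- when `z` is a power of `u t` -/
theorem TFrame.mem_zpowers_iff {u : C} (hu : u ∈ Q) (hu2 : u * u = 1) : z ∈ Subgroup.zpowers (u * t) ↔ t * u ≠ u * t := by
  constructor
  · intro h1 h2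
    have h3 : (u * t) * (u * t) = 1 := by
      calc (u * t) * (u * t) = u * (t * u) * t := by group
        _ = u * u * (t * t) := by rw [h2]; group
        _ = 1 := by rw [hu2, f.tt, one_mul]
    obtain ⟨k, hk⟩ := Subgroup.mem_zpowers_iff.1 h1
    have h4 : z = 1 ∨ z = u * t := by
      rcases Int.even_or_odd' k with ⟨m, hm | hm⟩
      · left
        rw [← hk, hm, zpow_mul, zpow_two, h3, one_zpow]
      · right
        rw [← hk, hm, zpow_add, zpow_mul, zpow_two, h3, one_zpow, zpow_one, one_mul]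
    rcases h4 with h4 | h4
    · exact h.z1 h4
    · apply f.tQ
      have h5 : t = u⁻¹ * z := by rw [h4]; group
      rw [h5]
      exact Q.mul_mem (Q.inv_mem hu) h.zQ
  · intro h1
    obtain ⟨i, s, hs, h3⟩ : ∃ i s, (s = 1 ∨ s = z) ∧ u = s * y i := by
      rcases f.inv_cases h hu hu2 with h3 | h3 | ⟨i, h3 | h3⟩
      · exact absurd (by rw [h3, mul_one, one_mul]) h1
      · exact absurd (by rw [h3]; exact h.zc t) h1
      · exact ⟨i, 1, Or.inl rfl, by rw [one_mul]; exact h3⟩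
      · exact ⟨i, z, Or.inr rfl, h3⟩
    have hi : i ≠ σ0 i := by
      intro h4
      apply h1
      rw [h3, ← mul_assoc, h.s_comm hs, mul_assoc, f.ty, ← h4, mul_assoc]
    have h5 : (u * t) * (u * t) = y i * y (σ0 i) := by
      calc (u * t) * (u * t) = u * (t * s) * y i * t := by rw [h3]; group
        _ = s * (y i * s) * (t * y i) * t := by rw [h.s_comm hs t, h3]; group
        _ = (s * s) * (y i * (y (σ0 i) * (t * t))) := by rw [h.s_comm hs (y i), f.ty]; group
        _ = y i * y (σ0 i) := by rw [h.s_sq hs, f.tt, mul_one, one_mul]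
    have h6 := f.yy h hi
    rw [← h5] at h6
    rw [Subgroup.mem_zpowers_iff]
    refine ⟨4, ?_⟩
    rw [show (4 : ℤ) = 2 * 2 by norm_num, zpow_mul, zpow_two, zpow_two]
    exact h6

theorem TFrame.card_pairs : Nat.card {u : C // (u ∈ Q ∧ u * u = 1) ∧ z ∈ Subgroup.zpowers (u * t)} = 8 := by
  have hfin : Finite C := Nat.finite_of_card_ne_zero (by rw [h.cardC]; norm_num)
  have h12 := f.card_sq h
  have e1 : {u : C | (u ∈ Q ∧ u * u = 1) ∧ z ∈ Subgroup.zpowers (u * t)} =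
      {u : C | u ∈ Q ∧ u * u = 1} \ {1, z, y 4, z * y 4} := by
    ext u
    constructor
    · rintro ⟨hu, hz⟩
      refine ⟨hu, ?_⟩
      rw [f.mem_zpowers_iff h hu.1 hu.2] at hz
      rintro (rfl | rfl | rfl | rfl)
      · exact hz (by rw [mul_one, one_mul])
      · exact hz (h.zc t)
      · exact hz f.t4
      · exact hz (by rw [h.zl, f.t4]; group)
    · rintro ⟨hu, hn⟩
      refine ⟨hu, ?_⟩
      rw [f.mem_zpowers_iff h hu.1 hu.2]
      intro hc
      rcases f.cent_cases h hu.1 hc with h1 | h1 | h1 | h1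
      · exact hn (Or.inl h1)
      · exact hn (Or.inr (Or.inl h1))
      · exact hn (Or.inr (Or.inr (Or.inl h1)))
      · exact hn (Or.inr (Or.inr (Or.inr h1)))
  have e2 : Nat.card {u : C // (u ∈ Q ∧ u * u = 1) ∧ z ∈ Subgroup.zpowers (u * t)} =
      {u : C | (u ∈ Q ∧ u * u = 1) ∧ z ∈ Subgroup.zpowers (u * t)}.ncard := Nat.card_coe_set_eq _
  have e3 : {u : C | u ∈ Q ∧ u * u = 1}.ncard = 12 := h12
  have n1 : y 4 ≠ 1 := f.ne_one h 4
  have n2 : y 4 ≠ z := f.ne_z h 4
  have e4 : ({1, z, y 4, z * y 4} : Set C).ncard = 4 := by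
    rw [Set.ncard_insert_of_notMem, Set.ncard_insert_of_notMem, Set.ncard_pair]
    · exact fun h1 => h.zne (y 4) h1.symm
    · simp only [Set.mem_insert_iff, Set.mem_singleton_iff, not_or]
      exact ⟨n2.symm, fun h1 => n1 (mul_eq_left.1 h1.symm)⟩
    · simp only [Set.mem_insert_iff, Set.mem_singleton_iff, not_or]
      refine ⟨h.z1.symm, n1.symm, fun h1 => n2 ?_⟩
      rw [← h.zzl (y 4), ← h1, mul_one]
  rw [e2, e1, Set.ncard_sdiff, e3, e4]
  rintro u (rfl | rfl | rfl | rfl)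
  · exact ⟨Q.one_mem, one_mul 1⟩
  · exact ⟨h.zQ, h.zz⟩
  · exact ⟨f.mem 4, f.sq 4⟩
  · exact ⟨Q.mul_mem h.zQ (f.mem 4), by rw [h.s_mul_sq (Or.inr rfl), f.sq]⟩

end

end H64.J2
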