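import Cfsg.Agent.Lib.H64.J2F
import Cfsg.Agent.Lib.H25.Fus3

set_option autoImplicit false

/-! Groups of Hall-Janko type: fusion of involutions. -/

namespace H64.J2

variable {G : Type*} [Group G] [Finite G] {z : G} {Q : Subgroup (Subgroup.centralizer ({z} : Set G))}

/-- `z` in its centralizer -/
def zz' (z : G) : Subgroup.centralizer ({z} : Set G) := ⟨z, Subgroup.mem_centralizer_singleton_iff.2 rfl⟩

/-- the hypothesis -/
structure HJ (z : G) (Q : Subgroup (Subgroup.centralizer ({z} : Set G))) : Prop where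
  core : Core (zz' z) Q
  nwc : ∃ q ∈ Q, q ≠ zz' z ∧ IsConj z (q : G)

section
variable (H : HJ z Q)
include H

omit [Finite G] in
theorem HJ.z_ne : z ≠ 1 := fun h => H.core.z1 (Subtype.ext h)
omit [Finite G] in
theorem HJ.z_sq : z * z = 1 := congrArg Subtype.val H.core.zz

omit [Finite G] in
theorem HJ.orderOf_conj {u : G} (hu : IsConj z u) : u * u = 1 ∧ u ≠ 1 := by
  obtain ⟨g, hg⟩ := isConj_iff.1 hu
  constructor
  · rw [← hg]
    calc g * z * g⁻¹ * (g * z * g⁻¹) = g * (z * z) * g⁻¹ := by group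
      _ = 1 := by rw [H.z_sq]; group
  · rintro rfl
    rw [conj_eq_one_iff] at hg
    exact H.z_ne hg

theorem HJ.exists_frame : ∃ y, Frame (zz' z) Q y := by
  have hp : Fact (Nat.Prime 5) := ⟨by norm_num⟩
  obtain ⟨x, hx⟩ := exists_prime_orderOf_dvd_card' (G := Subgroup.centralizer ({z} : Set G)) 5
    (by rw [H.core.cardC]; norm_num)
  exact H.core.exists_frame hx

/-- involutions of `Q` are conjugate to `z` -/
theorem HJ.conj_Q {q : Subgroup.centralizer ({z} : Set G)} (hq : q ∈ Q) (h2 : q * q = 1) (h1 : q ≠ 1) :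
    IsConj z (q : G) := by
  by_cases hz : q = zz' z
  · rw [hz]; exact IsConj.refl z
  obtain ⟨y, f⟩ := H.exists_frame
  obtain ⟨u, hu, huz, hu2⟩ := H.nwc
  have h3 := H.orderOf_conj hu2
  obtain ⟨c, hc⟩ := f.trans H.core hu hq (Subtype.ext h3.1) h2 (fun h => h3.2 (congrArg Subtype.val h)) h1 huz hz
  refine hu2.trans (isConj_iff.2 ⟨c, ?_⟩)
  exact congrArg Subtype.val hc

/-- a Sylow 2-subgroup inside the centralizer -/
theorem HJ.exists_sylow : ∃ P : Sylow 2 G, (P : Subgroup G) ≤ Subgroup.centralizer ({z} : Set G) := by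
  have hp : Fact (Nat.Prime 2) := ⟨Nat.prime_two⟩
  obtain ⟨P0⟩ : Nonempty (Sylow 2 (Subgroup.centralizer ({z} : Set G))) := inferInstance
  let S : Subgroup G := (P0 : Subgroup _).map (Subgroup.centralizer ({z} : Set G)).subtype
  have hSp : IsPGroup 2 S := P0.isPGroup'.map _
  obtain ⟨P, hP⟩ := hSp.exists_le_sylow
  refine ⟨P, ?_⟩
  have hQn := H.core.Qn
  have hQ2 : IsPGroup 2 Q := IsPGroup.of_card (n := 5) (by rw [H.core.cardQ]; norm_num)
  have hQP : Q ≤ (P0 : Subgroup _) := hQ2.le_sylow_of_normal P0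
  have hSC : S ≤ Subgroup.centralizer ({z} : Set G) := by
    rintro _ ⟨x, -, rfl⟩
    exact x.2
  have hzS : z ∈ S := ⟨zz' z, hQP H.core.zQ, rfl⟩
  -- `S = P ⊓ C(z)`
  have hSeq : (P : Subgroup G) ⊓ Subgroup.centralizer ({z} : Set G) ≤ S := by
    have h1 : IsPGroup 2 ((P : Subgroup G).subgroupOf (Subgroup.centralizer ({z} : Set G))) :=
      P.isPGroup'.comap_subtype
    have h2 : (P0 : Subgroup _) ≤ (P : Subgroup G).subgroupOf (Subgroup.centralizer ({z} : Set G)) := by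
      intro x hx
      exact hP ⟨x, hx, rfl⟩
    have h3 := P0.is_maximal' h1 h2
    rintro g ⟨hg1, hg2⟩
    exact ⟨⟨g, hg2⟩, h3 ▸ (show (⟨g, hg2⟩ : Subgroup.centralizer ({z} : Set G)) ∈
      (P : Subgroup G).subgroupOf (Subgroup.centralizer ({z} : Set G)) from hg1), rfl⟩
  by_contra hcon
  have hlt : S.subgroupOf (P : Subgroup G) < ⊤ := by
    rw [lt_top_iff_ne_top]
    intro h1
    apply hcon
    intro g hg
    have h2 : (⟨g, hg⟩ : (P : Subgroup G)) ∈ S.subgroupOf (P : Subgroup G) := by rw [h1]; trivial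
    exact hSC h2
  have hnil : Group.IsNilpotent (P : Subgroup G) := P.isPGroup'.isNilpotent
  have hnc := Group.normalizerCondition_of_isNilpotent (G := (P : Subgroup G)) _ hlt
  obtain ⟨g, hg1, hg2⟩ := SetLike.exists_of_lt hnc
  apply hg2
  rw [Subgroup.mem_subgroupOf]
  apply hSeq
  refine ⟨g.2, ?_⟩
  rw [Subgroup.mem_normalizer_iff] at hg1
  have key : ∀ s ∈ S, (g : G) * s * (g : G)⁻¹ ∈ S := by
    intro s hs
    exact (hg1 ⟨s, hP hs⟩).1 hs
  have keyinv : ∀ s ∈ S, (g : G)⁻¹ * s * (g : G) ∈ S := by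
    intro s hs
    have h1 := (hg1 ⟨(g : G)⁻¹ * s * (g : G), (P : Subgroup G).mul_mem ((P : Subgroup G).mul_mem
      ((P : Subgroup G).inv_mem g.2) (hP hs)) g.2⟩).2
    apply h1
    rw [Subgroup.mem_subgroupOf]
    change (g : G) * ((g : G)⁻¹ * s * g) * (g : G)⁻¹ ∈ S
    have : (g : G) * ((g : G)⁻¹ * s * g) * (g : G)⁻¹ = s := by group
    rw [this]
    exact hs
  have hw := key z hzS
  have hwC := hSC hw
  have hcentral : ∀ s ∈ S, (g : G) * z * (g : G)⁻¹ * s = s * ((g : G) * z * (g : G)⁻¹) := by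
    intro s hs
    have h1 := Subgroup.mem_centralizer_singleton_iff.1 (hSC (keyinv s hs))
    calc (g : G) * z * (g : G)⁻¹ * s = g * (z * ((g : G)⁻¹ * s * g)) * (g : G)⁻¹ := by group
      _ = g * (((g : G)⁻¹ * s * g) * z) * (g : G)⁻¹ := by rw [h1]
      _ = s * ((g : G) * z * (g : G)⁻¹) := by group
  have hself := H.core.self ⟨_, hwC⟩ (fun q hq => Subtype.ext (hcentral q ⟨q, hQP hq, rfl⟩))
  have h5 := H.core.cen _ hself (fun q hq => Subtype.ext (hcentral q ⟨q, hQP hq, rfl⟩))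
  refine Subgroup.mem_centralizer_singleton_iff.2 ?_
  rcases h5 with h5 | h5
  · exfalso
    have h6 : (g : G) * z * (g : G)⁻¹ = 1 := congrArg Subtype.val h5
    rw [conj_eq_one_iff] at h6
    exact H.z_ne h6
  · have h6 : (g : G) * z * (g : G)⁻¹ = z := congrArg Subtype.val h5
    exact mul_inv_eq_iff_eq_mul.1 h6

/-- every involution is conjugate into the centralizer -/
theorem HJ.conj_into {u : G} (hu : u * u = 1) : ∃ g : G, g * u * g⁻¹ ∈ Subgroup.centralizer ({z} : Set G) := by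
  obtain ⟨P, hP⟩ := H.exists_sylow
  obtain ⟨g, hg⟩ := H25.Fus.exists_conj_mem_sylow P u 1 (by rw [pow_one, pow_two, hu])
  exact ⟨g, hP hg⟩

/-- an involution outside `Q` not conjugate to `z` -/
theorem HJ.exists_t (hcl : ∃ x y : G, orderOf x = 2 ∧ orderOf y = 2 ∧ ¬ IsConj x y) :
    ∃ t : Subgroup.centralizer ({z} : Set G), t ∉ Q ∧ t * t = 1 ∧ ¬ IsConj z (t : G) := by
  obtain ⟨x, y, hx, hy, hxy⟩ := hcl
  have key : ∀ u : G, orderOf u = 2 → ¬ IsConj z u → ∃ t : Subgroup.centralizer ({z} : Set G), t ∉ Q ∧ t * t = 1 ∧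
      ¬ IsConj z (t : G) := by
    intro u hu hzu
    have hu2 : u * u = 1 := by rw [← pow_two, ← hu, pow_orderOf_eq_one]
    have hu1 : u ≠ 1 := by
      rintro rfl
      rw [orderOf_one] at hu
      norm_num at hu
    obtain ⟨g, hg⟩ := H.conj_into hu2
    have h1 : ¬ IsConj z (g * u * g⁻¹) := fun h1 => hzu (h1.trans (isConj_iff.2 ⟨g⁻¹, by group⟩))
    have h2 : (⟨g * u * g⁻¹, hg⟩ : Subgroup.centralizer ({z} : Set G)) * ⟨g * u * g⁻¹, hg⟩ = 1 := by
      apply Subtype.ext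
      change g * u * g⁻¹ * (g * u * g⁻¹) = 1
      calc g * u * g⁻¹ * (g * u * g⁻¹) = g * (u * u) * g⁻¹ := by group
        _ = 1 := by rw [hu2]; group
    refine ⟨⟨g * u * g⁻¹, hg⟩, fun h3 => h1 ?_, h2, h1⟩
    refine H.conj_Q h3 h2 fun h4 => ?_
    have h5 : g * u * g⁻¹ = 1 := congrArg Subtype.val h4
    rw [conj_eq_one_iff] at h5
    exact hu1 h5
  by_cases h1 : IsConj z x
  · by_cases h2 : IsConj z y
    · exact absurd (h1.symm.trans h2) hxy
    · exact key y hy h2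
  · exact key x hx h1

end

end H64.J2
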