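import Cfsg.Agent.Lib.H64.J2G
import Cfsg.Agent.Lib.H18.CharInd

set_option autoImplicit false

/-! Groups of Hall-Janko type: the global data. -/

namespace H64.J2

variable {G : Type*} [Group G] {z t y : G}

/-- `a` centralizes `z` and `t` -/
structure GD (z t y : G) : Prop where
  zz : z * z = 1
  tt : t * t = 1
  yy : y * y = 1
  z1 : z ≠ 1
  t1 : t ≠ 1
  y1 : y ≠ 1
  yz : y ≠ z
  zt : z * t = t * z
  yt : y * t = t * y
  zy : z * y = y * z
  cardZ : Nat.card (Subgroup.centralizer ({z} : Set G)) = 1920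
  ncl : ¬ IsConj z t
  cls : ∀ u : G, u * u = 1 → u ≠ 1 → IsConj z u ∨ IsConj t u
  czy : IsConj z y
  czzy : IsConj z (z * y)
  typ : ∀ a : G, a * z = z * a → a * t = t * a → IsConj z a → a = z ∨ a = y ∨ a = z * y
  cardA : Nat.card (Subgroup.centralizer ({z} : Set G) ⊓ Subgroup.centralizer ({t} : Set G) : Subgroup G) = 16
  commA : ∀ a b : G, a * z = z * a → a * t = t * a → b * z = z * b → b * t = t * b → a * b = b * a
  sqA : ∀ a : G, a * z = z * a → a * t = t * a → a * a = 1 ∨ a * a = z ∨ a * a = y ∨ a * a = z * y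
  pair : ∀ u v : G, IsConj z u → IsConj t v → u * v = v * u → ∃ g, g * u * g⁻¹ = z ∧ g * v * g⁻¹ = t
  n1 : Nat.card {p : G × G // IsConj z p.1 ∧ IsConj t p.2 ∧ z ∈ Subgroup.zpowers (p.1 * p.2)} = 960

theorem conj_zpowers_inv {u v : G} (hu : u * u = 1) (hv : v * v = 1) {w : G} (hw : w ∈ Subgroup.zpowers (u * v)) :
    u * w * u⁻¹ = w⁻¹ ∧ v * w * v⁻¹ = w⁻¹ := by
  obtain ⟨k, rfl⟩ := Subgroup.mem_zpowers_iff.1 hw
  have hu' : u⁻¹ = u := inv_eq_of_mul_eq_one_right hu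
  have hv' : v⁻¹ = v := inv_eq_of_mul_eq_one_right hv
  constructor
  · rw [← conj_zpow, ← inv_zpow, mul_inv_rev, hv', hu', ← mul_assoc, hu, one_mul]
  · rw [← conj_zpow, ← inv_zpow, mul_inv_rev, hv', hu']
    congr 1
    rw [mul_assoc, mul_assoc, hv, mul_one]

section
variable [Finite G] {Q : Subgroup (Subgroup.centralizer ({z} : Set G))}
  {y' : Fin 5 → Subgroup.centralizer ({z} : Set G)} {t' : Subgroup.centralizer ({z} : Set G)}
variable (H : HJ z Q) (f : TFrame (zz' z) Q y' t') (hn : ¬ IsConj z (t' : G))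
include H f hn

omit [Finite G] hn in
theorem HJ.not_conj_Q (hn : ¬ IsConj z (t' : G)) {v : Subgroup.centralizer ({z} : Set G)} (hv : v * v = 1)
    (hvt : IsConj (t' : G) v) [Finite G] : v ∉ Q := by
  intro hvQ
  have h1 : v ≠ 1 := by
    rintro rfl
    obtain ⟨g, hg⟩ := isConj_iff.1 hvt
    have h2 : (t' : G) = 1 := by
      rw [show ((1 : Subgroup.centralizer ({z} : Set G)) : G) = 1 from rfl, conj_eq_one_iff] at hg
      exact hg
    exact f.tQ (by rw [show t' = 1 from Subtype.ext h2]; exact Q.one_mem)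
  exact hn ((H.conj_Q hvQ hv h1).trans hvt.symm)

omit hn in
/-- `z`-type elements of the centralizer are in `Q` -/
theorem HJ.mem_Q (hn : ¬ IsConj z (t' : G)) {u : Subgroup.centralizer ({z} : Set G)} (hu : IsConj z (u : G)) : u ∈ Q := by
  by_contra h1
  have h2 : u * u = 1 := Subtype.ext (H.orderOf_conj hu).1
  obtain ⟨c, hc⟩ := f.conj H.core h2 h1
  exact hn (hu.trans (isConj_iff.2 ⟨c, congrArg Subtype.val hc⟩))

theorem HJ.pair {u v : G} (hu : IsConj z u) (hv : IsConj (t' : G) v) (huv : u * v = v * u) :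
    ∃ g, g * u * g⁻¹ = z ∧ g * v * g⁻¹ = t' := by
  obtain ⟨g, hg⟩ := isConj_iff.1 hu.symm
  have hvv : v * v = 1 := by
    obtain ⟨k, hk⟩ := isConj_iff.1 hv
    have : (t' : G) * t' = 1 := congrArg Subtype.val f.tt
    rw [← hk]
    calc k * (t' : G) * k⁻¹ * (k * t' * k⁻¹) = k * ((t' : G) * t') * k⁻¹ := by group
      _ = 1 := by rw [this]; group
  have h1 : g * v * g⁻¹ ∈ Subgroup.centralizer ({z} : Set G) := by
    rw [Subgroup.mem_centralizer_singleton_iff, ← hg]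
    calc g * v * g⁻¹ * (g * u * g⁻¹) = g * (v * u) * g⁻¹ := by group
      _ = g * u * g⁻¹ * (g * v * g⁻¹) := by rw [← huv]; group
  have h2 : (⟨g * v * g⁻¹, h1⟩ : Subgroup.centralizer ({z} : Set G)) * ⟨g * v * g⁻¹, h1⟩ = 1 := by
    apply Subtype.ext
    change g * v * g⁻¹ * (g * v * g⁻¹) = 1
    calc g * v * g⁻¹ * (g * v * g⁻¹) = g * (v * v) * g⁻¹ := by group
      _ = 1 := by rw [hvv]; group
  have h3 := H.not_conj_Q f hn h2 (hv.trans (isConj_iff.2 ⟨g, rfl⟩))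
  obtain ⟨c, hc⟩ := f.conj H.core h2 h3
  have hc' := congrArg Subtype.val hc
  change (c : G) * (g * v * g⁻¹) * (c : G)⁻¹ = t' at hc'
  refine ⟨c * g, ?_, ?_⟩
  · have h4 := Subgroup.mem_centralizer_singleton_iff.1 c.2
    calc (c : G) * g * u * (c * g)⁻¹ = c * (g * u * g⁻¹) * (c : G)⁻¹ := by group
      _ = z := by rw [hg, h4]; group
  · rw [← hc']; group

theorem HJ.n1 : Nat.card {p : G × G // IsConj z p.1 ∧ IsConj (t' : G) p.2 ∧ z ∈ Subgroup.zpowers (p.1 * p.2)} = 960 := by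
  classical
  let C := Subgroup.centralizer ({z} : Set G)
  have htt : (t' : G) * t' = 1 := congrArg Subtype.val f.tt
  have hsq : ∀ v : G, IsConj (t' : G) v → v * v = 1 := by
    intro v hv
    obtain ⟨k, hk⟩ := isConj_iff.1 hv
    rw [← hk]
    calc k * (t' : G) * k⁻¹ * (k * t' * k⁻¹) = k * ((t' : G) * t') * k⁻¹ := by group
      _ = 1 := by rw [htt]; group
  have zinv : z⁻¹ = z := inv_eq_of_mul_eq_one_right H.z_sq
  have hC : ∀ p : G × G, IsConj z p.1 → IsConj (t' : G) p.2 → z ∈ Subgroup.zpowers (p.1 * p.2) → p.1 ∈ C ∧ p.2 ∈ C := by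
    intro p h1 h2 h3
    have h4 := conj_zpowers_inv (H.orderOf_conj h1).1 (hsq _ h2) h3
    rw [zinv] at h4
    exact ⟨Subgroup.mem_centralizer_singleton_iff.2 (mul_inv_eq_iff_eq_mul.1 h4.1),
      Subgroup.mem_centralizer_singleton_iff.2 (mul_inv_eq_iff_eq_mul.1 h4.2)⟩
  -- the fibre over `v`
  let F : C → Type _ := fun v => {u : C // (u ∈ Q ∧ u * u = 1) ∧ zz' z ∈ Subgroup.zpowers (u * v)}
  have hF : ∀ v : {v : C // IsConj t' v}, Nat.card (F v) = 8 := by
    rintro ⟨v, hv⟩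
    obtain ⟨c, hc⟩ := isConj_iff.1 hv
    rw [← f.card_pairs H.core]
    have hQn := H.core.Qn
    refine Nat.card_congr ((MulAut.conj c⁻¹).toEquiv.subtypeEquiv ?_)
    intro u
    change ((u ∈ Q ∧ u * u = 1) ∧ zz' z ∈ Subgroup.zpowers (u * v)) ↔
      (((c⁻¹ * u * c⁻¹⁻¹) ∈ Q ∧ (c⁻¹ * u * c⁻¹⁻¹) * (c⁻¹ * u * c⁻¹⁻¹) = 1) ∧
        zz' z ∈ Subgroup.zpowers ((c⁻¹ * u * c⁻¹⁻¹) * t'))
    have e1 : (c⁻¹ * u * c⁻¹⁻¹) ∈ Q ↔ u ∈ Q := by
      constructor
      · intro h1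
        have h2 := hQn.conj_mem _ h1 c
        have e : c * (c⁻¹ * u * c⁻¹⁻¹) * c⁻¹ = u := by group
        rwa [e] at h2
      · intro h1
        exact hQn.conj_mem _ h1 c⁻¹
    have e2 : (c⁻¹ * u * c⁻¹⁻¹) * (c⁻¹ * u * c⁻¹⁻¹) = 1 ↔ u * u = 1 := by
      have e : (c⁻¹ * u * c⁻¹⁻¹) * (c⁻¹ * u * c⁻¹⁻¹) = c⁻¹ * (u * u) * c⁻¹⁻¹ := by group
      rw [e, conj_eq_one_iff]
    have e3 : zz' z ∈ Subgroup.zpowers ((c⁻¹ * u * c⁻¹⁻¹) * t') ↔ zz' z ∈ Subgroup.zpowers (u * v) := by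
      have e4 : (c⁻¹ * u * c⁻¹⁻¹) * t' = c⁻¹ * (u * v) * c⁻¹⁻¹ := by
        rw [← hc]; group
      rw [e4]
      constructor
      · intro h1
        obtain ⟨k, hk⟩ := Subgroup.mem_zpowers_iff.1 h1
        rw [conj_zpow] at hk
        refine Subgroup.mem_zpowers_iff.2 ⟨k, ?_⟩
        have h5 := H.core.zc c
        calc (u * v) ^ k = c * (c⁻¹ * (u * v) ^ k * c⁻¹⁻¹) * c⁻¹ := by group
          _ = zz' z := by rw [hk, h5]; group
      · intro h1
        obtain ⟨k, hk⟩ := Subgroup.mem_zpowers_iff.1 h1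
        refine Subgroup.mem_zpowers_iff.2 ⟨k, ?_⟩
        rw [conj_zpow, hk, H.core.zc]; group
    rw [e1, e2, e3]
  have hsig : Nat.card (Σ v : {v : C // IsConj t' v}, F v) = 960 := by
    have : Fintype {v : C // IsConj t' v} := Fintype.ofFinite _
    rw [Nat.card_sigma, Finset.sum_congr rfl (fun v _ => hF v), Finset.sum_const, Finset.card_univ,
      ← Nat.card_eq_fintype_card, H18.CharInd.card_isConj_eq_index, f.index_cent H.core]
    rfl
  rw [← hsig]
  refine Nat.card_congr ⟨fun p => ⟨⟨⟨p.1.2, (hC p.1 p.2.1 p.2.2.1 p.2.2.2).2⟩, ?_⟩,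
      ⟨⟨p.1.1, (hC p.1 p.2.1 p.2.2.1 p.2.2.2).1⟩, ?_⟩⟩,
    fun q => ⟨(q.2.1, q.1.1), ?_⟩, ?_, ?_⟩
  · obtain ⟨p, h1, h2, h3⟩ := p
    have h4 := H.not_conj_Q f hn (v := ⟨p.2, (hC p h1 h2 h3).2⟩) (Subtype.ext (hsq _ h2)) h2
    obtain ⟨c, hc⟩ := f.conj H.core (t' := ⟨p.2, (hC p h1 h2 h3).2⟩) (Subtype.ext (hsq _ h2)) h4
    exact (isConj_iff.2 ⟨c, hc⟩).symm
  · obtain ⟨p, h1, h2, h3⟩ := p
    refine ⟨⟨H.mem_Q f hn h1, Subtype.ext (H.orderOf_conj h1).1⟩, ?_⟩
    obtain ⟨k, hk⟩ := Subgroup.mem_zpowers_iff.1 h3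
    exact Subgroup.mem_zpowers_iff.2 ⟨k, Subtype.ext (by push_cast; exact hk)⟩
  · obtain ⟨⟨v, hv⟩, ⟨u, ⟨hu1, hu2⟩, hu3⟩⟩ := q
    obtain ⟨k, hk⟩ := Subgroup.mem_zpowers_iff.1 hu3
    obtain ⟨c, hc⟩ := isConj_iff.1 hv
    refine ⟨H.conj_Q hu1 hu2 ?_, isConj_iff.2 ⟨c, congrArg Subtype.val hc⟩, ?_⟩
    · rintro rfl
      rw [one_mul] at hk
      apply f.tQ
      have h5 : v * v = 1 := by
        rw [← hc]
        calc c * t' * c⁻¹ * (c * t' * c⁻¹) = c * (t' * t') * c⁻¹ := by group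
          _ = 1 := by rw [f.tt]; group
      have h6 : zz' z = v := by
        rcases Int.even_or_odd' k with ⟨m, hm | hm⟩
        · exfalso
          rw [hm, zpow_mul, zpow_two, h5, one_zpow] at hk
          exact H.core.z1 hk.symm
        · rw [← hk, hm, zpow_add, zpow_mul, zpow_two, h5, one_zpow, zpow_one, one_mul]
      have h7 : t' = zz' z := by
        have : t' = c⁻¹ * v * c := by rw [← hc]; group
        rw [this, ← h6, H.core.zc]; group
      rw [h7]; exact H.core.zQ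
    · refine Subgroup.mem_zpowers_iff.2 ⟨k, ?_⟩
      have := congrArg Subtype.val hk
      push_cast at this
      exact this
  · rintro ⟨p, hp⟩
    rfl
  · rintro ⟨v, u⟩
    rfl

theorem HJ.gd : GD z (t' : G) (y' 4 : G) := by
  have hzt := Subgroup.mem_centralizer_singleton_iff.1 t'.2
  have hzy := Subgroup.mem_centralizer_singleton_iff.1 (y' 4).2
  have hy1 : y' 4 ≠ 1 := f.ne_one H.core 4
  have hyz : y' 4 ≠ zz' z := f.ne_z H.core 4
  have hmk : ∀ a : G, a * z = z * a → a ∈ Subgroup.centralizer ({z} : Set G) := fun a ha =>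
    Subgroup.mem_centralizer_singleton_iff.2 ha
  refine
    { zz := H.z_sq
      tt := congrArg Subtype.val f.tt
      yy := congrArg Subtype.val (f.sq 4)
      z1 := H.z_ne
      t1 := fun h1 => f.tQ (by rw [show t' = 1 from Subtype.ext h1]; exact Q.one_mem)
      y1 := fun h1 => hy1 (Subtype.ext h1)
      yz := fun h1 => hyz (Subtype.ext h1)
      zt := hzt.symm
      yt := congrArg Subtype.val f.t4.symm
      zy := hzy.symm
      cardZ := H.core.cardC
      ncl := hn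
      cls := ?_
      czy := H.conj_Q (f.mem 4) (f.sq 4) hy1
      czzy := ?_
      typ := ?_
      cardA := ?_
      commA := ?_
      sqA := ?_
      pair := fun u v => H.pair f hn
      n1 := H.n1 f hn }
  · intro u hu hu1
    obtain ⟨g, hg⟩ := H.conj_into hu
    have h2 : (⟨g * u * g⁻¹, hg⟩ : Subgroup.centralizer ({z} : Set G)) * ⟨g * u * g⁻¹, hg⟩ = 1 := by
      apply Subtype.ext
      change g * u * g⁻¹ * (g * u * g⁻¹) = 1
      calc g * u * g⁻¹ * (g * u * g⁻¹) = g * (u * u) * g⁻¹ := by group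
        _ = 1 := by rw [hu]; group
    have h4 : IsConj (g * u * g⁻¹) u := isConj_iff.2 ⟨g⁻¹, by group⟩
    by_cases h3 : (⟨g * u * g⁻¹, hg⟩ : Subgroup.centralizer ({z} : Set G)) ∈ Q
    · left
      refine (H.conj_Q h3 h2 fun h5 => hu1 ?_).trans h4
      have h6 : g * u * g⁻¹ = 1 := congrArg Subtype.val h5
      rwa [conj_eq_one_iff] at h6
    · right
      obtain ⟨c, hc⟩ := f.conj H.core h2 h3
      exact (isConj_iff.2 ⟨c, congrArg Subtype.val hc⟩ : IsConj (g * u * g⁻¹) (t' : G)).symm.trans h4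
  · have h1 := H.conj_Q (q := zz' z * y' 4) (Q.mul_mem H.core.zQ (f.mem 4))
      (by rw [H.core.s_mul_sq (Or.inr rfl), f.sq]) ?_
    · exact h1
    · intro h1
      apply hyz
      rw [← H.core.zzl (y' 4), h1, mul_one]
  · intro a ha1 ha2 ha3
    have h1 := H.mem_Q f hn (u := ⟨a, hmk a ha1⟩) ha3
    have h2 : t' * ⟨a, hmk a ha1⟩ = ⟨a, hmk a ha1⟩ * t' := Subtype.ext ha2.symm
    rcases f.cent_cases H.core h1 h2 with h3 | h3 | h3 | h3
    · exfalso
      exact (H.orderOf_conj ha3).2 (congrArg Subtype.val h3)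
    · exact Or.inl (congrArg Subtype.val h3)
    · exact Or.inr (Or.inl (congrArg Subtype.val h3))
    · exact Or.inr (Or.inr (congrArg Subtype.val h3))
  · rw [← f.card_cent H.core]
    have h1 : (Subgroup.centralizer ({z} : Set G) ⊓ Subgroup.centralizer ({(t' : G)} : Set G) : Subgroup G) =
        (Subgroup.centralizer ({t'} : Set (Subgroup.centralizer ({z} : Set G)))).map
          (Subgroup.centralizer ({z} : Set G)).subtype := by
      ext a
      constructor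
      · rintro ⟨ha1, ha2⟩
        refine ⟨⟨a, ha1⟩, ?_, rfl⟩
        have ha2' := Subgroup.mem_centralizer_singleton_iff.1 ha2
        exact Subgroup.mem_centralizer_singleton_iff.2 (Subtype.ext ha2')
      · rintro ⟨a', ha', rfl⟩
        refine ⟨a'.2, ?_⟩
        have h2 := Subgroup.mem_centralizer_singleton_iff.1 ha'
        exact Subgroup.mem_centralizer_singleton_iff.2 (congrArg Subtype.val h2)
    rw [h1, Subgroup.card_map_of_injective (Subgroup.subtype_injective _)]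
  · intro a b ha1 ha2 hb1 hb2
    have h1 := f.cent_comm H.core (a := ⟨a, hmk a ha1⟩) (b := ⟨b, hmk b hb1⟩) (Subtype.ext ha2) (Subtype.ext hb2)
    exact congrArg Subtype.val h1
  · intro a ha1 ha2
    have h1 := f.cent_sq H.core (b := ⟨a, hmk a ha1⟩) (Subtype.ext ha2)
    rcases h1 with h3 | h3 | h3 | h3
    · exact Or.inl (congrArg Subtype.val h3)
    · exact Or.inr (Or.inl (congrArg Subtype.val h3))
    · exact Or.inr (Or.inr (Or.inl (congrArg Subtype.val h3)))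
    · exact Or.inr (Or.inr (Or.inr (congrArg Subtype.val h3)))

end

end H64.J2
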