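import Cfsg.Agent.Lib.H64.J2H

set_option autoImplicit false

/-! Groups of Hall-Janko type: the centralizer of the non-central involution, I. -/

namespace H64.J2

variable {G : Type*} [Group G]

/-- the four group generated by two commuting involutions -/
def kl (z y : G) (hz : z * z = 1) (hy : y * y = 1) (h : z * y = y * z) : Subgroup G where
  carrier := {g | g = 1 ∨ g = z ∨ g = y ∨ g = z * y}
  one_mem' := Or.inl rfl
  mul_mem' := by
    have e1 : ∀ w, z * (z * w) = w := fun w => by rw [← mul_assoc, hz, one_mul]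
    have e3 : ∀ w, y * (z * w) = z * (y * w) := fun w => by rw [← mul_assoc, ← h, mul_assoc]
    have e4 : y * z = z * y := h.symm
    rintro a b (rfl | rfl | rfl | rfl) (rfl | rfl | rfl | rfl) <;>
      simp only [mul_one, one_mul, mul_assoc, e1, e3, hz, hy, e4, Set.mem_ofPred_eq, true_or, or_true]
  inv_mem' := by
    have hz' : z⁻¹ = z := inv_eq_of_mul_eq_one_right hz
    have hy' : y⁻¹ = y := inv_eq_of_mul_eq_one_right hy
    rintro a (rfl | rfl | rfl | rfl)
    · exact Or.inl inv_one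
    · exact Or.inr (Or.inl hz')
    · exact Or.inr (Or.inr (Or.inl hy'))
    · refine Or.inr (Or.inr (Or.inr ?_))
      rw [mul_inv_rev, hz', hy', h]

theorem card_kl (z y : G) (hz : z * z = 1) (hy : y * y = 1) (h : z * y = y * z) (hz1 : z ≠ 1) (hy1 : y ≠ 1)
    (hyz : y ≠ z) : Nat.card (kl z y hz hy h) = 4 := by
  rw [card_eq_ncard]
  have e : ((kl z y hz hy h : Subgroup G) : Set G) = {1, z, y, z * y} := by
    ext g
    rfl
  rw [e, Set.ncard_insert_of_notMem, Set.ncard_insert_of_notMem, Set.ncard_pair]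
  · intro h1
    exact hz1 (mul_eq_right.1 h1.symm)
  · simp only [Set.mem_insert_iff, Set.mem_singleton_iff, not_or]
    exact ⟨hyz.symm, fun h1 => hy1 (mul_eq_left.1 h1.symm)⟩
  · simp only [Set.mem_insert_iff, Set.mem_singleton_iff, not_or]
    refine ⟨hz1.symm, hy1.symm, fun h1 => hyz ?_⟩
    have h2 : z * (z * y) = y := by rw [← mul_assoc, hz, one_mul]
    rw [← h1, mul_one] at h2
    exact h2.symm

/-- extension by a commuting involution -/
def ex (Y : Subgroup G) (t : G) (ht : t * t = 1) (hc : ∀ w ∈ Y, t * w = w * t) : Subgroup G where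
  carrier := {g | g ∈ Y ∨ t * g ∈ Y}
  one_mem' := Or.inl Y.one_mem
  mul_mem' := by
    rintro a b (ha | ha) (hb | hb)
    · exact Or.inl (Y.mul_mem ha hb)
    · right
      rw [← mul_assoc, hc a ha, mul_assoc]
      exact Y.mul_mem ha hb
    · right
      rw [← mul_assoc]
      exact Y.mul_mem ha hb
    · left
      have h1 := Y.mul_mem ha hb
      have h2 := hc _ ha
      have h3 : t * a * (t * b) = a * b := by
        rw [← mul_assoc, ← h2, ← mul_assoc, ht, one_mul]
      rwa [h3] at h1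
  inv_mem' := by
    rintro a (ha | ha)
    · exact Or.inl (Y.inv_mem ha)
    · right
      have h1 := Y.inv_mem ha
      have h2 := hc _ ha
      have h3 : t * a⁻¹ = (t * a)⁻¹ := by
        have ht' : t⁻¹ = t := inv_eq_of_mul_eq_one_right ht
        rw [mul_inv_rev, ht']
        have h4 : t * a * t = a := by rw [← h2, ← mul_assoc, ht, one_mul]
        have h5 : a * t = t * a := by
          calc a * t = (t * a * t) * t := by rw [h4]
            _ = t * a * (t * t) := by group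
            _ = t * a := by rw [ht, mul_one]
        calc t * a⁻¹ = a⁻¹ * (a * t) * a⁻¹ := by group
          _ = a⁻¹ * t := by rw [h5]; group
      change t * a⁻¹ ∈ Y
      rw [h3]
      exact h1

theorem card_ex [Finite G] (Y : Subgroup G) (t : G) (ht : t * t = 1) (hc : ∀ w ∈ Y, t * w = w * t) (htY : t ∉ Y) :
    Nat.card (ex Y t ht hc) = 2 * Nat.card Y := by
  rw [card_eq_ncard, card_eq_ncard]
  have e : ((ex Y t ht hc : Subgroup G) : Set G) = (Y : Set G) ∪ (fun g => t * g) '' (Y : Set G) := by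
    ext g
    constructor
    · rintro (h | h)
      · exact Or.inl h
      · exact Or.inr ⟨t * g, h, by change t * (t * g) = g; rw [← mul_assoc, ht, one_mul]⟩
    · rintro (h | ⟨w, hw, rfl⟩)
      · exact Or.inl h
      · right
        change t * (t * w) ∈ Y
        rw [← mul_assoc, ht, one_mul]
        exact hw
  rw [e, Set.ncard_union_eq, Set.ncard_image_of_injective _ (mul_right_injective t), two_mul]
  rw [Set.disjoint_left]
  rintro _ h ⟨w, hw, rfl⟩
  apply htY
  have h1 := Y.mul_mem h (Y.inv_mem hw)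
  have h2 : (fun g => t * g) w * w⁻¹ = t := by
    change t * w * w⁻¹ = t
    group
  rwa [h2] at h1

/-- conjugation preserves cardinality of centralizer intersections -/
theorem card_inf_conj (a b g : G) : Nat.card (Subgroup.centralizer ({g * a * g⁻¹} : Set G) ⊓
    Subgroup.centralizer ({g * b * g⁻¹} : Set G) : Subgroup G) =
    Nat.card (Subgroup.centralizer ({a} : Set G) ⊓ Subgroup.centralizer ({b} : Set G) : Subgroup G) := by
  symm
  refine Nat.card_congr ((MulAut.conj g).toEquiv.subtypeEquiv ?_)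
  intro u
  change u ∈ (Subgroup.centralizer ({a} : Set G) ⊓ Subgroup.centralizer ({b} : Set G) : Subgroup G) ↔
    g * u * g⁻¹ ∈ (Subgroup.centralizer ({g * a * g⁻¹} : Set G) ⊓
    Subgroup.centralizer ({g * b * g⁻¹} : Set G) : Subgroup G)
  have key : ∀ a : G, g * u * g⁻¹ * (g * a * g⁻¹) = g * a * g⁻¹ * (g * u * g⁻¹) ↔ u * a = a * u := by
    intro a
    constructor
    · intro h
      have h1 : g * (u * a) * g⁻¹ = g * (a * u) * g⁻¹ := by
        calc g * (u * a) * g⁻¹ = g * u * g⁻¹ * (g * a * g⁻¹) := by group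
          _ = g * (a * u) * g⁻¹ := by rw [h]; group
      exact mul_left_cancel (mul_right_cancel h1)
    · intro h
      calc g * u * g⁻¹ * (g * a * g⁻¹) = g * (u * a) * g⁻¹ := by group
        _ = g * a * g⁻¹ * (g * u * g⁻¹) := by rw [h]; group
  rw [Subgroup.mem_inf, Subgroup.mem_inf, Subgroup.mem_centralizer_singleton_iff, Subgroup.mem_centralizer_singleton_iff,
    Subgroup.mem_centralizer_singleton_iff, Subgroup.mem_centralizer_singleton_iff, key, key]

variable {z t y : G} (D : GD z t y)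
include D

/-- the four group `{1, z, y, zy}` -/
def GD.Y : Subgroup G := kl z y D.zz D.yy D.zy

theorem GD.cardY : Nat.card D.Y = 4 := card_kl z y D.zz D.yy D.zy D.z1 D.y1 D.yz

theorem GD.memY {w : G} : w ∈ D.Y ↔ w = 1 ∨ w = z ∨ w = y ∨ w = z * y := Iff.rfl

theorem GD.zy1 : z * y ≠ 1 := by
  intro h
  apply D.yz
  have h2 : z * (z * y) = y := by rw [← mul_assoc, D.zz, one_mul]
  rw [← h2, h, mul_one]

theorem GD.conjY {w : G} (hw : w ∈ D.Y) (h1 : w ≠ 1) : IsConj z w := by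
  rcases hw with rfl | rfl | rfl | rfl
  · exact absurd rfl h1
  · exact IsConj.refl _
  · exact D.czy
  · exact D.czzy

theorem GD.commY {w : G} (hw : w ∈ D.Y) : w * z = z * w ∧ w * t = t * w := by
  rcases hw with rfl | rfl | rfl | rfl
  · exact ⟨by rw [one_mul, mul_one], by rw [one_mul, mul_one]⟩
  · exact ⟨rfl, D.zt⟩
  · exact ⟨D.zy.symm, D.yt⟩
  · exact ⟨by rw [mul_assoc, ← D.zy], by rw [mul_assoc, D.yt, ← mul_assoc, D.zt, mul_assoc]⟩

theorem GD.tY : t ∉ D.Y := fun h => D.ncl (D.conjY h D.t1)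

theorem GD.typY {a : G} (h1 : a * z = z * a) (h2 : a * t = t * a) (h3 : IsConj z a) : a ∈ D.Y := Or.inr (D.typ a h1 h2 h3)

theorem GD.sqY {w : G} (hw : w ∈ D.Y) : w * w = 1 := by
  rcases hw with rfl | rfl | rfl | rfl
  · exact one_mul 1
  · exact D.zz
  · exact D.yy
  · calc z * y * (z * y) = z * (y * z) * y := by group
      _ = z * z * (y * y) := by rw [← D.zy]; group
      _ = 1 := by rw [D.zz, D.yy, one_mul]

theorem GD.conj_t {w : G} (hw : w ∈ D.Y) (h1 : w ≠ 1) : ∃ g, g * t = t * g ∧ g * w * g⁻¹ = z := by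
  obtain ⟨g, hg1, hg2⟩ := D.pair w t (D.conjY hw h1) (IsConj.refl t) (D.commY hw).2
  exact ⟨g, mul_inv_eq_iff_eq_mul.1 hg2, hg1⟩

/-- the centralizer of `t` and of a nontrivial element of `Y` -/
theorem GD.mem_of [Finite G] {w b : G} (hw : w ∈ D.Y) (h1 : w ≠ 1) (hbw : b * w = w * b) (hbt : b * t = t * b) :
    b * z = z * b := by
  obtain ⟨g, hg1, hg2⟩ := D.pair w t (D.conjY hw h1) (IsConj.refl t) (D.commY hw).2
  have h2 := card_inf_conj w t g
  rw [hg1, hg2, D.cardA] at h2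
  have h3 : Subgroup.centralizer ({z} : Set G) ⊓ Subgroup.centralizer ({t} : Set G) ≤
      Subgroup.centralizer ({w} : Set G) ⊓ Subgroup.centralizer ({t} : Set G) := by
    rintro a ⟨ha1, ha2⟩
    refine ⟨?_, ha2⟩
    refine Subgroup.mem_centralizer_singleton_iff.2 ?_
    exact D.commA a w (Subgroup.mem_centralizer_singleton_iff.1 ha1) (Subgroup.mem_centralizer_singleton_iff.1 ha2)
      (D.commY hw).1 (D.commY hw).2
  have h4 := Subgroup.eq_of_le_of_card_ge h3 (by rw [← h2, D.cardA])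
  have h5 : b ∈ Subgroup.centralizer ({z} : Set G) ⊓ Subgroup.centralizer ({t} : Set G) := by
    rw [h4]
    exact ⟨Subgroup.mem_centralizer_singleton_iff.2 hbw, Subgroup.mem_centralizer_singleton_iff.2 hbt⟩
  exact Subgroup.mem_centralizer_singleton_iff.1 h5.1

/-- the subgroup `A` -/
def GD.A (_D : GD z t y) : Subgroup G := Subgroup.centralizer ({z} : Set G) ⊓ Subgroup.centralizer ({t} : Set G)

omit D in
theorem GD.memA (D : GD z t y) {a : G} : a ∈ D.A ↔ a * z = z * a ∧ a * t = t * a := by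
  rw [GD.A, Subgroup.mem_inf, Subgroup.mem_centralizer_singleton_iff, Subgroup.mem_centralizer_singleton_iff]

theorem GD.cA : Nat.card D.A = 16 := D.cardA

theorem GD.abA {a b : G} (ha : a ∈ D.A) (hb : b ∈ D.A) : a * b = b * a :=
  D.commA a b (D.memA.1 ha).1 (D.memA.1 ha).2 (D.memA.1 hb).1 (D.memA.1 hb).2

theorem GD.YA : D.Y ≤ D.A := fun _ hw => D.memA.2 (D.commY hw)

theorem GD.tA : t ∈ D.A := D.memA.2 ⟨D.zt.symm, rfl⟩

/-- elements of `C(t)` moving an element of `Y#` into `Y` normalize `A` -/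
theorem GD.norm_A [Finite G] {w g : G} (hw : w ∈ D.Y) (h1 : w ≠ 1) (hgw : g * w * g⁻¹ ∈ D.Y) (hgt : g * t = t * g)
    {a : G} (ha : a ∈ D.A) : g * a * g⁻¹ ∈ D.A := by
  have h2 := D.memA.1 ha
  have h3 : g * a * g⁻¹ * t = t * (g * a * g⁻¹) := by
    have h4 : g⁻¹ * t = t * g⁻¹ := by
      calc g⁻¹ * t = g⁻¹ * (t * g) * g⁻¹ := by group
        _ = t * g⁻¹ := by rw [← hgt]; group
    rw [mul_assoc, h4, ← mul_assoc, mul_assoc g a t, h2.2, ← mul_assoc, hgt]
    group
  refine D.memA.2 ⟨?_, h3⟩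
  refine D.mem_of hgw (fun h4 => h1 (conj_eq_one_iff.1 h4)) ?_ h3
  have h5 := D.abA ha (D.YA hw)
  calc g * a * g⁻¹ * (g * w * g⁻¹) = g * (a * w) * g⁻¹ := by group
    _ = g * w * g⁻¹ * (g * a * g⁻¹) := by rw [h5]; group

/-- `Y` is invariant as well -/
theorem GD.norm_Y [Finite G] {w g : G} (hw : w ∈ D.Y) (h1 : w ≠ 1) (hgw : g * w * g⁻¹ ∈ D.Y) (hgt : g * t = t * g)
    {a : G} (ha : a ∈ D.Y) : g * a * g⁻¹ ∈ D.Y := by
  by_cases h2 : a = 1
  · rw [h2, mul_one, mul_inv_cancel]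
    exact D.Y.one_mem
  have h3 := D.memA.1 (D.norm_A hw h1 hgw hgt (D.YA ha))
  exact D.typY h3.1 h3.2 ((D.conjY ha h2).trans (isConj_iff.2 ⟨g, rfl⟩))

/-- `A` is elementary abelian -/
theorem GD.el [Finite G] {a : G} (ha : a ∈ D.A) : a * a = 1 := by
  by_contra hne
  have ha' := D.memA.1 ha
  have hY : a * a ∈ D.Y := D.sqA a ha'.1 ha'.2
  -- the squaring map
  let φ : D.A →* D.A :=
    { toFun := fun b => b * b
      map_one' := one_mul 1
      map_mul' := by
        intro b c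
        apply Subtype.ext
        have h1 := D.abA b.2 c.2
        change (b : G) * c * (b * c) = b * b * (c * c)
        calc (b : G) * c * (b * c) = b * ((c : G) * b) * c := by group
          _ = b * b * (c * c) := by rw [← h1]; group }
  have hr : D.Y.subgroupOf D.A ≤ φ.range := by
    intro w hw
    rw [Subgroup.mem_subgroupOf] at hw
    by_cases hw1 : (w : G) = 1
    · exact ⟨1, by rw [map_one]; exact Subtype.ext hw1.symm⟩
    obtain ⟨g, hgt, hg⟩ := D.conj_t hY hne
    obtain ⟨g', hgt', hg'⟩ := D.conj_t hw hw1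
    have h1 : (g'⁻¹ * g) * (a * a) * (g'⁻¹ * g)⁻¹ = w := by
      calc (g'⁻¹ * g) * (a * a) * (g'⁻¹ * g)⁻¹ = g'⁻¹ * (g * (a * a) * g⁻¹) * g' := by group
        _ = g'⁻¹ * (g' * w * g'⁻¹) * g' := by rw [hg, hg']
        _ = w := by group
    have h2 : (g'⁻¹ * g) * t = t * (g'⁻¹ * g) := by
      calc (g'⁻¹ * g) * t = g'⁻¹ * (g * t) := by group
        _ = g'⁻¹ * (t * g') * g'⁻¹ * g := by rw [hgt]; group
        _ = t * (g'⁻¹ * g) := by rw [← hgt']; group
    have h3 := D.norm_A hY hne (by rw [h1]; exact hw) h2 ha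
    refine ⟨⟨_, h3⟩, Subtype.ext ?_⟩
    change (g'⁻¹ * g) * a * (g'⁻¹ * g)⁻¹ * ((g'⁻¹ * g) * a * (g'⁻¹ * g)⁻¹) = w
    rw [← h1]; group
  have hk : D.Y.subgroupOf D.A < φ.ker := by
    rw [SetLike.lt_iff_le_and_exists]
    constructor
    · intro w hw
      exact Subtype.ext (D.sqY hw)
    · exact ⟨⟨t, D.tA⟩, Subtype.ext D.tt, fun h => D.tY h⟩
  have c4 : Nat.card (D.Y.subgroupOf D.A) = 4 := by
    rw [Nat.card_congr (Subgroup.subgroupOfEquivOfLe D.YA).toEquiv, D.cardY]
  have h1 := Subgroup.card_le_of_le hr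
  have h2 : 4 < Nat.card φ.ker := by
    rw [← c4]
    exact lt_of_le_of_ne (Subgroup.card_le_of_le hk.le) (fun h => hk.ne (Subgroup.eq_of_le_of_card_ge hk.le h.ge))
  have h3 := φ.ker.card_mul_index
  rw [Subgroup.index_ker, D.cA] at h3
  rw [c4] at h1
  nlinarith

/-- the possible actions on `Y` -/
theorem GD.rot_cases [Finite G] {n : G} (hnt : n * t = t * n) (hz : n * z * n⁻¹ ∈ D.Y) :
    n * z = z * n ∨ (n * z * n⁻¹ = y ∧ n * y * n⁻¹ = z * y) ∨ (n * z * n⁻¹ = z * y ∧ n * y * n⁻¹ = z) := by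
  have hzY : z ∈ D.Y := Or.inr (Or.inl rfl)
  have hyY : y ∈ D.Y := Or.inr (Or.inr (Or.inl rfl))
  have hzyY : z * y ∈ D.Y := Or.inr (Or.inr (Or.inr rfl))
  have hy := D.norm_Y hzY D.z1 hz hnt hyY
  have fixy : n * y * n⁻¹ = y → n * z = z * n := fun h => D.mem_of hyY D.y1 (mul_inv_eq_iff_eq_mul.1 h) hnt
  have fixzy : n * (z * y) * n⁻¹ = z * y → n * z = z * n := fun h =>
    D.mem_of hzyY D.zy1 (mul_inv_eq_iff_eq_mul.1 h) hnt
  have hprod : n * (z * y) * n⁻¹ = (n * z * n⁻¹) * (n * y * n⁻¹) := by group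
  rcases hz with h1 | h1 | h1 | h1
  · exact absurd (conj_eq_one_iff.1 h1) D.z1
  · exact Or.inl (mul_inv_eq_iff_eq_mul.1 h1)
  · rcases hy with h2 | h2 | h2 | h2
    · exact absurd (conj_eq_one_iff.1 h2) D.y1
    · left
      apply fixzy
      rw [hprod, h1, h2, D.zy]
    · exact Or.inl (fixy h2)
    · exact Or.inr (Or.inl ⟨h1, h2⟩)
  · rcases hy with h2 | h2 | h2 | h2
    · exact absurd (conj_eq_one_iff.1 h2) D.y1
    · exact Or.inr (Or.inr ⟨h1, h2⟩)
    · exact Or.inl (fixy h2)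
    · exfalso
      apply D.yz
      have h3 : n * y * n⁻¹ = n * z * n⁻¹ := by rw [h1, h2]
      exact mul_left_cancel (mul_right_cancel h3)

theorem GD.cube [Finite G] {n : G} (hnt : n * t = t * n) (hz : n * z * n⁻¹ ∈ D.Y) : n * n * n ∈ D.A := by
  have cube_comm : ∀ s : G, n * s = s * n → n * n * n * s = s * (n * n * n) := fun s hs => by
    have hc : Commute n s := hs
    exact ((hc.mul_left hc).mul_left hc).eq
  have ht := cube_comm t hnt
  refine D.memA.2 ⟨?_, ht⟩
  have zyy : z * y * y = z := by rw [mul_assoc, D.yy, mul_one]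
  rcases D.rot_cases hnt hz with h1 | ⟨h1, h2⟩ | ⟨h1, h2⟩
  · exact cube_comm z h1
  · have h3 : n * n * n * z * (n * n * n)⁻¹ = z := by
      calc n * n * n * z * (n * n * n)⁻¹ = n * (n * (n * z * n⁻¹) * n⁻¹) * n⁻¹ := by group
        _ = n * (z * y) * n⁻¹ := by rw [h1, h2]
        _ = n * z * n⁻¹ * (n * y * n⁻¹) := by group
        _ = z := by rw [h1, h2, D.zy, ← mul_assoc, D.yy, one_mul]
    exact mul_inv_eq_iff_eq_mul.1 h3
  · have e : z * y * z = y := by rw [mul_assoc, ← D.zy, ← mul_assoc, D.zz, one_mul]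
    have h3 : n * n * n * z * (n * n * n)⁻¹ = z := by
      calc n * n * n * z * (n * n * n)⁻¹ = n * (n * (n * z * n⁻¹) * n⁻¹) * n⁻¹ := by group
        _ = n * (n * (z * y) * n⁻¹) * n⁻¹ := by rw [h1]
        _ = n * (n * z * n⁻¹ * (n * y * n⁻¹)) * n⁻¹ := by group
        _ = n * (z * y * z) * n⁻¹ := by rw [h1, h2]
        _ = n * y * n⁻¹ := by rw [e]
        _ = z := h2
    exact mul_inv_eq_iff_eq_mul.1 h3

/-- an element of order three -/
theorem GD.exists_rot [Finite G] : ∃ h : G, h * t = t * h ∧ h * h * h = 1 ∧ h * z * h⁻¹ = y ∧ h * y * h⁻¹ = z * y := by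
  have hzY : z ∈ D.Y := Or.inr (Or.inl rfl)
  have hyY : y ∈ D.Y := Or.inr (Or.inr (Or.inl rfl))
  obtain ⟨g, hgt, hg⟩ := D.conj_t hyY D.y1
  have hgt' : g⁻¹ * t = t * g⁻¹ := by
    calc g⁻¹ * t = g⁻¹ * (t * g) * g⁻¹ := by group
      _ = t * g⁻¹ := by rw [← hgt]; group
  have h1 : g⁻¹ * z * g⁻¹⁻¹ = y := by rw [← hg]; group
  obtain ⟨n, hnt, hn1, hn2⟩ : ∃ n : G, n * t = t * n ∧ n * z * n⁻¹ = y ∧ n * y * n⁻¹ = z * y := by
    rcases D.rot_cases hgt' (by rw [h1]; exact hyY) with h2 | h2 | h2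
    · exfalso
      apply D.yz
      rw [← h1, h2]; group
    · exact ⟨g⁻¹, hgt', h1, h2.2⟩
    · exfalso
      apply D.z1
      have h3 := h2.1
      rw [h1] at h3
      exact mul_eq_right.1 h3.symm
  have h3 := D.cube hnt (by rw [hn1]; exact hyY)
  have h4 := D.el h3
  have h5 := D.memA.1 h3
  refine ⟨n * n * n * n, ?_, ?_, ?_, ?_⟩
  · calc n * n * n * n * t = n * n * n * (n * t) := by group
      _ = (n * n * n * t) * n := by rw [hnt]; group
      _ = t * (n * n * n * n) := by rw [h5.2]; group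
  · calc n * n * n * n * (n * n * n * n) * (n * n * n * n) =
        (n * n * n * (n * n * n)) * (n * n * n * (n * n * n)) := by group
      _ = 1 := by rw [h4, one_mul]
  · calc n * n * n * n * z * (n * n * n * n)⁻¹ = n * ((n * n * n * z) * (n * n * n)⁻¹) * n⁻¹ := by group
      _ = n * z * n⁻¹ := by rw [h5.1]; group
      _ = y := hn1
  · have h6 := D.abA h3 (D.YA hyY)
    calc n * n * n * n * y * (n * n * n * n)⁻¹ = n * ((n * n * n * y) * (n * n * n)⁻¹) * n⁻¹ := by group
      _ = n * y * n⁻¹ := by rw [h6]; group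
      _ = z * y := hn2

end H64.J2
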