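import Cfsg.Agent.Lib.H64.J2I
import Cfsg.Agent.Lib.H59.Klein1

set_option autoImplicit false

/-! Groups of Hall-Janko type: the centralizer of the non-central involution, II. -/

namespace H64.J2

variable {G : Type*} [Group G]

theorem mem_of_cube {A : Subgroup G} {g : G} {k : ℕ} (h3 : g * g * g ∈ A) (h2 : g ^ (2 ^ k) = 1) : g ∈ A := by
  have h4 : orderOf g ∣ 2 ^ k := orderOf_dvd_of_pow_eq_one h2
  have h5 : Nat.Coprime 3 (orderOf g) := by
    obtain ⟨j, -, hj⟩ := (Nat.dvd_prime_pow Nat.prime_two).1 h4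
    rw [hj]
    exact Nat.Coprime.pow_right j (by norm_num)
  obtain ⟨m, hm⟩ := exists_pow_eq_self_of_coprime h5
  rw [← hm, pow_three']
  exact A.pow_mem h3 m

variable [Finite G] {z t y : G} (D : GD z t y)
include D

omit [Finite G] in
theorem GD.Xt : D.A ≤ Subgroup.centralizer ({t} : Set G) := inf_le_right

omit [Finite G] in
theorem GD.zY : z ∈ D.Y := Or.inr (Or.inl rfl)
omit [Finite G] in
theorem GD.yY : y ∈ D.Y := Or.inr (Or.inr (Or.inl rfl))

theorem GD.exists_sylow : ∃ P : Sylow 2 (Subgroup.centralizer ({t} : Set G)),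
    (P : Subgroup _) = D.A.subgroupOf (Subgroup.centralizer ({t} : Set G)) := by
  have hp : Fact (Nat.Prime 2) := ⟨Nat.prime_two⟩
  have c16 : Nat.card (D.A.subgroupOf (Subgroup.centralizer ({t} : Set G))) = 16 := by
    rw [Nat.card_congr (Subgroup.subgroupOfEquivOfLe D.Xt).toEquiv, D.cA]
  have hA : IsPGroup 2 (D.A.subgroupOf (Subgroup.centralizer ({t} : Set G))) :=
    IsPGroup.of_card (n := 4) (by rw [c16]; norm_num)
  obtain ⟨P, hP⟩ := hA.exists_le_sylow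
  refine ⟨P, ?_⟩
  by_contra hne
  have hlt : (D.A.subgroupOf (Subgroup.centralizer ({t} : Set G))).subgroupOf (P : Subgroup _) < ⊤ := by
    rw [lt_top_iff_ne_top]
    intro h1
    rw [Subgroup.subgroupOf_eq_top] at h1
    exact hne (le_antisymm h1 hP)
  have hnil : Group.IsNilpotent (P : Subgroup (Subgroup.centralizer ({t} : Set G))) := P.isPGroup'.isNilpotent
  have hnc := Group.normalizerCondition_of_isNilpotent (G := (P : Subgroup (Subgroup.centralizer ({t} : Set G)))) _ hlt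
  obtain ⟨g, hg1, hg2⟩ := SetLike.exists_of_lt hnc
  apply hg2
  rw [Subgroup.mem_normalizer_iff] at hg1
  have hgt := Subgroup.mem_centralizer_singleton_iff.1 (g : Subgroup.centralizer ({t} : Set G)).2
  have key : ∀ a ∈ D.A, ((g : Subgroup.centralizer ({t} : Set G)) : G) * a *
      ((g : Subgroup.centralizer ({t} : Set G)) : G)⁻¹ ∈ D.A := by
    intro a ha
    exact (hg1 ⟨⟨a, D.Xt ha⟩, hP ha⟩).1 ha
  have hz := D.memA.1 (key z (D.YA D.zY))
  have hzY := D.typY hz.1 hz.2 (isConj_iff.2 ⟨_, rfl⟩)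
  have h3 := D.cube hgt hzY
  rw [Subgroup.mem_subgroupOf, Subgroup.mem_subgroupOf]
  obtain ⟨k, hk⟩ := P.isPGroup' g
  have hk' : ((g : Subgroup.centralizer ({t} : Set G)) : G) ^ (2 ^ k) = 1 := by
    have := congrArg (fun x => ((x : Subgroup.centralizer ({t} : Set G)) : G)) (congrArg Subtype.val hk)
    exact this
  exact mem_of_cube h3 hk'

/-- an element rotating `Y` acts trivially modulo `Y` -/
theorem GD.rot_mod {n : G} (hnt : n * t = t * n) (hz : n * z * n⁻¹ ∈ D.Y) {a : G} (ha : a ∈ D.A) :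
    a⁻¹ * (n * a * n⁻¹) ∈ D.Y := by
  have htc : ∀ w ∈ D.Y, t * w = w * t := fun w hw => (D.commY hw).2.symm
  have htc' : ∀ w ∈ D.A, t * w = w * t := fun w hw => (D.memA.1 hw).2.symm
  have nY : ∀ w ∈ D.Y, n * w * n⁻¹ ∈ D.Y := fun w hw => D.norm_Y D.zY D.z1 hz hnt hw
  have nA : ∀ w ∈ D.A, n * w * n⁻¹ ∈ D.A := fun w hw => D.norm_A D.zY D.z1 hz hnt hw
  have nt : n * t * n⁻¹ = t := by rw [hnt]; group
  let W := ex D.Y t D.tt htc
  have cW : Nat.card W = 8 := by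
    rw [card_ex D.Y t D.tt htc D.tY, D.cardY]
  have hWA : W ≤ D.A := by
    rintro g (h | h)
    · exact D.YA h
    · have h1 := D.A.mul_mem D.tA (D.YA h)
      rwa [← mul_assoc, D.tt, one_mul] at h1
  have hidx : (W.subgroupOf D.A).index = 2 := by
    have h1 := (W.subgroupOf D.A).card_mul_index
    rw [Nat.card_congr (Subgroup.subgroupOfEquivOfLe hWA).toEquiv, cW, D.cA] at h1
    omega
  have nW : ∀ w ∈ W, n * w * n⁻¹ ∈ W := by
    rintro w (h | h)
    · exact Or.inl (nY w h)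
    · right
      have h1 := nY _ h
      have h2 : n * (t * w) * n⁻¹ = t * (n * w * n⁻¹) := by
        calc n * (t * w) * n⁻¹ = (n * t * n⁻¹) * (n * w * n⁻¹) := by group
          _ = t * (n * w * n⁻¹) := by rw [nt]
      rwa [h2] at h1
  have hn3 := D.cube hnt hz
  have hn3a : ∀ a ∈ D.A, n * (n * (n * a * n⁻¹) * n⁻¹) * n⁻¹ = a := by
    intro a ha
    have h1 := D.abA hn3 ha
    calc n * (n * (n * a * n⁻¹) * n⁻¹) * n⁻¹ = n * n * n * a * (n * n * n)⁻¹ := by group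
      _ = a := by rw [h1]; group
  have hiff : n * a * n⁻¹ ∈ W ↔ a ∈ W := by
    constructor
    · intro h
      have h1 := nW _ (nW _ h)
      rwa [hn3a a ha] at h1
    · exact nW a
  have hD : a⁻¹ * (n * a * n⁻¹) ∈ W := by
    have h1 := (Subgroup.mul_mem_iff_of_index_two hidx (a := (⟨a, ha⟩ : D.A)⁻¹) (b := ⟨n * a * n⁻¹, nA a ha⟩)).2 (by
      rw [Subgroup.inv_mem_iff]
      exact hiff.symm)
    exact h1
  rcases hD with h | h
  · exact h
  · exfalso
    set w := t * (a⁻¹ * (n * a * n⁻¹)) with hw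
    have e1 : n * a * n⁻¹ = a * t * w := by
      rw [hw]
      calc n * a * n⁻¹ = a * 1 * (a⁻¹ * (n * a * n⁻¹)) := by group
        _ = a * t * (t * (a⁻¹ * (n * a * n⁻¹))) := by rw [← D.tt]; group
    have e2 : n * (n * a * n⁻¹) * n⁻¹ = a * w * (n * w * n⁻¹) := by
      calc n * (n * a * n⁻¹) * n⁻¹ = n * (a * t * w) * n⁻¹ := by rw [e1]
        _ = (n * a * n⁻¹) * (n * t * n⁻¹) * (n * w * n⁻¹) := by group
        _ = a * t * w * t * (n * w * n⁻¹) := by rw [e1, nt]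
        _ = a * t * (t * w) * (n * w * n⁻¹) := by rw [htc w h]; group
        _ = a * (t * t) * w * (n * w * n⁻¹) := by group
        _ = a * w * (n * w * n⁻¹) := by rw [D.tt, mul_one]
    have e3 : a = a * t * w * (n * w * n⁻¹) * (n * (n * w * n⁻¹) * n⁻¹) := by
      calc a = n * (n * (n * a * n⁻¹) * n⁻¹) * n⁻¹ := (hn3a a ha).symm
        _ = n * (a * w * (n * w * n⁻¹)) * n⁻¹ := by rw [e2]
        _ = (n * a * n⁻¹) * (n * w * n⁻¹) * (n * (n * w * n⁻¹) * n⁻¹) := by group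
        _ = _ := by rw [e1]
    have e4 : t * (w * (n * w * n⁻¹) * (n * (n * w * n⁻¹) * n⁻¹)) = 1 := by
      have h5 : a * (t * (w * (n * w * n⁻¹) * (n * (n * w * n⁻¹) * n⁻¹))) = a * 1 := by
        rw [mul_one]
        calc a * (t * (w * (n * w * n⁻¹) * (n * (n * w * n⁻¹) * n⁻¹))) =
            a * t * w * (n * w * n⁻¹) * (n * (n * w * n⁻¹) * n⁻¹) := by group
          _ = a := e3.symm
      exact mul_left_cancel h5
    apply D.tY
    have h6 := D.Y.inv_mem (D.Y.mul_mem (D.Y.mul_mem h (nY w h)) (nY _ (nY w h)))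
    have h7 := eq_inv_of_mul_eq_one_left e4
    exact Set.mem_of_eq_of_mem (s := (D.Y : Set G)) h7 h6

/-- fusion in `A` is trivial modulo `Y` -/
theorem GD.fusion {a g : G} (ha : a ∈ D.A) (hgt : g * t = t * g) (hga : g * a * g⁻¹ ∈ D.A) :
    a⁻¹ * (g * a * g⁻¹) ∈ D.Y := by
  have hp : Fact (Nat.Prime 2) := ⟨Nat.prime_two⟩
  obtain ⟨P, hP⟩ := D.exists_sylow
  have hmem : ∀ x : Subgroup.centralizer ({t} : Set G), x ∈ P ↔ (x : G) ∈ D.A := by
    intro x
    change x ∈ (P : Subgroup _) ↔ _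
    rw [hP]
    exact Iff.rfl
  have hcomm : IsMulCommutative P := ⟨⟨by
    rintro ⟨a, ha⟩ ⟨b, hb⟩
    apply Subtype.ext
    apply Subtype.ext
    exact D.abA ((hmem a).1 ha) ((hmem b).1 hb)⟩⟩
  let g' : Subgroup.centralizer ({t} : Set G) := ⟨g, Subgroup.mem_centralizer_singleton_iff.2 hgt⟩
  let a' : Subgroup.centralizer ({t} : Set G) := ⟨a, D.Xt ha⟩
  obtain ⟨n, hn, hn2⟩ := P.conj_eq_normalizer_conj_of_mem a' g'⁻¹ ((hmem _).2 ha) ((hmem _).2 (by
    change g⁻¹⁻¹ * a * g⁻¹ ∈ D.A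
    rw [inv_inv]
    exact hga))
  have hn2' : g * a * g⁻¹ = (n : G)⁻¹ * a * n := by
    have h1 : g⁻¹⁻¹ * a * g⁻¹ = (n : G)⁻¹ * a * n := congrArg Subtype.val hn2
    rwa [inv_inv] at h1
  have hn3 := inv_mem hn
  change n⁻¹ ∈ Subgroup.normalizer (((P : Subgroup (Subgroup.centralizer ({t} : Set G))) :
    Set (Subgroup.centralizer ({t} : Set G)))) at hn3
  rw [Subgroup.mem_normalizer_iff] at hn3
  have h5 : ((n⁻¹ : Subgroup.centralizer ({t} : Set G)) : G) * z * ((n⁻¹ : Subgroup.centralizer ({t} : Set G)) : G)⁻¹ ∈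
      D.A := (hmem _).1 ((hn3 ⟨z, D.Xt (D.YA D.zY)⟩).1 ((hmem _).2 (D.YA D.zY)))
  have h6 := D.memA.1 h5
  have h7 := D.rot_mod (n := ((n⁻¹ : Subgroup.centralizer ({t} : Set G)) : G))
    (Subgroup.mem_centralizer_singleton_iff.1 (n⁻¹).2) (D.typY h6.1 h6.2 (isConj_iff.2 ⟨_, rfl⟩)) ha
  rw [hn2']
  have e : ((n⁻¹ : Subgroup.centralizer ({t} : Set G)) : G) * a *
      ((n⁻¹ : Subgroup.centralizer ({t} : Set G)) : G)⁻¹ = (n : G)⁻¹ * a * n := by
    push_cast
    rw [inv_inv]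
  rwa [e] at h7

end H64.J2
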