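import Cfsg.Agent.Lib.H64.J2J

set_option autoImplicit false

/-! Groups of Hall-Janko type: the centralizer of the non-central involution, III. -/

namespace H64.J2

variable {G : Type*} [Group G]

/-- the residual of the centralizer of `t` -/
def GD.K {z t y : G} (_D : GD z t y) : Subgroup (Subgroup.centralizer ({t} : Set G)) :=
  Cfsg.pResidual 2 (Subgroup.centralizer ({t} : Set G))

instance GD.K_normal {z t y : G} (D : GD z t y) : D.K.Normal := by
  unfold GD.K
  infer_instance

variable [Finite G] {z t y : G} (D : GD z t y)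
include D

/-- element of the centralizer -/
def GD.lift (_D : GD z t y) (g : G) (h : g * t = t * g) : Subgroup.centralizer ({t} : Set G) :=
  ⟨g, Subgroup.mem_centralizer_singleton_iff.2 h⟩

theorem GD.AK {x : Subgroup.centralizer ({t} : Set G)} (h1 : (x : G) ∈ D.A) (h2 : x ∈ D.K) : (x : G) ∈ D.Y := by
  obtain ⟨P, hP⟩ := D.exists_sylow
  have hmem : ∀ x : Subgroup.centralizer ({t} : Set G), x ∈ (P : Subgroup _) ↔ (x : G) ∈ D.A := by
    intro x
    rw [hP]
    exact Iff.rfl
  have h3 := H25.Fus.inf_residual_le P (D.Y.subgroupOf (Subgroup.centralizer ({t} : Set G))) (by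
    intro a ha g hg
    exact D.fusion ((hmem a).1 ha) (Subgroup.mem_centralizer_singleton_iff.1 g.2) ((hmem _).1 hg))
  exact h3 ⟨(hmem x).2 h1, h2⟩

omit [Finite G] in
theorem GD.rotK {h : G} (ht : h * t = t * h) (h3 : h * h * h = 1) : D.lift h ht ∈ D.K := by
  apply H2.Residual.mem_residual_of_coprime
  have h4 : orderOf (D.lift h ht) ∣ 3 := orderOf_dvd_of_pow_eq_one (Subtype.ext (by
    change h ^ 3 = 1
    rw [pow_three', h3]))
  rcases (Nat.dvd_prime (by norm_num)).1 h4 with h5 | h5 <;> rw [h5] <;> norm_num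

theorem GD.YK {x : Subgroup.centralizer ({t} : Set G)} (h1 : (x : G) ∈ D.Y) : x ∈ D.K := by
  obtain ⟨h, ht, h3, hz, hy⟩ := D.exists_rot
  have hK := D.rotK ht h3
  have hn : D.K.Normal := inferInstance
  have zinv : z⁻¹ = z := inv_eq_of_mul_eq_one_right D.zz
  have key : ∀ x : Subgroup.centralizer ({t} : Set G), D.lift h ht * x * (D.lift h ht)⁻¹ * x⁻¹ ∈ D.K := by
    intro x
    have h4 := hn.conj_mem _ (D.K.inv_mem hK) x
    have h5 := D.K.mul_mem hK h4
    have e : D.lift h ht * x * (D.lift h ht)⁻¹ * x⁻¹ = D.lift h ht * (x * (D.lift h ht)⁻¹ * x⁻¹) := by group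
    rw [e]
    exact h5
  have kz := key (D.lift z D.zt)
  have ky := key (D.lift y D.yt)
  have ez : D.lift h ht * D.lift z D.zt * (D.lift h ht)⁻¹ * (D.lift z D.zt)⁻¹ =
      D.lift (z * y) (D.commY (Or.inr (Or.inr (Or.inr rfl)))).2 := by
    apply Subtype.ext
    change h * z * h⁻¹ * z⁻¹ = z * y
    rw [hz, zinv, D.zy]
  have ey : D.lift h ht * D.lift y D.yt * (D.lift h ht)⁻¹ * (D.lift y D.yt)⁻¹ = D.lift z D.zt := by
    apply Subtype.ext
    change h * y * h⁻¹ * y⁻¹ = z
    rw [hy]; group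
  rw [ez] at kz
  rw [ey] at ky
  have kyy := D.K.mul_mem ky kz
  have e3 : D.lift z D.zt * D.lift (z * y) (D.commY (Or.inr (Or.inr (Or.inr rfl)))).2 = D.lift y D.yt := by
    apply Subtype.ext
    change z * (z * y) = y
    rw [← mul_assoc, D.zz, one_mul]
  rw [e3] at kyy
  rcases h1 with h1 | h1 | h1 | h1
  · rw [show x = 1 from Subtype.ext h1]; exact D.K.one_mem
  · rw [show x = D.lift z D.zt from Subtype.ext h1]; exact ky
  · rw [show x = D.lift y D.yt from Subtype.ext h1]; exact kyy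
  · rw [show x = D.lift (z * y) (D.commY (Or.inr (Or.inr (Or.inr rfl)))).2 from Subtype.ext h1]; exact kz

theorem GD.K_index : D.K.index = 4 := by
  obtain ⟨P, hP⟩ := D.exists_sylow
  have c16 : Nat.card (P : Subgroup (Subgroup.centralizer ({t} : Set G))) = 16 := by
    rw [hP, Nat.card_congr (Subgroup.subgroupOfEquivOfLe D.Xt).toEquiv, D.cA]
  have hmem : ∀ x : Subgroup.centralizer ({t} : Set G), x ∈ (P : Subgroup _) ↔ (x : G) ∈ D.A := by
    intro x
    rw [hP]
    exact Iff.rfl
  have h1 : D.K.index = D.K.relIndex (P : Subgroup _) := H25.Fus.index_residual P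
  rw [h1]
  have h2 := (D.K.subgroupOf (P : Subgroup _)).card_mul_index
  rw [c16] at h2
  have h3 : Nat.card (D.K.subgroupOf (P : Subgroup (Subgroup.centralizer ({t} : Set G)))) = 4 := by
    rw [← D.cardY]
    refine Nat.card_congr ⟨fun x => ⟨(x.1.1 : G), ?_⟩, fun w => ⟨⟨D.lift w (D.commY w.2).2, ?_⟩, ?_⟩, ?_, ?_⟩
    · refine D.AK ?_ x.2
      exact (hmem _).1 x.1.2
    · exact (hmem _).2 (D.YA w.2)
    · exact D.YK w.2
    · intro x
      rfl
    · intro w
      rfl
  rw [h3] at h2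
  change 4 * D.K.relIndex (P : Subgroup _) = 16 at h2
  omega

/-- a Sylow 2-subgroup of `K` -/
theorem GD.exists_sylowK : ∃ S : Sylow 2 D.K, ∀ k : D.K, k ∈ (S : Subgroup D.K) ↔ ((k : Subgroup.centralizer ({t} : Set G)) : G) ∈ D.Y := by
  have hp : Fact (Nat.Prime 2) := ⟨Nat.prime_two⟩
  obtain ⟨P, hP⟩ := D.exists_sylow
  obtain ⟨S, hS⟩ := H2.Residual.exists_sylow_inf P D.K
  refine ⟨S, fun k => ?_⟩
  rw [hS, Subgroup.mem_subgroupOf, hP, Subgroup.mem_subgroupOf]
  exact ⟨fun h => D.AK h k.2, fun h => D.YA h⟩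

/-- all involutions of `K` are conjugate to `z` in `K` -/
theorem GD.invK {k : D.K} (h2 : k * k = 1) (h1 : k ≠ 1) : ∃ g : D.K,
    ((g : Subgroup.centralizer ({t} : Set G)) : G) * k * ((g : Subgroup.centralizer ({t} : Set G)) : G)⁻¹ = z := by
  obtain ⟨S, hS⟩ := D.exists_sylowK
  obtain ⟨g, hg⟩ := H25.Fus.exists_conj_mem_sylow S k 1 (by rw [pow_one, pow_two, h2])
  have hY := (hS _).1 hg
  have hne : ((g * k * g⁻¹ : D.K) : Subgroup.centralizer ({t} : Set G)) ≠ 1 := by
    intro h3
    apply h1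
    have h4 : g * k * g⁻¹ = 1 := Subtype.ext h3
    rwa [conj_eq_one_iff] at h4
  obtain ⟨h, ht, h3, hz, hy⟩ := D.exists_rot
  have hK := D.rotK ht h3
  let h' : D.K := ⟨D.lift h ht, hK⟩
  have eg : (((g * k * g⁻¹ : D.K) : Subgroup.centralizer ({t} : Set G)) : G) =
    ((g : Subgroup.centralizer ({t} : Set G)) : G) * k * ((g : Subgroup.centralizer ({t} : Set G)) : G)⁻¹ := rfl
  rw [eg] at hY
  set w : G := ((g : Subgroup.centralizer ({t} : Set G)) : G) * k * ((g : Subgroup.centralizer ({t} : Set G)) : G)⁻¹ with hw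
  have hzy : h * (z * y) * h⁻¹ = z := by
    calc h * (z * y) * h⁻¹ = (h * z * h⁻¹) * (h * y * h⁻¹) := by group
      _ = z := by rw [hz, hy, D.zy, ← mul_assoc, D.yy, one_mul]
  have key : ∃ m : D.K, ((m : Subgroup.centralizer ({t} : Set G)) : G) * w * ((m : Subgroup.centralizer ({t} : Set G)) : G)⁻¹ = z := by
    rcases hY with h5 | h5 | h5 | h5
    · exact absurd (Subtype.ext h5) hne
    · refine ⟨1, ?_⟩
      rw [h5]
      change (1 : G) * z * (1 : G)⁻¹ = z
      group
    · refine ⟨h' * h', ?_⟩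
      rw [h5]
      change h * h * y * (h * h)⁻¹ = z
      calc h * h * y * (h * h)⁻¹ = h * (h * y * h⁻¹) * h⁻¹ := by group
        _ = z := by rw [hy, hzy]
    · refine ⟨h', ?_⟩
      rw [h5]
      exact hzy
  obtain ⟨m, hm⟩ := key
  refine ⟨m * g, ?_⟩
  refine Eq.trans ?_ hm
  rw [hw]
  change (m : G) * (g : G) * (k : G) * ((m : G) * (g : G))⁻¹ = _
  group

theorem GD.centK {k : D.K} (hk : ((k : Subgroup.centralizer ({t} : Set G)) : G) * z =
    z * ((k : Subgroup.centralizer ({t} : Set G)) : G)) : ((k : Subgroup.centralizer ({t} : Set G)) : G) ∈ D.Y :=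
  D.AK (D.memA.2 ⟨hk, Subgroup.mem_centralizer_singleton_iff.1 (k : Subgroup.centralizer ({t} : Set G)).2⟩) k.2

theorem GD.not_complement : ¬ Cfsg.HasNormalPComplement 2 D.K := by
  have hp : Fact (Nat.Prime 2) := ⟨Nat.prime_two⟩
  rintro ⟨P, N, hN, hNP⟩
  have h1 : N.index = Nat.card P := hNP.symm.index_eq_card
  obtain ⟨k, hk⟩ := IsPGroup.iff_card.1 P.isPGroup'
  have h2 : IsPGroup 2 (D.K ⧸ N) := IsPGroup.of_card (n := k) (by
    rw [← Subgroup.index_eq_card, h1]
    exact hk)
  have h3 := H2.Residual.residual_le_of_isPGroup_quotient N h2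
  have h4 : Cfsg.pResidual 2 D.K = ⊤ := H2.Residual.residual_residual
  rw [h4, top_le_iff] at h3
  rw [h3, Subgroup.index_top] at h1
  have h5 : (P : Subgroup D.K) ≠ ⊥ := by
    apply P.ne_bot_of_dvd_card
    let z' : D.K := ⟨D.lift z D.zt, D.YK D.zY⟩
    have h6 : orderOf z' = 2 := orderOf_eq_prime (Subtype.ext (Subtype.ext (by
      change z ^ 2 = 1
      rw [pow_two, D.zz]))) (fun h => D.z1 (congrArg (fun k : D.K => ((k : Subgroup.centralizer ({t} : Set G)) : G)) h))
    rw [← h6]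
    exact orderOf_dvd_natCard z'
  apply h5
  exact Subgroup.eq_bot_of_card_eq _ h1.symm

/-- the two possibilities -/
theorem GD.K_cases : (∀ g : G, g * t = t * g → g * z * g⁻¹ ∈ D.Y) ∨ Nonempty (D.K ≃* alternatingGroup (Fin 5)) := by
  have hp : Fact (Nat.Prime 2) := ⟨Nat.prime_two⟩
  by_cases hY : ∀ g : G, g * t = t * g → g * z * g⁻¹ ∈ D.Y
  · exact Or.inl hY
  right
  let z' : D.K := ⟨D.lift z D.zt, D.YK D.zY⟩
  have hmemc : ∀ k : D.K, k ∈ Subgroup.centralizer ({z'} : Set D.K) ↔
      ((k : Subgroup.centralizer ({t} : Set G)) : G) ∈ D.Y := by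
    intro k
    rw [Subgroup.mem_centralizer_singleton_iff]
    constructor
    · intro h
      exact D.centK (congrArg (fun k : D.K => ((k : Subgroup.centralizer ({t} : Set G)) : G)) h)
    · intro h
      exact Subtype.ext (Subtype.ext (D.commY h).1)
  have h6 : orderOf z' = 2 := orderOf_eq_prime (Subtype.ext (Subtype.ext (by
      change z ^ 2 = 1
      rw [pow_two, D.zz]))) (fun h => D.z1 (congrArg (fun k : D.K => ((k : Subgroup.centralizer ({t} : Set G)) : G)) h))
  refine H59.Klein1.main z' h6 ?_ ?_ D.not_complement ?_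
  · rw [← D.cardY]
    refine Nat.card_congr ⟨fun x => ⟨((x.1 : Subgroup.centralizer ({t} : Set G)) : G), (hmemc _).1 x.2⟩,
      fun w => ⟨⟨D.lift w (D.commY w.2).2, D.YK w.2⟩, (hmemc _).2 w.2⟩, fun x => rfl, fun w => rfl⟩
  · intro c hc
    have h7 := D.sqY ((hmemc c).1 hc)
    rw [pow_two]
    exact Subtype.ext (Subtype.ext h7)
  · intro E hE hel
    constructor
    · intro hc2
      obtain ⟨e, he, he2⟩ : ∃ e ∈ E, e ≠ 1 := by
        have : Nontrivial E := (Finite.one_lt_card_iff_nontrivial).1 (by rw [hc2]; norm_num)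
        obtain ⟨e, he⟩ := exists_ne (1 : E)
        exact ⟨e, e.2, fun h => he (Subtype.ext h)⟩
      have hee : e * e = 1 := by rw [← pow_two]; exact hel.2 e he
      have hcen : ∀ g : D.K, g * e * g⁻¹ = e := by
        intro g
        have h8 := hE.conj_mem e he g
        by_contra hne
        have h9 : ({1, e, g * e * g⁻¹} : Set D.K) ⊆ (E : Set D.K) := by
          rintro x (rfl | rfl | rfl)
          · exact E.one_mem
          · exact he
          · exact h8
        have h10 := Set.ncard_le_ncard h9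
        rw [Set.ncard_insert_of_notMem, Set.ncard_pair (Ne.symm hne), ← card_eq_ncard, hc2] at h10
        · omega
        · simp only [Set.mem_insert_iff, Set.mem_singleton_iff, not_or]
          refine ⟨Ne.symm he2, fun h11 => he2 ?_⟩
          exact conj_eq_one_iff.1 h11.symm
      obtain ⟨g, hg⟩ := D.invK hee he2
      have h12 : e = z' := by
        rw [← hcen g]
        exact Subtype.ext (Subtype.ext hg)
      obtain ⟨h, ht, h3, hz, hy⟩ := D.exists_rot
      have h13 := hcen ⟨D.lift h ht, D.rotK ht h3⟩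
      rw [h12] at h13
      have h14 : h * z * h⁻¹ = z := congrArg (fun k : D.K => ((k : Subgroup.centralizer ({t} : Set G)) : G)) h13
      rw [hz] at h14
      exact D.yz h14
    · intro hc4
      apply hY
      obtain ⟨S, hS⟩ := D.exists_sylowK
      have hEp : IsPGroup 2 E := IsPGroup.of_card (n := 2) (by rw [hc4]; norm_num)
      have hES : E ≤ (S : Subgroup D.K) := hEp.le_sylow_of_normal S
      have cS : Nat.card (S : Subgroup D.K) = 4 := by
        rw [← D.cardY]
        refine Nat.card_congr ⟨fun x => ⟨((x.1 : Subgroup.centralizer ({t} : Set G)) : G), (hS _).1 x.2⟩,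
          fun w => ⟨⟨D.lift w (D.commY w.2).2, D.YK w.2⟩, (hS _).2 w.2⟩, fun x => rfl, fun w => rfl⟩
      have hEeq : E = (S : Subgroup D.K) := Subgroup.eq_of_le_of_card_ge hES (by rw [cS, hc4])
      intro g hgt
      have hgz : D.lift g hgt * D.lift z D.zt * (D.lift g hgt)⁻¹ ∈ D.K := D.K_normal.conj_mem _ (D.YK D.zY) _
      let u : D.K := ⟨_, hgz⟩
      have huu : u * u = 1 := by
        apply Subtype.ext
        apply Subtype.ext
        change g * z * g⁻¹ * (g * z * g⁻¹) = 1
        calc g * z * g⁻¹ * (g * z * g⁻¹) = g * (z * z) * g⁻¹ := by group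
          _ = 1 := by rw [D.zz]; group
      obtain ⟨k, hk⟩ := H25.Fus.exists_conj_mem_sylow S u 1 (by rw [pow_one, pow_two, huu])
      rw [← hEeq] at hk
      have h8 := hE.conj_mem _ hk k⁻¹
      have h9 : k⁻¹ * (k * u * k⁻¹) * k⁻¹⁻¹ = u := by group
      rw [h9, hEeq] at h8
      exact (hS u).1 h8

end H64.J2
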