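import Cfsg.Agent.Lib.H64.J2K
import Cfsg.Agent.S0213

set_option autoImplicit false

/-! Groups of Hall-Janko type: the case of a centralizer of order 48 is impossible. -/

namespace H64.J2

section general
variable {H : Type*} [Group H] [Finite H]

theorem exists_sylow_of_norm {p : ℕ} [Fact p.Prime] {P0 : Subgroup H} (hP0 : IsPGroup p P0)
    (hN : ∀ g : H, (∃ k : ℕ, g ^ (p ^ k) = 1) → (∀ a ∈ P0, g * a * g⁻¹ ∈ P0) → g ∈ P0) :
    ∃ S : Sylow p H, (S : Subgroup H) = P0 := by
  obtain ⟨P, hP⟩ := hP0.exists_le_sylow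
  refine ⟨P, ?_⟩
  by_contra hne
  have hlt : P0.subgroupOf (P : Subgroup H) < ⊤ := by
    rw [lt_top_iff_ne_top]
    intro h1
    rw [Subgroup.subgroupOf_eq_top] at h1
    exact hne (le_antisymm h1 hP)
  have hnil : Group.IsNilpotent (P : Subgroup H) := P.isPGroup'.isNilpotent
  have hnc := Group.normalizerCondition_of_isNilpotent (G := (P : Subgroup H)) _ hlt
  obtain ⟨g, hg1, hg2⟩ := SetLike.exists_of_lt hnc
  apply hg2
  rw [Subgroup.mem_normalizer_iff] at hg1
  rw [Subgroup.mem_subgroupOf]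
  obtain ⟨k, hk⟩ := P.isPGroup' g
  refine hN g ⟨k, congrArg Subtype.val hk⟩ ?_
  intro a ha
  exact (hg1 ⟨a, hP ha⟩).1 ha

theorem sylow_two {z : H} (hz : orderOf z = 2) (hc : ¬ 4 ∣ Nat.card (Subgroup.centralizer ({z} : Set H))) :
    ∃ S : Sylow 2 H, (S : Subgroup H) = Subgroup.zpowers z := by
  have hp : Fact (Nat.Prime 2) := ⟨Nat.prime_two⟩
  apply exists_sylow_of_norm (IsPGroup.of_card (n := 1) (by rw [Nat.card_zpowers, hz, pow_one]))
  rintro g ⟨k, hk⟩ hg
  by_contra hgz
  have zz : z * z = 1 := by rw [← pow_two, ← hz, pow_orderOf_eq_one]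
  have z1 : z ≠ 1 := by
    rintro rfl
    rw [orderOf_one] at hz
    norm_num at hz
  have hz2 : ∀ w ∈ Subgroup.zpowers z, w = 1 ∨ w = z := by
    intro w hw
    obtain ⟨m, rfl⟩ := Subgroup.mem_zpowers_iff.1 hw
    rcases Int.even_or_odd' m with ⟨j, hj | hj⟩
    · left; rw [hj, zpow_mul, zpow_two, zz, one_zpow]
    · right; rw [hj, zpow_add, zpow_mul, zpow_two, zz, one_zpow, zpow_one, one_mul]
  have hgc : g * z = z * g := by
    rcases hz2 _ (hg z (Subgroup.mem_zpowers z)) with h | h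
    · exact absurd (conj_eq_one_iff.1 h) z1
    · exact mul_inv_eq_iff_eq_mul.1 h
  -- the subgroup generated by `z` and `g`
  let Z := Subgroup.centralizer ({z} : Set H)
  have hgZ : g ∈ Z := Subgroup.mem_centralizer_singleton_iff.2 hgc
  have hzZ : z ∈ Z := Subgroup.mem_centralizer_singleton_iff.2 rfl
  -- Sylow subgroup of `Z`
  obtain ⟨S⟩ : Nonempty (Sylow 2 Z) := inferInstance
  have hcs : Nat.card S ∣ 2 := by
    obtain ⟨j, hj⟩ := IsPGroup.iff_card.1 S.isPGroup'
    rw [hj]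
    by_cases h2 : 2 ≤ j
    · exfalso
      apply hc
      have h3 : (2 : ℕ) ^ 2 ∣ 2 ^ j := pow_dvd_pow 2 h2
      rw [← hj] at h3
      exact h3.trans (Subgroup.card_subgroup_dvd_card _)
    · exact (pow_dvd_pow 2 (by omega : j ≤ 1)).trans (by norm_num)
  -- `zpowers z` is a normal 2-subgroup, so it is in `S`, equal to `S`
  have hzS : (⟨z, hzZ⟩ : Z) ∈ (S : Subgroup Z) := by
    have hn : (Subgroup.zpowers (⟨z, hzZ⟩ : Z)).Normal := by
      refine ⟨fun w hw c => ?_⟩
      obtain ⟨m, rfl⟩ := Subgroup.mem_zpowers_iff.1 hw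
      refine Subgroup.mem_zpowers_iff.2 ⟨m, ?_⟩
      have h1 : Commute c (⟨z, hzZ⟩ : Z) := Subtype.ext (Subgroup.mem_centralizer_singleton_iff.1 c.2)
      rw [(h1.zpow_right m).eq]; group
    have hp2 : IsPGroup 2 (Subgroup.zpowers (⟨z, hzZ⟩ : Z)) := IsPGroup.of_card (n := 1) (by
      rw [Nat.card_zpowers, pow_one]
      exact (orderOf_injective Z.subtype (Subgroup.subtype_injective _) ⟨z, hzZ⟩).symm.trans hz)
    exact hp2.le_sylow_of_normal S (Subgroup.mem_zpowers _)
  have hSz : Subgroup.zpowers (⟨z, hzZ⟩ : Z) = (S : Subgroup Z) := by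
    apply Subgroup.eq_of_le_of_card_ge
    · rw [Subgroup.zpowers_le]; exact hzS
    · rw [Nat.card_zpowers]
      have h1 : orderOf (⟨z, hzZ⟩ : Z) = 2 :=
        (orderOf_injective Z.subtype (Subgroup.subtype_injective _) ⟨z, hzZ⟩).symm.trans hz
      rw [h1]
      exact Nat.le_of_dvd (by norm_num) hcs
  obtain ⟨c, hc'⟩ := H25.Fus.exists_conj_mem_sylow S ⟨g, hgZ⟩ k (Subtype.ext hk)
  rw [← hSz] at hc'
  have h2 : (⟨g, hgZ⟩ : Z) ∈ Subgroup.zpowers (⟨z, hzZ⟩ : Z) := by
    obtain ⟨m, hm⟩ := Subgroup.mem_zpowers_iff.1 hc'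
    refine Subgroup.mem_zpowers_iff.2 ⟨m, ?_⟩
    have h1 : Commute c (⟨z, hzZ⟩ : Z) := Subtype.ext (Subgroup.mem_centralizer_singleton_iff.1 c.2)
    have h3 := (h1.zpow_right m).eq
    have h4 : c⁻¹ * (c * ⟨g, hgZ⟩ * c⁻¹) * c = ⟨g, hgZ⟩ := by group
    calc (⟨z, hzZ⟩ : Z) ^ m = c⁻¹ * (c * (⟨z, hzZ⟩ : Z) ^ m) := by group
      _ = c⁻¹ * ((⟨z, hzZ⟩ : Z) ^ m * c) := by rw [h3]
      _ = c⁻¹ * (c * ⟨g, hgZ⟩ * c⁻¹) * c := by rw [hm]; group
      _ = ⟨g, hgZ⟩ := h4
  apply hgz
  obtain ⟨m, hm⟩ := Subgroup.mem_zpowers_iff.1 h2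
  exact Subgroup.mem_zpowers_iff.2 ⟨m, congrArg Subtype.val hm⟩

/-- fixed points of an element of prime order on a class -/
theorem card_class_mod {p : ℕ} (hp : p.Prime) {x : H} (hx : orderOf x = p) (P : H → Prop)
    (hP : ∀ u, P u → P (x * u * x⁻¹)) :
    Nat.card {u : H // P u} ≡ Nat.card {u : H // P u ∧ x * u = u * x} [MOD p] := by
  have hpf : Fact p.Prime := ⟨hp⟩
  have hWk : ∀ k : ℕ, ∀ w, P w → P (x ^ k * w * (x ^ k)⁻¹) := by
    intro k
    induction k with
    | zero => intro w hw; simpa using hw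
    | succ k ih =>
      intro w hw
      have e : x ^ (k + 1) * w * (x ^ (k + 1))⁻¹ = x * (x ^ k * w * (x ^ k)⁻¹) * x⁻¹ := by
        rw [pow_succ']; group
      rw [e]
      exact hP _ (ih w hw)
  have hWz : ∀ g ∈ Subgroup.zpowers x, ∀ w, P w → P (g * w * g⁻¹) := by
    intro g hg w hw
    obtain ⟨k, rfl⟩ := (isOfFinOrder_of_finite x).mem_powers_iff_mem_zpowers.2 hg
    exact hWk k w hw
  let act : MulAction (Subgroup.zpowers x) {u : H // P u} :=
    { smul := fun g w => ⟨g * w * (g : H)⁻¹, hWz g g.2 w w.2⟩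
      one_smul := fun w => Subtype.ext (by change (1 : H) * w * (1 : H)⁻¹ = w; simp)
      mul_smul := fun a b w => Subtype.ext (by
        change ((a : H) * b) * w * ((a : H) * b)⁻¹ = a * (b * w * (b : H)⁻¹) * (a : H)⁻¹
        group) }
  have hpg : IsPGroup p (Subgroup.zpowers x) := IsPGroup.of_card (n := 1) (by rw [Nat.card_zpowers, hx, pow_one])
  have hmod := hpg.card_modEq_card_fixedPoints {u : H // P u}
  have hfp : Nat.card (MulAction.fixedPoints (Subgroup.zpowers x) {u : H // P u}) =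
      Nat.card {u : H // P u ∧ x * u = u * x} := by
    refine Nat.card_congr ⟨fun w => ⟨w.1.1, w.1.2, ?_⟩, fun w => ⟨⟨w.1, w.2.1⟩, ?_⟩, fun w => rfl, fun w => rfl⟩
    · have h1 := w.2 ⟨x, Subgroup.mem_zpowers x⟩
      have h2 : x * (w.1 : H) * x⁻¹ = w.1 := congrArg Subtype.val h1
      exact mul_inv_eq_iff_eq_mul.1 h2
    · rw [MulAction.mem_fixedPoints]
      intro g
      apply Subtype.ext
      change (g : H) * w.1 * (g : H)⁻¹ = w.1
      have h1 := w.2.2
      obtain ⟨k, hk⟩ := Subgroup.mem_zpowers_iff.1 g.2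
      rw [← hk]
      have h2 : Commute x (w.1 : H) := h1
      have h3 := (h2.zpow_left k).eq
      rw [h3]
      group
  rw [hfp] at hmod
  exact hmod

end general

theorem cent_five : ∀ σ : Equiv.Perm (Fin 5), σ ^ 5 = 1 → σ ≠ 1 → ∀ ρ : Equiv.Perm (Fin 5), ρ * σ = σ * ρ →
    ρ = 1 ∨ ρ = σ ∨ ρ = σ ^ 2 ∨ ρ = σ ^ 3 ∨ ρ = σ ^ 4 := by decide +kernel

section core
variable {C : Type*} [Group C] [Finite C] {z : C} {Q : Subgroup C} {y : Fin 5 → C}

theorem Core.card_cent5 (h : Core z Q) (f : Frame z Q y) {x : C} (hx : orderOf x = 5) :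
    Nat.card (Subgroup.centralizer ({x} : Set C)) = 10 := by
  let T := Subgroup.centralizer ({x} : Set C)
  have hxT : x ∈ T := Subgroup.mem_centralizer_singleton_iff.2 rfl
  have hzT : z ∈ T := Subgroup.mem_centralizer_singleton_iff.2 (h.zc x).symm
  let ψ : T →* Equiv.Perm (Fin 5) := (f.pi h).comp T.subtype
  have h1 := ψ.ker.card_mul_index
  rw [Subgroup.index_ker] at h1
  have hk : Nat.card ψ.ker ≤ 2 := by
    rw [card_eq_ncard]
    have : ((ψ.ker : Subgroup T) : Set T) ⊆ {1, ⟨z, hzT⟩} := by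
      intro w hw
      have h2 : f.pi h (w : C) = 1 := hw
      rw [← MonoidHom.mem_ker, f.ker_pi h] at h2
      have h3 := Subgroup.mem_centralizer_singleton_iff.1 w.2
      rcases h.fix5 hx h2 (Or.inl (by rw [← h3]; group)) with h4 | h4
      · exact Or.inl (Subtype.ext h4)
      · exact Or.inr (Subtype.ext h4)
    refine (Set.ncard_le_ncard this).trans ?_
    rw [Set.ncard_pair]
    intro h3
    exact h.z1 (congrArg Subtype.val h3).symm
  have hx5 : x ^ 5 = 1 := by rw [← hx, pow_orderOf_eq_one]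
  have hpx : f.pi h x ≠ 1 := by
    intro h2
    rw [← MonoidHom.mem_ker, f.ker_pi h] at h2
    have h5 : orderOf x ∣ 32 := by
      rw [← h.cardQ, ← Subgroup.orderOf_mk x h2]
      exact orderOf_dvd_natCard _
    rw [hx] at h5
    norm_num at h5
  have hr : Nat.card ψ.range ≤ 5 := by
    rw [card_eq_ncard]
    have : ((ψ.range : Subgroup _) : Set (Equiv.Perm (Fin 5))) ⊆
        {1, f.pi h x, (f.pi h x) ^ 2, (f.pi h x) ^ 3, (f.pi h x) ^ 4} := by
      rintro _ ⟨w, rfl⟩
      have h3 := Subgroup.mem_centralizer_singleton_iff.1 w.2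
      exact cent_five (f.pi h x) (by rw [← map_pow, hx5, map_one]) hpx (f.pi h (w : C)) (by
        rw [← map_mul, ← map_mul, h3])
    refine (Set.ncard_le_ncard this).trans ?_
    refine (Set.ncard_insert_le _ _).trans (Nat.succ_le_succ ?_)
    refine (Set.ncard_insert_le _ _).trans (Nat.succ_le_succ ?_)
    refine (Set.ncard_insert_le _ _).trans (Nat.succ_le_succ ?_)
    refine (Set.ncard_insert_le _ _).trans (Nat.succ_le_succ ?_)
    rw [Set.ncard_singleton]
  have h5 : 5 ∣ Nat.card T := by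
    rw [← hx, ← Subgroup.orderOf_mk x hxT]
    exact orderOf_dvd_natCard _
  have h2 : 2 ∣ Nat.card T := by
    rw [← (orderOf_eq_prime (by rw [pow_two, h.zz]) h.z1 : orderOf z = 2), ← Subgroup.orderOf_mk z hzT]
    exact orderOf_dvd_natCard _
  have h10 : 10 ∣ Nat.card T := Nat.Coprime.mul_dvd_of_dvd_of_dvd (by norm_num) h2 h5
  have hle : Nat.card T ≤ 10 := by rw [← h1]; nlinarith
  exact le_antisymm hle (Nat.le_of_dvd Nat.card_pos h10)

end core

variable {G : Type*} [Group G] [Finite G] {z t y : G} (D : GD z t y)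
include D

theorem GD.order : Nat.card G = Nat.card (Subgroup.centralizer ({t} : Set G)) * 960 + 1920 *
    Nat.card {p : G × G // IsConj z p.1 ∧ IsConj t p.2 ∧ t ∈ Subgroup.zpowers (p.1 * p.2)} := by
  have h1 := Cfsg.Agent.S0213.result z t (orderOf_eq_prime (by rw [pow_two, D.zz]) D.z1)
    (orderOf_eq_prime (by rw [pow_two, D.tt]) D.t1) D.ncl (by
      intro u hu
      refine D.cls u ?_ ?_
      · rw [← pow_two, ← hu, pow_orderOf_eq_one]
      · rintro rfl
        rw [orderOf_one] at hu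
        norm_num at hu)
  rw [D.n1, D.cardZ] at h1
  exact h1

section
variable (hY : ∀ g : G, g * t = t * g → g * z * g⁻¹ ∈ D.Y)
include hY

theorem GD.card48 : Nat.card (Subgroup.centralizer ({t} : Set G)) = 48 := by
  let X := Subgroup.centralizer ({t} : Set G)
  let z' : X := D.lift z D.zt
  have h1 := H18.CharInd.card_isConj_mul_card_centralizer z'
  have h2 : Nat.card (Subgroup.centralizer ({z'} : Set X)) = 16 := by
    rw [← D.cA]
    refine Nat.card_congr ⟨fun x => ⟨x.1.1, ?_⟩, fun a => ⟨D.lift a (D.memA.1 a.2).2, ?_⟩, fun x => rfl, fun a => rfl⟩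
    · refine D.memA.2 ⟨?_, Subgroup.mem_centralizer_singleton_iff.1 x.1.2⟩
      exact congrArg Subtype.val (Subgroup.mem_centralizer_singleton_iff.1 x.2)
    · exact Subgroup.mem_centralizer_singleton_iff.2 (Subtype.ext (D.memA.1 a.2).1)
  have h3 : Nat.card {x : X // IsConj z' x} = 3 := by
    have e : Nat.card {x : X // IsConj z' x} = Nat.card {w : G // w ∈ ({z, y, z * y} : Set G)} := by
      refine Nat.card_congr ⟨fun x => ⟨x.1.1, ?_⟩, fun w => ⟨D.lift w.1 (D.commY (Or.inr w.2)).2, ?_⟩, fun x => rfl, fun a => rfl⟩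
      · obtain ⟨g, hg⟩ := isConj_iff.1 x.2
        have h4 : (g : G) * z * (g : G)⁻¹ = x.1.1 := congrArg Subtype.val hg
        have h5 := hY g (Subgroup.mem_centralizer_singleton_iff.1 g.2)
        rcases h5 with h5 | h5
        · exact absurd (conj_eq_one_iff.1 h5) D.z1
        · rw [← h4]; exact h5
      · have h5 : (w : G) ≠ 1 := by
          rcases w.2 with h5 | h5 | h5
          · rw [h5]; exact D.z1
          · rw [h5]; exact D.y1
          · rw [h5]; exact D.zy1
        obtain ⟨g, hgt, hg⟩ := D.conj_t (Or.inr w.2) h5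
        exact (isConj_iff.2 ⟨D.lift g hgt, Subtype.ext hg⟩ :
          IsConj (D.lift w.1 (D.commY (Or.inr w.2)).2) z').symm
    rw [e]
    change Nat.card (({z, y, z * y} : Set G) : Type _) = 3
    rw [Nat.card_coe_set_eq]
    exact Set.ncard_eq_three.2 ⟨z, y, z * y, D.yz.symm, fun h => D.y1 (mul_eq_left.1 h.symm),
      fun h => D.z1 (mul_eq_right.1 h.symm), rfl⟩
  rw [h2, h3] at h1
  exact h1.symm

theorem GD.n2_case48 : Nat.card {p : G × G // IsConj z p.1 ∧ IsConj t p.2 ∧ t ∈ Subgroup.zpowers (p.1 * p.2)} = 3 := by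
  have tinv : t⁻¹ = t := inv_eq_of_mul_eq_one_right D.tt
  have hsqz : ∀ v : G, IsConj z v → v * v = 1 := by
    intro v hv
    obtain ⟨k, hk⟩ := isConj_iff.1 hv
    rw [← hk]
    calc k * z * k⁻¹ * (k * z * k⁻¹) = k * (z * z) * k⁻¹ := by group
      _ = 1 := by rw [D.zz]; group
  have hsqt : ∀ v : G, IsConj t v → v * v = 1 := by
    intro v hv
    obtain ⟨k, hk⟩ := isConj_iff.1 hv
    rw [← hk]
    calc k * t * k⁻¹ * (k * t * k⁻¹) = k * (t * t) * k⁻¹ := by group
      _ = 1 := by rw [D.tt]; group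
  have key : ∀ u v : G, IsConj z u → IsConj t v → t ∈ Subgroup.zpowers (u * v) → u ∈ D.Y ∧ u ≠ 1 ∧ v = u * t := by
    intro u v hu hv ht
    have h1 := conj_zpowers_inv (hsqz u hu) (hsqt v hv) ht
    rw [tinv] at h1
    have hut := mul_inv_eq_iff_eq_mul.1 h1.1
    have hvt := mul_inv_eq_iff_eq_mul.1 h1.2
    obtain ⟨g, hg1, hg2⟩ := D.pair u t hu (IsConj.refl t) hut
    have hg3 : g * t = t * g := mul_inv_eq_iff_eq_mul.1 hg2
    have hg3' : g⁻¹ * t = t * g⁻¹ := by
      calc g⁻¹ * t = g⁻¹ * (t * g) * g⁻¹ := by group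
        _ = t * g⁻¹ := by rw [← hg3]; group
    have hu1 : u ≠ 1 := by
      rintro rfl
      apply D.z1
      rw [← hg1]; group
    have huY : u ∈ D.Y := by
      have h2 := hY g⁻¹ hg3'
      have h3 : g⁻¹ * z * g⁻¹⁻¹ = u := by
        have h4 : g⁻¹ * (g * u * g⁻¹) * g⁻¹⁻¹ = u := by group
        rwa [hg1] at h4
      rwa [h3] at h2
    have hvA : v ∈ D.A := by
      have h2 := D.cube hvt (hY v hvt)
      rwa [hsqt v hv, one_mul] at h2
    have huv := D.abA (D.YA huY) hvA
    have h5 : u * v * (u * v) = 1 := by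
      calc u * v * (u * v) = u * (v * u) * v := by group
        _ = u * u * (v * v) := by rw [← huv]; group
        _ = 1 := by rw [hsqz u hu, hsqt v hv, one_mul]
    have h6 : t = u * v := by
      obtain ⟨k, hk⟩ := Subgroup.mem_zpowers_iff.1 ht
      rcases Int.even_or_odd' k with ⟨m, hm | hm⟩
      · exfalso
        rw [hm, zpow_mul, zpow_two, h5, one_zpow] at hk
        exact D.t1 hk.symm
      · rw [← hk, hm, zpow_add, zpow_mul, zpow_two, h5, one_zpow, zpow_one, one_mul]
    refine ⟨huY, hu1, ?_⟩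
    rw [h6, ← mul_assoc, hsqz u hu, one_mul]
  have e : Nat.card {p : G × G // IsConj z p.1 ∧ IsConj t p.2 ∧ t ∈ Subgroup.zpowers (p.1 * p.2)} =
      Nat.card {w : G // w ∈ ({z, y, z * y} : Set G)} := by
    refine Nat.card_congr ⟨fun p => ⟨p.1.1, ?_⟩, fun w => ⟨(w.1, w.1 * t), ?_⟩, ?_, fun a => rfl⟩
    · obtain ⟨h1, h2, h3⟩ := key p.1.1 p.1.2 p.2.1 p.2.2.1 p.2.2.2
      rcases h1 with h1 | h1
      · exact absurd h1 h2
      · exact h1
    · have hw1 : (w : G) ≠ 1 := by
        rcases w.2 with h5 | h5 | h5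
        · rw [h5]; exact D.z1
        · rw [h5]; exact D.y1
        · rw [h5]; exact D.zy1
      have hwY : (w : G) ∈ D.Y := Or.inr w.2
      have hwc := D.commY hwY
      refine ⟨D.conjY hwY hw1, ?_, ?_⟩
      · change IsConj t ((w : G) * t)
        have hsq : (w : G) * t * ((w : G) * t) = 1 := by
          calc (w : G) * t * ((w : G) * t) = w * (t * w) * t := by group
            _ = (w : G) * w * (t * t) := by rw [← hwc.2]; group
            _ = 1 := by rw [D.sqY hwY, D.tt, one_mul]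
        have hne : (w : G) * t ∉ D.Y := fun h => D.tY (by
          have h6 := D.Y.mul_mem hwY h
          have h7 : (w : G) * ((w : G) * t) = t := by rw [← mul_assoc, D.sqY hwY, one_mul]
          exact Set.mem_of_eq_of_mem (s := (D.Y : Set G)) h7.symm h6)
        rcases D.cls _ hsq (fun h => hne (h ▸ D.Y.one_mem)) with h6 | h6
        · exfalso
          refine hne (D.typY ?_ ?_ h6)
          · rw [mul_assoc, ← D.zt, ← mul_assoc, hwc.1, mul_assoc]
          · rw [← mul_assoc, ← hwc.2]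
        · exact h6
      · change t ∈ Subgroup.zpowers ((w : G) * ((w : G) * t))
        rw [← mul_assoc, D.sqY hwY, one_mul]
        exact Subgroup.mem_zpowers t
    · rintro ⟨⟨u, v⟩, h⟩
      have h1 := (key u v h.1 h.2.1 h.2.2).2.2
      apply Subtype.ext
      change (u, u * t) = (u, v)
      rw [h1]
  rw [e]
  change Nat.card (({z, y, z * y} : Set G) : Type _) = 3
  rw [Nat.card_coe_set_eq]
  exact Set.ncard_eq_three.2 ⟨z, y, z * y, D.yz.symm, fun h => D.y1 (mul_eq_left.1 h.symm),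
    fun h => D.z1 (mul_eq_right.1 h.symm), rfl⟩

/-- the case is impossible when an element of order five exists with the right centralizer -/
theorem GD.case48 {x : G} (hx : orderOf x = 5) (hxz : x * z = z * x) (hxy : x * y ≠ y * x)
    (hc : Nat.card (Subgroup.centralizer ({x} : Set G) ⊓ Subgroup.centralizer ({z} : Set G) : Subgroup G) = 10) : False := by
  have hG := D.order
  rw [D.card48 hY, D.n2_case48 hY] at hG
  have hG' : Nat.card G = 51840 := hG
  -- the class of `z`
  have h27 : Nat.card {u : G // IsConj z u} = 27 := by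
    have h1 := H18.CharInd.card_isConj_mul_card_centralizer z
    rw [D.cardZ, hG'] at h1
    omega
  have hmod := card_class_mod (by norm_num : Nat.Prime 5) hx (fun u => IsConj z u)
    (fun u hu => hu.trans (isConj_iff.2 ⟨x, rfl⟩))
  rw [h27] at hmod
  let H := Subgroup.centralizer ({x} : Set G)
  have hzH : z ∈ H := Subgroup.mem_centralizer_singleton_iff.2 hxz.symm
  let z' : H := ⟨z, hzH⟩
  have hz' : orderOf z' = 2 := orderOf_eq_prime (Subtype.ext (by change z ^ 2 = 1; rw [pow_two, D.zz]))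
    (fun h => D.z1 (congrArg Subtype.val h))
  have hc' : Nat.card (Subgroup.centralizer ({z'} : Set H)) = 10 := by
    rw [← hc]
    refine Nat.card_congr ⟨fun w => ⟨w.1.1, w.1.2, ?_⟩, fun w => ⟨⟨w.1, w.2.1⟩, ?_⟩, fun w => rfl, fun w => rfl⟩
    · exact Subgroup.mem_centralizer_singleton_iff.2 (congrArg Subtype.val (Subgroup.mem_centralizer_singleton_iff.1 w.2))
    · have h1 := Subgroup.mem_centralizer_singleton_iff.1 w.2.2
      exact Subgroup.mem_centralizer_singleton_iff.2 (Subtype.ext h1)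
  obtain ⟨S, hS⟩ := sylow_two hz' (by rw [hc']; norm_num)
  -- fixed points
  have hN : Nat.card {u : G // IsConj z u ∧ x * u = u * x} = Nat.card {u : H // IsConj z' u} := by
    refine Nat.card_congr ⟨fun w => ⟨⟨w.1, Subgroup.mem_centralizer_singleton_iff.2 w.2.2.symm⟩, ?_⟩,
      fun w => ⟨w.1.1, ?_, (Subgroup.mem_centralizer_singleton_iff.1 w.1.2).symm⟩, fun w => rfl, fun w => rfl⟩
    · have hw2 : (w.1 : G) * w.1 = 1 := by
        obtain ⟨k, hk⟩ := isConj_iff.1 w.2.1
        rw [← hk]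
        calc k * z * k⁻¹ * (k * z * k⁻¹) = k * (z * z) * k⁻¹ := by group
          _ = 1 := by rw [D.zz]; group
      have hw1 : (w.1 : G) ≠ 1 := by
        intro h1
        obtain ⟨k, hk⟩ := isConj_iff.1 w.2.1
        rw [h1] at hk
        exact D.z1 (conj_eq_one_iff.1 hk)
      let u : H := ⟨w.1, Subgroup.mem_centralizer_singleton_iff.2 w.2.2.symm⟩
      obtain ⟨g, hg⟩ := H25.Fus.exists_conj_mem_sylow S u 1 (Subtype.ext (by
        change (w.1 : G) ^ (2 ^ 1) = 1
        rw [pow_one, pow_two, hw2]))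
      rw [hS] at hg
      obtain ⟨k, hk⟩ := Subgroup.mem_zpowers_iff.1 hg
      have hzz : z' * z' = 1 := Subtype.ext D.zz
      have h6 : g * u * g⁻¹ = z' := by
        rcases Int.even_or_odd' k with ⟨m, hm | hm⟩
        · exfalso
          rw [hm, zpow_mul, zpow_two, hzz, one_zpow] at hk
          exact hw1 (congrArg Subtype.val (conj_eq_one_iff.1 hk.symm))
        · rw [← hk, hm, zpow_add, zpow_mul, zpow_two, hzz, one_zpow, zpow_one, one_mul]
      exact (isConj_iff.2 ⟨g, h6⟩ : IsConj u z').symm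
    · obtain ⟨k, hk⟩ := isConj_iff.1 w.2
      exact isConj_iff.2 ⟨k, congrArg Subtype.val hk⟩
  have hmul := H18.CharInd.card_isConj_mul_card_centralizer z'
  rw [hc', ← hN] at hmul
  -- odd
  have hodd : ¬ 2 ∣ Nat.card {u : G // IsConj z u ∧ x * u = u * x} := by
    intro h2
    have h3 : 2 ∣ (S : Subgroup H).index := by
      have h4 := (S : Subgroup H).card_mul_index
      rw [hS, Nat.card_zpowers, hz', ← hmul] at h4
      rw [hS]
      omega
    exact S.not_dvd_index h3
  have hdvd : Nat.card H ∣ 51840 := hG' ▸ Subgroup.card_subgroup_dvd_card H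
  have hle : Nat.card {u : G // IsConj z u ∧ x * u = u * x} ≤ 26 := by
    rw [← Nat.lt_succ_iff]
    change _ < 27
    rw [← h27]
    have e1 : Nat.card {u : G // IsConj z u ∧ x * u = u * x} = {u : G | IsConj z u ∧ x * u = u * x}.ncard := Nat.card_coe_set_eq _
    have e2 : Nat.card {u : G // IsConj z u} = {u : G | IsConj z u}.ncard := Nat.card_coe_set_eq _
    rw [e1, e2]
    refine Set.ncard_lt_ncard ?_ (Set.toFinite _)
    refine ⟨fun u hu => hu.1, fun h => ?_⟩
    exact hxy (h (show IsConj z y from D.czy)).2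
  have hmod' : 27 % 5 = Nat.card {u : G // IsConj z u ∧ x * u = u * x} % 5 := hmod
  rw [← hmul] at hdvd
  generalize Nat.card {u : G // IsConj z u ∧ x * u = u * x} = N at *
  interval_cases N <;> omega

end

end H64.J2
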