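import Mathlib

set_option autoImplicit false

/-! Finite facts about the symmetric group of degree five. -/

namespace H64.J2

set_option synthInstance.maxHeartbeats 400000 in
set_option synthInstance.maxSize 2000 in
theorem cent_klein : ∀ v w : Equiv.Perm (Fin 5), ((Equiv.Perm.sign v = 1 ∧ v * v = 1 ∧ v ≠ 1) ∧
    Equiv.Perm.sign w = 1 ∧ w * w = 1 ∧ w ≠ 1 ∧ w ≠ v ∧ v * w = w * v) →
  ∀ σ : Equiv.Perm (Fin 5), (σ * v = v * σ ∧ σ * w = w * σ) → (σ = 1 ∨ σ = v ∨ σ = w ∨ σ = v * w) := by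
  decide +kernel

theorem card_inv15 : (Finset.univ.filter fun q : Equiv.Perm (Fin 5) =>
    (Equiv.Perm.sign q = 1 ∧ q * q = 1 ∧ q ≠ 1)).card = 15 := by decide +kernel

theorem card_13 : ∀ v : Equiv.Perm (Fin 5), Equiv.Perm.sign v = 1 → v * v = 1 → v ≠ 1 →
    (Finset.univ.filter fun q : Equiv.Perm (Fin 5) =>
    (Equiv.Perm.sign q = 1 ∧ q * q = 1 ∧ q ≠ 1 ∧ (q = v ∨ q * v ≠ v * q))).card = 13 := by decide +kernel

theorem odd_pow : ∀ x : Equiv.Perm (Fin 5), Equiv.Perm.sign x = 1 → x ^ 15 = 1 ∨ x * x = 1 := by decide +kernel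

end H64.J2
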