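import Cfsg.Agent.Lib.H64.J2L
import Cfsg.Agent.Lib.H64.J2P
import Cfsg.Agent.Lib.H40.AutAlt

set_option autoImplicit false

/-! Groups of Hall-Janko type: the centralizer of the non-central involution, IV. -/

namespace H64.J2

variable {G : Type*} [Group G] [Finite G] {z t y : G} (D : GD z t y)

theorem GD.centerK {k : D.K} (hk : ∀ k' : D.K, k * k' = k' * k) : k = 1 := by
  have h1 : ((k : Subgroup.centralizer ({t} : Set G)) : G) ∈ D.Y := D.centK
    (congrArg (fun k : D.K => ((k : Subgroup.centralizer ({t} : Set G)) : G)) (hk ⟨D.lift z D.zt, D.YK D.zY⟩))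
  obtain ⟨h, ht, h3, hz, hy⟩ := D.exists_rot
  have h2 : ((k : Subgroup.centralizer ({t} : Set G)) : G) * h = h * ((k : Subgroup.centralizer ({t} : Set G)) : G) :=
    congrArg (fun k : D.K => ((k : Subgroup.centralizer ({t} : Set G)) : G)) (hk ⟨D.lift h ht, D.rotK ht h3⟩)
  have h4 : h * ((k : Subgroup.centralizer ({t} : Set G)) : G) * h⁻¹ = ((k : Subgroup.centralizer ({t} : Set G)) : G) := by
    rw [← h2]; group
  rcases h1 with h5 | h5 | h5 | h5
  · exact Subtype.ext (Subtype.ext h5)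
  · exfalso
    rw [h5, hz] at h4
    exact D.yz h4
  · exfalso
    rw [h5, hy] at h4
    exact D.z1 (mul_eq_right.1 h4)
  · exfalso
    rw [h5] at h4
    have e : h * (z * y) * h⁻¹ = z := by
      calc h * (z * y) * h⁻¹ = (h * z * h⁻¹) * (h * y * h⁻¹) := by group
        _ = z := by rw [hz, hy, D.zy, ← mul_assoc, D.yy, one_mul]
    rw [e] at h4
    exact D.y1 (mul_eq_left.1 h4.symm)

/-- the complement -/
def GD.E (D : GD z t y) : Subgroup G := D.A ⊓ Subgroup.centralizer ((D.K.map (Subgroup.centralizer ({t} : Set G)).subtype : Subgroup G) : Set G)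

omit [Finite G] in
theorem GD.memE {g : G} : g ∈ D.E ↔ g ∈ D.A ∧ ∀ k : D.K, g * (k : G) = (k : G) * g := by
  rw [GD.E, Subgroup.mem_inf, Subgroup.mem_centralizer_iff]
  constructor
  · rintro ⟨h1, h2⟩
    exact ⟨h1, fun k => (h2 _ ⟨k, k.2, rfl⟩).symm⟩
  · rintro ⟨h1, h2⟩
    refine ⟨h1, ?_⟩
    rintro _ ⟨k, hk, rfl⟩
    exact (h2 ⟨k, hk⟩).symm

theorem GD.EY {g : G} (h1 : g ∈ D.E) (h2 : g ∈ D.Y) : g = 1 := by
  have h3 := (D.memE.1 h1).2
  have h4 : (⟨D.lift g (D.commY h2).2, D.YK h2⟩ : D.K) = 1 := by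
    apply D.centerK
    intro k
    exact Subtype.ext (Subtype.ext (h3 k))
  exact congrArg (fun k : D.K => ((k : Subgroup.centralizer ({t} : Set G)) : G)) h4

/-- `K ∩ E = 1` -/
theorem GD.EK {k : D.K} (h1 : (k : G) ∈ D.E) : k = 1 := by
  apply D.centerK
  intro k'
  exact Subtype.ext (Subtype.ext ((D.memE.1 h1).2 k'))

omit [Finite G] in
theorem GD.tE : t ∈ D.E := D.memE.2 ⟨D.tA, fun k => (Subgroup.mem_centralizer_singleton_iff.1 (k : Subgroup.centralizer ({t} : Set G)).2).symm⟩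

section
variable (e : D.K ≃* alternatingGroup (Fin 5))
include e

/-- elements of `A` induce inner automorphisms of `K` coming from `Y` -/
theorem GD.inner {a : G} (ha : a ∈ D.A) : ∃ s ∈ D.Y, a * s ∈ D.E := by
  have hat := (D.memA.1 ha).2
  let a' : Subgroup.centralizer ({t} : Set G) := D.lift a hat
  let φ : MulAut D.K := MulAut.conjNormal a'
  have hφ : ∀ k : D.K, ((φ k : D.K) : G) = a * (k : G) * a⁻¹ := fun k => rfl
  let ψ : MulAut (alternatingGroup (Fin 5)) := (e.symm.trans φ).trans e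
  obtain ⟨σ, hσ⟩ := H40.AutAlt.surjective_conjNormal (α := Fin 5) (by rw [Fintype.card_fin]; norm_num)
    (by rw [Fintype.card_fin]; norm_num) ψ
  have key : ∀ k : D.K, σ * (e k : Equiv.Perm (Fin 5)) * σ⁻¹ = (e (φ k) : Equiv.Perm (Fin 5)) := by
    intro k
    have h1 : ((MulAut.conjNormal σ (e k) : alternatingGroup (Fin 5)) : Equiv.Perm (Fin 5)) =
        σ * (e k : Equiv.Perm (Fin 5)) * σ⁻¹ := MulAut.conjNormal_apply _ _
    rw [← h1, hσ]
    change ((e (φ (e.symm (e k))) : alternatingGroup (Fin 5)) : Equiv.Perm (Fin 5)) = _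
    rw [e.symm_apply_apply]
  have hfix : ∀ w ∈ D.Y, ∀ hw : w ∈ D.Y, φ ⟨D.lift w (D.commY hw).2, D.YK hw⟩ = ⟨D.lift w (D.commY hw).2, D.YK hw⟩ := by
    intro w _ hw
    apply Subtype.ext
    apply Subtype.ext
    rw [hφ]
    change a * w * a⁻¹ = w
    rw [D.abA ha (D.YA hw)]; group
  let kz : D.K := ⟨D.lift z (D.commY D.zY).2, D.YK D.zY⟩
  let ky : D.K := ⟨D.lift y (D.commY D.yY).2, D.YK D.yY⟩
  have hz := key kz
  have hy := key ky
  rw [hfix z D.zY D.zY] at hz
  rw [hfix y D.yY D.yY] at hy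
  have hval : ∀ k k' : D.K, (e k : Equiv.Perm (Fin 5)) = e k' → k = k' := fun k k' h => e.injective (Subtype.ext h)
  have hvz : (e kz : Equiv.Perm (Fin 5)) * e kz = 1 := by
    have h1 : kz * kz = 1 := Subtype.ext (Subtype.ext D.zz)
    have h2 : e kz * e kz = 1 := by rw [← map_mul, h1, map_one]
    exact congrArg Subtype.val h2
  have hvy : (e ky : Equiv.Perm (Fin 5)) * e ky = 1 := by
    have h1 : ky * ky = 1 := Subtype.ext (Subtype.ext D.yy)
    have h2 : e ky * e ky = 1 := by rw [← map_mul, h1, map_one]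
    exact congrArg Subtype.val h2
  have hzy : (e kz : Equiv.Perm (Fin 5)) * e ky = e ky * e kz := by
    have h1 : kz * ky = ky * kz := Subtype.ext (Subtype.ext D.zy)
    have h2 : e kz * e ky = e ky * e kz := by rw [← map_mul, h1, map_mul]
    exact congrArg Subtype.val h2
  have hz1 : (e kz : Equiv.Perm (Fin 5)) ≠ 1 := by
    intro h
    have h1 := hval kz 1 (by rw [map_one]; exact h)
    exact D.z1 (congrArg (fun k : D.K => (k : G)) h1)
  have hy1 : (e ky : Equiv.Perm (Fin 5)) ≠ 1 := by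
    intro h
    have h1 := hval ky 1 (by rw [map_one]; exact h)
    exact D.y1 (congrArg (fun k : D.K => (k : G)) h1)
  have hyz : (e ky : Equiv.Perm (Fin 5)) ≠ e kz := by
    intro h
    have h1 := hval ky kz h
    exact D.yz (congrArg (fun k : D.K => (k : G)) h1)
  have hs := cent_klein (e kz) (e ky) ⟨⟨(Equiv.Perm.mem_alternatingGroup.1 (e kz).2), hvz, hz1⟩,
    (Equiv.Perm.mem_alternatingGroup.1 (e ky).2), hvy, hy1, hyz, hzy⟩ σ
    ⟨mul_inv_eq_iff_eq_mul.1 hz, mul_inv_eq_iff_eq_mul.1 hy⟩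
  -- find `s`
  have hfin : ∀ k : D.K, (k : G) ∈ D.Y → σ = (e k : Equiv.Perm (Fin 5)) → ∃ s ∈ D.Y, a * s ∈ D.E := by
    intro s hsY hσs
    refine ⟨s, hsY, D.memE.2 ⟨D.A.mul_mem ha (D.YA hsY), ?_⟩⟩
    intro k
    have h1 := key k
    rw [hσs] at h1
    have h2 : e (s * k * s⁻¹) = e (φ k) := by
      rw [map_mul, map_mul, map_inv]
      exact Subtype.ext h1
    have h3 := e.injective h2
    have h4 : (s : G) * k * (s : G)⁻¹ = a * k * a⁻¹ := by
      have := congrArg (fun k : D.K => (k : G)) h3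
      rw [hφ] at this
      exact this
    have h5 : (s : G) * s = 1 := D.sqY hsY
    have h6 : (s : G)⁻¹ = s := inv_eq_of_mul_eq_one_right h5
    have h7 := D.abA ha (D.YA hsY)
    have h8 : a⁻¹ = a := inv_eq_of_mul_eq_one_right (D.el ha)
    rw [h6, h8] at h4
    have e9 : (s : G) * k * s * s = s * k := by rw [mul_assoc ((s : G) * k), h5, mul_one]
    calc a * s * k = a * (s * k) := mul_assoc _ _ _
      _ = a * (s * k * s * s) := by rw [e9]
      _ = a * (a * k * a) * s := by rw [h4]; group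
      _ = (a * a) * k * (a * s) := by group
      _ = k * (a * s) := by rw [D.el ha, one_mul]
  rcases hs with h | h | h | h
  · exact hfin 1 D.Y.one_mem (by rw [map_one]; exact h)
  · exact hfin kz D.zY h
  · exact hfin ky D.yY h
  · refine hfin (kz * ky) (D.Y.mul_mem D.zY D.yY) ?_
    rw [map_mul]
    exact h

theorem GD.cE : Nat.card D.E = 4 := by
  let F : D.Y × D.E → D.A := fun p => ⟨p.1 * p.2, D.A.mul_mem (D.YA p.1.2) (D.memE.1 p.2.2).1⟩
  have hF : Function.Bijective F := by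
    constructor
    · rintro ⟨w, g⟩ ⟨w', g'⟩ h
      have h1 : (w : G) * g = w' * g' := congrArg Subtype.val h
      have h2 : (w' : G)⁻¹ * w = g' * (g : G)⁻¹ := by
        calc (w' : G)⁻¹ * w = (w' : G)⁻¹ * (w * g) * (g : G)⁻¹ := by group
          _ = g' * (g : G)⁻¹ := by rw [h1]; group
      have h3 : (w' : G)⁻¹ * w = 1 := D.EY (by rw [h2]; exact D.E.mul_mem g'.2 (D.E.inv_mem g.2))
        (D.Y.mul_mem (D.Y.inv_mem w'.2) w.2)
      have h4 : (w : G) = w' := (inv_mul_eq_one.1 h3).symm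
      rw [h4] at h1
      exact Prod.ext (Subtype.ext h4) (Subtype.ext (mul_left_cancel h1))
    · rintro ⟨a, ha⟩
      obtain ⟨s, hs, hE⟩ := D.inner e ha
      refine ⟨(⟨s, hs⟩, ⟨a * s, hE⟩), Subtype.ext ?_⟩
      change s * (a * s) = a
      rw [D.abA ha (D.YA hs), ← mul_assoc, D.sqY hs, one_mul]
  have h1 := Nat.card_congr (Equiv.ofBijective F hF)
  rw [Nat.card_prod, D.cardY, D.cA] at h1
  omega

omit [Finite G] in
theorem GD.cK : Nat.card D.K = 60 := by
  rw [Nat.card_congr e.toEquiv, Nat.card_eq_fintype_card]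
  have := two_mul_card_alternatingGroup (α := Fin 5)
  rw [Fintype.card_perm, Fintype.card_fin] at this
  have h5 : Nat.factorial 5 = 120 := rfl
  omega

theorem GD.card240 : Nat.card (Subgroup.centralizer ({t} : Set G)) = 240 := by
  have h1 := D.K.card_mul_index
  rw [D.cK e, D.K_index] at h1
  exact h1.symm

theorem GD.decomp {x : G} (hx : x * t = t * x) : ∃ g ∈ D.E, ∃ k : D.K, x = g * k := by
  let F : D.E × D.K → Subgroup.centralizer ({t} : Set G) := fun p => D.lift (p.1 * (p.2 : G)) (by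
    have h1 := (D.memA.1 (D.memE.1 p.1.2).1).2
    have h2 := Subgroup.mem_centralizer_singleton_iff.1 (p.2 : Subgroup.centralizer ({t} : Set G)).2
    rw [mul_assoc, h2, ← mul_assoc, h1, mul_assoc])
  have hinj : Function.Injective F := by
    rintro ⟨g, k⟩ ⟨g', k'⟩ h
    have h1 : (g : G) * (k : G) = g' * (k' : G) := congrArg Subtype.val h
    have h2 : ((k * k'⁻¹ : D.K) : G) = (g : G)⁻¹ * g' := by
      change (k : G) * (k' : G)⁻¹ = _
      calc (k : G) * (k' : G)⁻¹ = (g : G)⁻¹ * (g * k) * (k' : G)⁻¹ := by group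
        _ = (g : G)⁻¹ * g' := by rw [h1]; group
    have h3 : k * k'⁻¹ = 1 := D.EK (by rw [h2]; exact D.E.mul_mem (D.E.inv_mem g.2) g'.2)
    have h4 : k = k' := mul_inv_eq_one.1 h3
    subst h4
    exact Prod.ext (Subtype.ext (mul_right_cancel h1)) rfl
  have hbij := hinj.bijective_of_nat_card_le (by rw [Nat.card_prod, D.cE e, D.cK e, D.card240 e])
  obtain ⟨⟨g, k⟩, h⟩ := hbij.2 (D.lift x hx)
  exact ⟨g, g.2, k, (congrArg Subtype.val h).symm⟩

theorem GD.n2 : Nat.card {p : G × G // IsConj z p.1 ∧ IsConj t p.2 ∧ t ∈ Subgroup.zpowers (p.1 * p.2)} = 195 := by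
  have tinv : t⁻¹ = t := inv_eq_of_mul_eq_one_right D.tt
  have hsqz : ∀ v : G, IsConj z v → v * v = 1 := by
    intro v hv
    obtain ⟨k, hk⟩ := isConj_iff.1 hv
    rw [← hk]
    calc k * z * k⁻¹ * (k * z * k⁻¹) = k * (z * z) * k⁻¹ := by group
      _ = 1 := by rw [D.zz]; group
  have hnez : ∀ v : G, IsConj z v → v ≠ 1 := by
    rintro v hv rfl
    obtain ⟨k, hk⟩ := isConj_iff.1 hv
    exact D.z1 (conj_eq_one_iff.1 hk)
  have hsqt : ∀ v : G, IsConj t v → v * v = 1 := by
    intro v hv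
    obtain ⟨k, hk⟩ := isConj_iff.1 hv
    rw [← hk]
    calc k * t * k⁻¹ * (k * t * k⁻¹) = k * (t * t) * k⁻¹ := by group
      _ = 1 := by rw [D.tt]; group
  have ht15 : t ^ 15 = t := by
    rw [show (15 : ℕ) = 2 * 7 + 1 by norm_num, pow_succ, pow_mul, pow_two, D.tt, one_pow, one_mul]
  have hKt : ∀ k : D.K, (k : G) * t = t * k := fun k =>
    Subgroup.mem_centralizer_singleton_iff.1 (k : Subgroup.centralizer ({t} : Set G)).2
  -- odd powers
  have hodd : ∀ k : D.K, ∀ j : ℕ, k ^ (2 * j + 1) = 1 → k ^ 15 = 1 := by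
    intro k j hj
    rcases odd_pow (e k) (Equiv.Perm.mem_alternatingGroup.1 (e k).2) with h | h
    · apply e.injective
      rw [map_pow, map_one]
      exact Subtype.ext h
    · have h1 : k * k = 1 := by
        apply e.injective
        rw [map_mul, map_one]
        exact Subtype.ext h
      have h2 : k = 1 := by
        rw [pow_succ, pow_mul, pow_two, h1, one_pow, one_mul] at hj
        exact hj
      rw [h2, one_pow]
  have key : ∀ u v : G, IsConj z u → IsConj t v → t ∈ Subgroup.zpowers (u * v) →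
      ∃ k k' : D.K, u = k ∧ v = t * k' ∧ (k * k = 1 ∧ k ≠ 1) ∧ (k' * k' = 1 ∧ k' ≠ 1) ∧ (k * k') ^ 15 = 1 := by
    intro u v hu hv ht
    have h1 := conj_zpowers_inv (hsqz u hu) (hsqt v hv) ht
    rw [tinv] at h1
    have hut := mul_inv_eq_iff_eq_mul.1 h1.1
    have hvt := mul_inv_eq_iff_eq_mul.1 h1.2
    obtain ⟨g, hg1, hg2⟩ := D.pair u t hu (IsConj.refl t) hut
    have hg3 : g * t = t * g := mul_inv_eq_iff_eq_mul.1 hg2
    have huK : D.lift u hut ∈ D.K := by
      have h2 := D.K_normal.conj_mem _ (D.YK (x := D.lift z D.zt) D.zY) (D.lift g hg3)⁻¹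
      have e1 : (D.lift g hg3)⁻¹ * D.lift z D.zt * (D.lift g hg3)⁻¹⁻¹ = D.lift u hut := by
        apply Subtype.ext
        calc g⁻¹ * z * g⁻¹⁻¹ = g⁻¹ * (g * u * g⁻¹) * g⁻¹⁻¹ := by rw [hg1]
          _ = u := by group
      rwa [e1] at h2
    let k : D.K := ⟨D.lift u hut, huK⟩
    obtain ⟨e2, he2, k2, hk2⟩ := D.decomp e hvt
    obtain ⟨j, hj⟩ : ∃ j : ℕ, (u * v) ^ j = t := by
      obtain ⟨j, hj⟩ := (isOfFinOrder_of_finite (u * v)).mem_powers_iff_mem_zpowers.2 ht
      exact ⟨j, hj⟩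
    have he2' := D.memE.1 he2
    have huv : u * v = e2 * (k * k2 : D.K) := by
      change u * v = e2 * ((k : G) * k2)
      rw [hk2]
      calc u * (e2 * k2) = (u * e2) * k2 := by group
        _ = e2 * (u * k2) := by rw [show u * e2 = e2 * u from (he2'.2 k).symm]; group
    have hcom : Commute e2 ((k * k2 : D.K) : G) := he2'.2 _
    rw [huv, hcom.mul_pow] at hj
    have hpw : (((k * k2) ^ j : D.K) : G) = ((k * k2 : D.K) : G) ^ j := rfl
    rw [← hpw] at hj
    have hkj : ((k * k2) ^ j : D.K) = 1 := by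
      apply D.EK
      have e3 : (((k * k2) ^ j : D.K) : G) = (e2 ^ j)⁻¹ * t := eq_inv_mul_of_mul_eq hj
      rw [e3]
      exact D.E.mul_mem (D.E.inv_mem (D.E.pow_mem he2 j)) D.tE
    rw [hkj] at hj
    have hj' : e2 ^ j = t := by
      rw [← hj]
      change e2 ^ j = e2 ^ j * 1
      rw [mul_one]
    have he22 := D.el he2'.1
    rcases Nat.even_or_odd' j with ⟨m, hm | hm⟩
    · exfalso
      rw [hm, pow_mul, pow_two, he22, one_pow] at hj'
      exact D.t1 hj'.symm
    · rw [hm] at hkj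
      rw [hm, pow_succ, pow_mul, pow_two, he22, one_pow, one_mul] at hj'
      have hkk : k * k = 1 := Subtype.ext (Subtype.ext (hsqz u hu))
      have hk1 : k ≠ 1 := fun h => hnez u hu (congrArg (fun k : D.K => (k : G)) h)
      have hk2k2 : k2 * k2 = 1 := by
        apply Subtype.ext
        apply Subtype.ext
        change (k2 : G) * k2 = 1
        have h5 := hsqt v hv
        rw [hk2, hj'] at h5
        calc (k2 : G) * k2 = (t * t) * (k2 * k2) := by rw [D.tt, one_mul]
          _ = t * (t * k2) * k2 := by group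
          _ = t * (k2 * t) * k2 := by rw [hKt k2]
          _ = t * k2 * (t * k2) := by group
          _ = 1 := h5
      refine ⟨k, k2, rfl, by rw [hk2, hj'], ⟨hkk, hk1⟩, ⟨hk2k2, ?_⟩, hodd _ m hkj⟩
      rintro rfl
      rw [mul_one, pow_succ, pow_mul, pow_two, hkk, one_pow, one_mul] at hkj
      exact hk1 hkj
  have keyinv : ∀ k k' : D.K, (k * k = 1 ∧ k ≠ 1) → (k' * k' = 1 ∧ k' ≠ 1) → (k * k') ^ 15 = 1 →
      IsConj z (k : G) ∧ IsConj t (t * (k' : G)) ∧ t ∈ Subgroup.zpowers ((k : G) * (t * k')) := by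
    intro k k' hk hk' h15
    refine ⟨?_, ?_, ?_⟩
    · obtain ⟨g, hg⟩ := D.invK hk.1 hk.2
      exact (isConj_iff.2 ⟨(g : G), hg⟩ : IsConj (k : G) z).symm
    · have hsq : t * (k' : G) * (t * k') = 1 := by
        calc t * (k' : G) * (t * k') = t * (k' * t) * k' := by group
          _ = (t * t) * (k' * k') := by rw [hKt k']; group
          _ = 1 := by rw [D.tt, one_mul]; exact congrArg (fun k : D.K => (k : G)) hk'.1
      have hne : t * (k' : G) ≠ 1 := by
        intro h
        have h5 : t ∈ D.Y := by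
          have h6 : D.lift t rfl ∈ D.K := by
            have h7 : D.lift t rfl = ((k'⁻¹ : D.K) : Subgroup.centralizer ({t} : Set G)) := by
              apply Subtype.ext
              change t = (k' : G)⁻¹
              exact eq_inv_of_mul_eq_one_left h
            rw [h7]
            exact (k'⁻¹).2
          exact D.AK (x := D.lift t rfl) D.tA h6
        exact D.tY h5
      rcases D.cls _ hsq hne with h6 | h6
      · exfalso
        have htk : t * (k' : G) * t = t * (t * k') := by rw [mul_assoc, hKt k']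
        obtain ⟨g, hg1, hg2⟩ := D.pair _ t h6 (IsConj.refl t) htk
        have hg3 : g * t = t * g := mul_inv_eq_iff_eq_mul.1 hg2
        have h2 := D.K_normal.conj_mem _ (D.YK (x := D.lift z D.zt) D.zY) (D.lift g hg3)⁻¹
        have e1 : (D.lift g hg3)⁻¹ * D.lift z D.zt * (D.lift g hg3)⁻¹⁻¹ = D.lift (t * k') htk := by
          apply Subtype.ext
          calc g⁻¹ * z * g⁻¹⁻¹ = g⁻¹ * (g * (t * k') * g⁻¹) * g⁻¹⁻¹ := by rw [hg1]
            _ = t * k' := by group
        rw [e1] at h2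
        have h8 := D.K.mul_mem h2 (D.K.inv_mem k'.2)
        have e2 : D.lift (t * k') htk * ((k' : D.K) : Subgroup.centralizer ({t} : Set G))⁻¹ = D.lift t rfl := by
          apply Subtype.ext
          change t * (k' : G) * (k' : G)⁻¹ = t
          group
        rw [e2] at h8
        exact D.tY (D.AK (x := D.lift t rfl) D.tA h8)
      · exact h6
    · refine Subgroup.mem_zpowers_iff.2 ⟨15, ?_⟩
      have e3 : (k : G) * (t * k') = t * ((k * k' : D.K) : G) := by
        change (k : G) * (t * k') = t * ((k : G) * k')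
        rw [← mul_assoc, hKt k, mul_assoc]
      have hcom : Commute t ((k * k' : D.K) : G) := (hKt _).symm
      have h16 : ((k * k' : D.K) : G) ^ 15 = 1 := congrArg (fun k : D.K => (k : G)) h15
      rw [e3, show (15 : ℤ) = ((15 : ℕ) : ℤ) from rfl, zpow_natCast, hcom.mul_pow, ht15, h16, mul_one]
  -- the equivalence
  have step : Nat.card {p : G × G // IsConj z p.1 ∧ IsConj t p.2 ∧ t ∈ Subgroup.zpowers (p.1 * p.2)} =
      Nat.card {q : D.K × D.K // (q.1 * q.1 = 1 ∧ q.1 ≠ 1) ∧ (q.2 * q.2 = 1 ∧ q.2 ≠ 1) ∧ (q.1 * q.2) ^ 15 = 1} := by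
    symm
    refine Nat.card_congr (Equiv.ofBijective (fun q => ⟨((q.1.1 : G), t * (q.1.2 : G)),
      keyinv q.1.1 q.1.2 q.2.1 q.2.2.1 q.2.2.2⟩) ⟨?_, ?_⟩)
    · rintro ⟨⟨k, k'⟩, h⟩ ⟨⟨l, l'⟩, h'⟩ heq
      have h1 : ((k : G), t * (k' : G)) = ((l : G), t * (l' : G)) := congrArg Subtype.val heq
      rw [Prod.mk.injEq] at h1
      apply Subtype.ext
      exact Prod.ext (Subtype.ext (Subtype.ext h1.1)) (Subtype.ext (Subtype.ext (mul_left_cancel h1.2)))
    · rintro ⟨⟨u, v⟩, h⟩
      obtain ⟨k, k', hk, hk', h1, h2, h3⟩ := key u v h.1 h.2.1 h.2.2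
      refine ⟨⟨(k, k'), h1, h2, h3⟩, Subtype.ext ?_⟩
      change ((k : G), t * (k' : G)) = (u, v)
      rw [hk, hk']
  rw [step]
  -- pass to permutations
  let I := {σ : Equiv.Perm (Fin 5) // Equiv.Perm.sign σ = 1 ∧ σ * σ = 1 ∧ σ ≠ 1}
  have step2 : Nat.card {q : D.K × D.K // (q.1 * q.1 = 1 ∧ q.1 ≠ 1) ∧ (q.2 * q.2 = 1 ∧ q.2 ≠ 1) ∧ (q.1 * q.2) ^ 15 = 1} =
      Nat.card (Σ v : I, {w : Equiv.Perm (Fin 5) // Equiv.Perm.sign w = 1 ∧ w * w = 1 ∧ w ≠ 1 ∧
        (w = v.1 ∨ w * v.1 ≠ v.1 * w)}) := by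
    have hval : ∀ k : D.K, (e k : Equiv.Perm (Fin 5)) = 1 ↔ k = 1 := fun k =>
      ⟨fun h => e.injective (by rw [map_one]; exact Subtype.ext h), fun h => by rw [h, map_one]; rfl⟩
    have hinv : ∀ k : D.K, (k * k = 1 ∧ k ≠ 1) ↔ ((e k : Equiv.Perm (Fin 5)) * e k = 1 ∧ (e k : Equiv.Perm (Fin 5)) ≠ 1) := by
      intro k
      rw [Ne, Ne, hval k, ← hval (k * k), map_mul]
      exact Iff.rfl
    have h15 : ∀ k l : D.K, (k * k = 1 ∧ k ≠ 1) → (l * l = 1 ∧ l ≠ 1) → ((k * l) ^ 15 = 1 ↔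
        ((e l : Equiv.Perm (Fin 5)) = e k ∨ (e l : Equiv.Perm (Fin 5)) * e k ≠ e k * e l)) := by
      intro k l hk hl
      constructor
      · intro h
        by_cases hc : (e l : Equiv.Perm (Fin 5)) * e k = e k * e l
        · left
          have h1 : l * k = k * l := by
            apply e.injective
            rw [map_mul, map_mul]
            exact Subtype.ext hc
          have h2 : (k * l) * (k * l) = 1 := by
            calc (k * l) * (k * l) = k * (l * k) * l := by group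
              _ = (k * k) * (l * l) := by rw [h1]; group
              _ = 1 := by rw [hk.1, hl.1, one_mul]
          have h3 : k * l = 1 := by
            rw [show (15 : ℕ) = 2 * 7 + 1 by norm_num, pow_succ, pow_mul, pow_two, h2, one_pow, one_mul] at h
            exact h
          have h4 : l = k := by
            calc l = (k * k) * l := by rw [hk.1, one_mul]
              _ = k * (k * l) := by group
              _ = k := by rw [h3, mul_one]
          rw [h4]
        · exact Or.inr hc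
      · intro h
        rcases h with h | h
        · have h1 : l = k := e.injective (Subtype.ext h)
          rw [h1, hk.1, one_pow]
        · rcases odd_pow (e (k * l)) (Equiv.Perm.mem_alternatingGroup.1 (e (k * l)).2) with h1 | h1
          · apply e.injective
            rw [map_pow, map_one]
            exact Subtype.ext h1
          · exfalso
            apply h
            have h2 : (k * l) * (k * l) = 1 := by
              apply e.injective
              rw [map_mul, map_one]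
              exact Subtype.ext h1
            have h3 : l * k = k * l := by
              calc l * k = (k * k) * (l * k) * (l * l) := by rw [hk.1, hl.1, one_mul, mul_one]
                _ = k * ((k * l) * (k * l)) * l := by group
                _ = k * l := by rw [h2, mul_one]
            have h4 : e l * e k = e k * e l := by rw [← map_mul, ← map_mul, h3]
            exact congrArg Subtype.val h4
    refine Nat.card_congr (Equiv.ofBijective (fun q => ⟨⟨e q.1.1, Equiv.Perm.mem_alternatingGroup.1 (e q.1.1).2, (hinv _).1 q.2.1⟩,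
        ⟨e q.1.2, Equiv.Perm.mem_alternatingGroup.1 (e q.1.2).2, ((hinv _).1 q.2.2.1).1, ((hinv _).1 q.2.2.1).2,
          (h15 _ _ q.2.1 q.2.2.1).1 q.2.2.2⟩⟩) ⟨?_, ?_⟩)
    · rintro ⟨⟨k, l⟩, h⟩ ⟨⟨k', l'⟩, h'⟩ heq
      have e1 := congrArg (fun s : (Σ v : I, {w : Equiv.Perm (Fin 5) // Equiv.Perm.sign w = 1 ∧ w * w = 1 ∧ w ≠ 1 ∧
        (w = v.1 ∨ w * v.1 ≠ v.1 * w)}) => s.1.1) heq
      have e2 := congrArg (fun s : (Σ v : I, {w : Equiv.Perm (Fin 5) // Equiv.Perm.sign w = 1 ∧ w * w = 1 ∧ w ≠ 1 ∧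
        (w = v.1 ∨ w * v.1 ≠ v.1 * w)}) => s.2.1) heq
      apply Subtype.ext
      exact Prod.ext (e.injective (Subtype.ext e1)) (e.injective (Subtype.ext e2))
    · rintro ⟨⟨v, hv⟩, ⟨w, hw⟩⟩
      obtain ⟨k, hk⟩ := e.surjective ⟨v, Equiv.Perm.mem_alternatingGroup.2 hv.1⟩
      obtain ⟨l, hl⟩ := e.surjective ⟨w, Equiv.Perm.mem_alternatingGroup.2 hw.1⟩
      have hk' : (e k : Equiv.Perm (Fin 5)) = v := congrArg Subtype.val hk
      have hl' : (e l : Equiv.Perm (Fin 5)) = w := congrArg Subtype.val hl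
      subst hk'
      subst hl'
      have c1 := (hinv k).2 hv.2
      have c2 := (hinv l).2 ⟨hw.2.1, hw.2.2.1⟩
      exact ⟨⟨(k, l), c1, c2, (h15 _ _ c1 c2).2 hw.2.2.2⟩, rfl⟩
  rw [step2, Nat.card_sigma]
  have hfib : ∀ v : I, Nat.card {w : Equiv.Perm (Fin 5) // Equiv.Perm.sign w = 1 ∧ w * w = 1 ∧ w ≠ 1 ∧
        (w = v.1 ∨ w * v.1 ≠ v.1 * w)} = 13 := by
    intro v
    rw [Nat.card_eq_fintype_card, Fintype.card_subtype]
    exact card_13 v.1 v.2.1 v.2.2.1 v.2.2.2
  have hI : Nat.card I = 15 := by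
    rw [Nat.card_eq_fintype_card, Fintype.card_subtype]
    exact card_inv15
  rw [Finset.sum_congr rfl (fun v _ => hfib v), Finset.sum_const, Finset.card_univ, ← Nat.card_eq_fintype_card, hI]
  rfl

theorem GD.card_G : Nat.card G = 604800 := by
  have h1 := D.order
  rw [D.card240 e, D.n2 e] at h1
  exact h1

end

end H64.J2
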