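import Cfsg.Agent.Lib.H64.J2M
import Cfsg.Agent.Lib.H26.Components
import Cfsg.Agent.Lib.H3.PBasic
import Cfsg.Agent.S0824

set_option autoImplicit false

/-! Groups of Hall-Janko type: the order. -/

namespace H64.J2

open Cfsg
open scoped commutatorElement

theorem card_omega : Nat.card (Cfsg.Omega (ZMod 2) (Cfsg.quadFormMinus 1 (ZMod 2) 1 1)) = 60 := by
  obtain ⟨f⟩ := Cfsg.Agent.S0824.result (F := ZMod 2) (ZMod.card 2)
  have h1 : (commutator (Cfsg.isometryGroup (ZMod 2) (Cfsg.quadFormMinus 1 (ZMod 2) 1 1))).map f.toMonoidHom =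
      commutator (Equiv.Perm (Fin 5)) := by
    rw [map_commutator_eq, MonoidHom.range_eq_top.2 f.surjective]
    rfl
  have h2 : Nat.card (commutator (Cfsg.isometryGroup (ZMod 2) (Cfsg.quadFormMinus 1 (ZMod 2) 1 1))) =
      Nat.card (commutator (Equiv.Perm (Fin 5))) := by
    rw [← h1, Subgroup.card_map_of_injective f.injective]
  rw [alternatingGroup.commutator_perm_eq (by rw [Nat.card_eq_fintype_card, Fintype.card_fin])] at h2
  refine h2.trans ?_
  rw [Nat.card_eq_fintype_card]
  have := two_mul_card_alternatingGroup (α := Fin 5)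
  rw [Fintype.card_perm, Fintype.card_fin] at this
  have h5 : Nat.factorial 5 = 120 := rfl
  omega

section
variable {G : Type*} [Group G] [Finite G] {z : G} {Q : Subgroup (Subgroup.centralizer ({z} : Set G))}

/-- the hypotheses of the statements give the data -/
theorem HJ.of_hyp (hz : orderOf z = 2) (hQn : Q.Normal)
    (hF : Cfsg.generalizedFittingSubgroup (Subgroup.centralizer ({z} : Set G)) = Q) (hQ : Cfsg.IsExtraspecial 2 Q)
    (hcard : Nat.card Q = 32) (hidx : Q.index = 60)
    (hnwc : ∃ g : G, (∃ hq : g * z * g⁻¹ ∈ Subgroup.centralizer ({z} : Set G),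
      (⟨g * z * g⁻¹, hq⟩ : Subgroup.centralizer ({z} : Set G)) ∈ Q) ∧ g * z * g⁻¹ ≠ z) : HJ z Q := by
  have hp : Fact (Nat.Prime 2) := ⟨Nat.prime_two⟩
  have zz : z * z = 1 := by rw [← pow_two, ← hz, pow_orderOf_eq_one]
  have z1 : z ≠ 1 := by
    rintro rfl
    rw [orderOf_one] at hz
    norm_num at hz
  have hself : ∀ c : Subgroup.centralizer ({z} : Set G), (∀ q ∈ Q, c * q = q * c) → c ∈ Q := by
    intro c hc
    have h1 := H26.Components.centralizer_gFitting_le (G := Subgroup.centralizer ({z} : Set G))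
    rw [hF] at h1
    apply h1
    rw [Subgroup.mem_centralizer_iff]
    intro q hq
    exact (hc q hq).symm
  have hzc : ∀ c : Subgroup.centralizer ({z} : Set G), c * zz' z = zz' z * c := fun c =>
    Subtype.ext (Subgroup.mem_centralizer_singleton_iff.1 c.2)
  have hzQ : zz' z ∈ Q := hself _ fun q _ => (hzc q).symm
  obtain ⟨⟨hpQ, hfr, hco⟩, hcc⟩ := hQ
  -- the centre of `Q`
  have hcen : ∀ a : Q, a ∈ Subgroup.center Q → (a : Subgroup.centralizer ({z} : Set G)) = 1 ∨
      (a : Subgroup.centralizer ({z} : Set G)) = zz' z := by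
    intro a ha
    by_contra hcon
    push Not at hcon
    have hzZ : (⟨zz' z, hzQ⟩ : Q) ∈ Subgroup.center Q := by
      rw [Subgroup.mem_center_iff]
      intro b
      exact Subtype.ext (hzc b)
    have h1 : ({1, ⟨zz' z, hzQ⟩, a} : Set Q) ⊆ (Subgroup.center Q : Set Q) := by
      rintro x (rfl | rfl | rfl)
      · exact Subgroup.one_mem _
      · exact hzZ
      · exact ha
    have h2 := Set.ncard_le_ncard h1 (Set.toFinite _)
    have h3 : ((Subgroup.center Q : Subgroup Q) : Set Q).ncard = 2 := by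
      rw [← card_eq_ncard]; exact hcc
    rw [h3, Set.ncard_eq_three.2 ⟨1, ⟨zz' z, hzQ⟩, a, ?_, ?_, ?_, rfl⟩] at h2
    · omega
    · intro h4
      have h5 : (1 : Subgroup.centralizer ({z} : Set G)) = zz' z := congrArg Subtype.val h4
      exact z1 (congrArg Subtype.val h5).symm
    · intro h4
      exact hcon.1 (congrArg Subtype.val h4).symm
    · intro h4
      exact hcon.2 (congrArg Subtype.val h4).symm
  refine ⟨?_, ?_⟩
  · refine
      { zc := hzc
        zz := Subtype.ext zz
        z1 := fun h => z1 (congrArg Subtype.val h)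
        zQ := hzQ
        Qn := hQn
        cardQ := hcard
        cardC := ?_
        comm := ?_
        sq := ?_
        cen := ?_
        self := hself
        inv := ?_ }
    · rw [← Q.card_mul_index, hcard, hidx]
    · intro a ha b hb
      have h1 : ⁅(⟨a, ha⟩ : Q), ⟨b, hb⟩⁆ ∈ Subgroup.center Q := by
        rw [← hco]
        exact Subgroup.commutator_mem_commutator (Subgroup.mem_top _) (Subgroup.mem_top _)
      rcases hcen _ h1 with h2 | h2
      · left
        have h3 : a * b * a⁻¹ * b⁻¹ = 1 := h2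
        have h4 : a * b * a⁻¹ = b := mul_inv_eq_one.1 h3
        exact mul_inv_eq_iff_eq_mul.1 h4
      · right
        have h3 : a * b * a⁻¹ * b⁻¹ = zz' z := h2
        calc a * b = a * b * a⁻¹ * b⁻¹ * (b * a) := by group
          _ = zz' z * (b * a) := by rw [h3]
    · intro a ha
      have h1 : (⟨a, ha⟩ : Q) ^ 2 ∈ frattini Q := H3.PBasic.pow_mem_frattini hpQ _
      rw [hfr] at h1
      rcases hcen _ h1 with h2 | h2
      · left
        have h3 : a ^ 2 = 1 := h2
        rw [← pow_two]; exact h3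
      · right
        have h3 : a ^ 2 = zz' z := h2
        rw [← pow_two]; exact h3
    · intro a ha hab
      refine hcen ⟨a, ha⟩ ?_
      rw [Subgroup.mem_center_iff]
      intro b
      exact Subtype.ext (hab b b.2).symm
    · obtain ⟨g, ⟨hq, hq2⟩, hne⟩ := hnwc
      refine ⟨_, hq2, Subtype.ext ?_, fun h => ?_, fun h => hne (congrArg Subtype.val h)⟩
      · change g * z * g⁻¹ * (g * z * g⁻¹) = 1
        calc g * z * g⁻¹ * (g * z * g⁻¹) = g * (z * z) * g⁻¹ := by group
          _ = 1 := by rw [zz]; group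
      · have h1 : g * z * g⁻¹ = 1 := congrArg Subtype.val h
        exact z1 (conj_eq_one_iff.1 h1)
  · obtain ⟨g, ⟨hq, hq2⟩, hne⟩ := hnwc
    exact ⟨_, hq2, fun h => hne (congrArg Subtype.val h), isConj_iff.2 ⟨g, rfl⟩⟩

/-- the global data together with the structure of the residual of `C(t)` -/
theorem HJ.exists_iso (H : HJ z Q) {t' : Subgroup.centralizer ({z} : Set G)} (htQ : t' ∉ Q) (htt : t' * t' = 1)
    (hn : ¬ IsConj z (t' : G)) : ∃ y : G, ∃ D : GD z (t' : G) y, Nonempty (D.K ≃* alternatingGroup (Fin 5)) := by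
  obtain ⟨y0, f0⟩ := H.exists_frame
  obtain ⟨y', f⟩ := f0.exists_tframe H.core htt htQ
  have D := H.gd f hn
  refine ⟨_, D, ?_⟩
  rcases D.K_cases with h | h
  · exfalso
    have hp : Fact (Nat.Prime 5) := ⟨by norm_num⟩
    obtain ⟨x, hx⟩ := exists_prime_orderOf_dvd_card' (G := Subgroup.centralizer ({z} : Set G)) 5
      (by rw [H.core.cardC]; norm_num)
    have hx' : orderOf (x : G) = 5 := (orderOf_injective (Subgroup.centralizer ({z} : Set G)).subtype
      (Subgroup.subtype_injective _) x).trans hx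
    refine D.case48 h hx' (Subgroup.mem_centralizer_singleton_iff.1 x.2) ?_ ?_
    · intro hxy
      have h1 : x * y' 4 * x⁻¹ = y' 4 := mul_inv_eq_iff_eq_mul.2 (Subtype.ext hxy)
      rcases H.core.fix5 hx (f.mem 4) (Or.inl h1) with h2 | h2
      · exact f.ne_one H.core 4 h2
      · exact f.ne_z H.core 4 h2
    · rw [← H.core.card_cent5 f.toFrame hx]
      refine Nat.card_congr ⟨fun w => ⟨⟨w.1, w.2.2⟩, ?_⟩, fun w => ⟨w.1.1, ?_, w.1.2⟩, fun w => rfl, fun w => rfl⟩
      · exact Subgroup.mem_centralizer_singleton_iff.2 (Subtype.ext (Subgroup.mem_centralizer_singleton_iff.1 w.2.1))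
      · exact Subgroup.mem_centralizer_singleton_iff.2
          (congrArg Subtype.val (Subgroup.mem_centralizer_singleton_iff.1 w.2))
  · exact h

theorem HJ.order (H : HJ z Q) (hcl : ∃ x y : G, orderOf x = 2 ∧ orderOf y = 2 ∧ ¬ IsConj x y) : Nat.card G = 604800 := by
  obtain ⟨t', htQ, htt, hn⟩ := H.exists_t hcl
  obtain ⟨y, D, ⟨e⟩⟩ := H.exists_iso htQ htt hn
  exact D.card_G e

end

end H64.J2
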