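import Cfsg.Agent.Lib.H15.MH0

/-!
# Piece X5 of S4221: the degree is eleven
-/

set_option autoImplicit false

namespace H64.MHX5

open H15.MH

universe u v

variable {G : Type u} {α : Type v} [Group G] [MulAction G α]

theorem card_eleven [Finite α] (h : Hyp3 G α)
    (hu : ∀ a b c d : α, D4 a b c d → ∀ s t : G, orderOf s = 2 → orderOf t = 2 → s • a = a → s • b = b →
      s • c = d → t • a = a → t • b = b → t • c = d → s = t)
    (hw : ∀ a b c d : α, D4 a b c d → ∀ s t : G, orderOf s = 2 → orderOf t = 2 → s • a = b → s • c = d →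
      t • a = b → t • c = d → s = t)
    (h4 : 4 < Nat.card α) : Nat.card α = 11 := by
  classical
  haveI : Fintype α := Fintype.ofFinite α
  rw [Nat.card_eq_fintype_card] at h4 ⊢
  obtain ⟨a, b, hab⟩ : ∃ a b : α, a ≠ b := Fintype.one_lt_card_iff.mp (by omega)
  have hinv : ∀ x : G, orderOf x = 2 → ∀ e : α, x • x • e = e := by
    intro x hx e
    rw [← mul_smul, ← pow_two, ← hx, pow_orderOf_eq_one, one_smul]
  -- the ordered pairs
  let P : Finset (α × α) := Finset.univ.filter
    (fun p => p.1 ≠ p.2 ∧ p.1 ≠ a ∧ p.1 ≠ b ∧ p.2 ≠ a ∧ p.2 ≠ b)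
  have hP : ∀ p : α × α, p ∈ P ↔ (p.1 ≠ p.2 ∧ p.1 ≠ a ∧ p.1 ≠ b ∧ p.2 ≠ a ∧ p.2 ≠ b) := by
    intro p; simp [P]
  -- first choice
  have ex1 : ∀ p : α × α, ∃ x : G, p ∈ P → (orderOf x = 2 ∧ x • a = b ∧ x • p.1 = p.1 ∧ x • p.2 = p.2) := by
    intro p
    by_cases hp : p ∈ P
    · obtain ⟨h1, h2, h3, h5, h6⟩ := (hP p).mp hp
      obtain ⟨u, hu1, hu2, hu3, hu4, hu5⟩ := exists_u h.toHyp (a := p.1) (b := p.2) (c := a) (d := b)
        ⟨h1, h2, h3, h5, h6, hab⟩
      exact ⟨u, fun _ => ⟨hu1, hu4, hu2, hu3⟩⟩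
    · exact ⟨1, fun h' => absurd h' hp⟩
  choose x1 hx1 using ex1
  have ex2 : ∀ p : α × α, ∃ x : G, p ∈ P → (orderOf x = 2 ∧ x • a = b ∧ x • p.1 = p.2) := by
    intro p
    by_cases hp : p ∈ P
    · obtain ⟨h1, h2, h3, h5, h6⟩ := (hP p).mp hp
      have hD : D4 a b p.1 p.2 := ⟨hab, h2.symm, h5.symm, h3.symm, h6.symm, h1⟩
      have hD' : D4 b a p.2 p.1 := ⟨hab.symm, h6.symm, h3.symm, h5.symm, h2.symm, h1.symm⟩
      obtain ⟨g, g1, g2, g3, g4⟩ := h.tr a b p.1 p.2 b a p.2 p.1 hD hD'
      obtain ⟨u, hu, hux⟩ := exists_pow h.toHyp hD g (by rw [g1, g2]) (by rw [g2, g1])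
        (by rw [g3, g4]) (by rw [g4, g3])
      have ha : u • a = b := by rw [hux a (by rw [g1, g2]), g1]
      refine ⟨u, fun _ => ⟨orderOf_eq_prime (by rw [pow_two]; exact hu) ?_, ha,
        by rw [hux p.1 (by rw [g3, g4]), g3]⟩⟩
      rintro rfl
      rw [one_smul] at ha
      exact hab ha
    · exact ⟨1, fun h' => absurd h' hp⟩
  choose x2 hx2 using ex2
  have hno : ∀ x : G, orderOf x = 2 → x • a = b → x • a ≠ a ∧ x • b ≠ b := by
    intro x hx hxa
    have hb : x • b = a := by rw [← hxa]; exact hinv x hx a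
    exact ⟨by rw [hxa]; exact hab.symm, by rw [hb]; exact hab⟩
  -- fibres of the first map
  have f1 : ∀ x : G, orderOf x = 2 → x • a = b → (P.filter (fun p => x1 p = x)).card = 6 := by
    intro x hx hxa
    obtain ⟨e1, e2, e3, h12, h13, h23, hfix⟩ := h.fx x hx
    obtain ⟨na, nb⟩ := hno x hx hxa
    have hq : ∀ e : α, x • e = e → e ≠ a ∧ e ≠ b := by
      intro e he
      refine ⟨?_, ?_⟩
      · rintro rfl; exact na he
      · rintro rfl; exact nb he
    have heq : P.filter (fun p => x1 p = x) = ({e1, e2, e3} : Finset α).offDiag := by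
      ext p
      rw [Finset.mem_filter, Finset.mem_offDiag]
      constructor
      · rintro ⟨hp, rfl⟩
        obtain ⟨_, _, k1, k2⟩ := hx1 p hp
        refine ⟨?_, ?_, ((hP p).mp hp).1⟩
        · simpa using (hfix p.1).mp k1
        · simpa using (hfix p.2).mp k2
      · rintro ⟨m1, m2, hne⟩
        have k1 : x • p.1 = p.1 := (hfix p.1).mpr (by simpa using m1)
        have k2 : x • p.2 = p.2 := (hfix p.2).mpr (by simpa using m2)
        obtain ⟨q1, q2⟩ := hq p.1 k1
        obtain ⟨q3, q4⟩ := hq p.2 k2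
        have hp : p ∈ P := (hP p).mpr ⟨hne, q1, q2, q3, q4⟩
        refine ⟨hp, ?_⟩
        obtain ⟨l1, l2, l3, l4⟩ := hx1 p hp
        exact hu p.1 p.2 a b ⟨hne, q1, q2, q3, q4, hab⟩ _ _ l1 hx l3 l4 l2 k1 k2 hxa
    rw [heq, Finset.offDiag_card]
    have hc : ({e1, e2, e3} : Finset α).card = 3 := Finset.card_eq_three.mpr ⟨e1, e2, e3, h12, h13, h23, rfl⟩
    rw [hc]
  -- fibres of the second map
  have f2 : ∀ x : G, orderOf x = 2 → x • a = b → (P.filter (fun p => x2 p = x)).card = Fintype.card α - 5 := by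
    intro x hx hxa
    obtain ⟨e1, e2, e3, h12, h13, h23, hfix⟩ := h.fx x hx
    obtain ⟨na, nb⟩ := hno x hx hxa
    have hb : x • b = a := by rw [← hxa]; exact hinv x hx a
    have hq : ∀ e : α, x • e = e → e ≠ a ∧ e ≠ b := by
      intro e he
      refine ⟨?_, ?_⟩
      · rintro rfl; exact na he
      · rintro rfl; exact nb he
    have heq : P.filter (fun p => x2 p = x)
        = (Finset.univ \ ({a, b, e1, e2, e3} : Finset α)).image (fun c => (c, x • c)) := by
      ext p
      rw [Finset.mem_filter, Finset.mem_image]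
      constructor
      · rintro ⟨hp, rfl⟩
        obtain ⟨h1, h2, h3, h5, h6⟩ := (hP p).mp hp
        obtain ⟨_, _, k1⟩ := hx2 p hp
        refine ⟨p.1, ?_, ?_⟩
        · rw [Finset.mem_sdiff]
          refine ⟨Finset.mem_univ _, ?_⟩
          intro hm
          simp only [Finset.mem_insert, Finset.mem_singleton] at hm
          have : p.1 = e1 ∨ p.1 = e2 ∨ p.1 = e3 := by
            rcases hm with hm | hm | hm
            · exact absurd hm h2
            · exact absurd hm h3
            · exact hm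
          have := (hfix p.1).mpr this
          rw [k1] at this
          exact h1 this.symm
        · exact Prod.ext rfl k1
      · rintro ⟨c, hc, rfl⟩
        rw [Finset.mem_sdiff] at hc
        have hm := hc.2
        simp only [Finset.mem_insert, Finset.mem_singleton, not_or] at hm
        obtain ⟨m1, m2, m3, m4, m5⟩ := hm
        have hne : x • c ≠ c := by
          intro he
          rcases (hfix c).mp he with he | he | he
          · exact m3 he
          · exact m4 he
          · exact m5 he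
        have r1 : x • c ≠ a := by
          intro he
          apply m2
          have := hinv x hx c
          rw [he, hxa] at this
          exact this.symm
        have r2 : x • c ≠ b := by
          intro he
          apply m1
          have := hinv x hx c
          rw [he, hb] at this
          exact this.symm
        have hp : ((c, x • c) : α × α) ∈ P := (hP _).mpr ⟨hne.symm, m1, m2, r1, r2⟩
        refine ⟨hp, ?_⟩
        obtain ⟨l1, l2, l3⟩ := hx2 _ hp
        exact hw a b c (x • c) ⟨hab, Ne.symm m1, r1.symm, Ne.symm m2, r2.symm, hne.symm⟩ _ _ l1 hx l2 l3 hxa rfl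
    rw [heq, Finset.card_image_of_injective _ (fun c c' hcc => (Prod.ext_iff.mp hcc).1),
      Finset.card_univ_sdiff]
    have hc : ({a, b, e1, e2, e3} : Finset α).card = 5 := by
      obtain ⟨q1, q2⟩ := hq e1 ((hfix e1).mpr (Or.inl rfl))
      obtain ⟨q3, q4⟩ := hq e2 ((hfix e2).mpr (Or.inr (Or.inl rfl)))
      obtain ⟨q5, q6⟩ := hq e3 ((hfix e3).mpr (Or.inr (Or.inr rfl)))
      rw [Finset.card_insert_of_notMem, Finset.card_insert_of_notMem,
        Finset.card_eq_three.mpr ⟨e1, e2, e3, h12, h13, h23, rfl⟩]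
      · simp only [Finset.mem_insert, Finset.mem_singleton, not_or]
        exact ⟨q2.symm, q4.symm, q6.symm⟩
      · simp only [Finset.mem_insert, Finset.mem_singleton, not_or]
        exact ⟨hab, q1.symm, q3.symm, q5.symm⟩
    rw [hc]
  -- the two images are equal
  have i1 : ∀ x : G, x ∈ P.image x1 ↔ (orderOf x = 2 ∧ x • a = b) := by
    intro x
    rw [Finset.mem_image]
    constructor
    · rintro ⟨p, hp, rfl⟩
      obtain ⟨l1, l2, -, -⟩ := hx1 p hp
      exact ⟨l1, l2⟩
    · rintro ⟨hx, hxa⟩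
      have := f1 x hx hxa
      have hne : (P.filter (fun p => x1 p = x)).Nonempty := by
        rw [← Finset.card_pos]; omega
      obtain ⟨p, hp⟩ := hne
      rw [Finset.mem_filter] at hp
      exact ⟨p, hp.1, hp.2⟩
  have i2' : ∀ x : G, x ∈ P.image x2 → (orderOf x = 2 ∧ x • a = b) := by
    intro x hx
    rw [Finset.mem_image] at hx
    obtain ⟨p, hp, rfl⟩ := hx
    obtain ⟨l1, l2, -⟩ := hx2 p hp
    exact ⟨l1, l2⟩
  obtain ⟨p0, hp0⟩ : ∃ p : α × α, p ∈ P := by
    obtain ⟨c, hc⟩ : ∃ c : α, c ∉ ({a, b} : Finset α) := by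
      by_contra hcon
      push Not at hcon
      have : (Finset.univ : Finset α).card ≤ ({a, b} : Finset α).card :=
        Finset.card_le_card (fun x _ => hcon x)
      have h2 : ({a, b} : Finset α).card ≤ 2 := Finset.card_le_two
      rw [Finset.card_univ] at this
      omega
    obtain ⟨d, hd⟩ : ∃ d : α, d ∉ ({a, b, c} : Finset α) := by
      by_contra hcon
      push Not at hcon
      have : (Finset.univ : Finset α).card ≤ ({a, b, c} : Finset α).card :=
        Finset.card_le_card (fun x _ => hcon x)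
      have h2 : ({a, b, c} : Finset α).card ≤ 3 := Finset.card_le_three
      rw [Finset.card_univ] at this
      omega
    simp only [Finset.mem_insert, Finset.mem_singleton, not_or] at hc hd
    exact ⟨(c, d), (hP _).mpr ⟨Ne.symm hd.2.2, hc.1, hc.2, hd.1, hd.2.1⟩⟩
  have c2' : P.card = (P.image x2).card * (Fintype.card α - 5) := by
    rw [Finset.card_eq_sum_card_image x2 P]
    rw [Finset.sum_const_nat (m := Fintype.card α - 5)]
    intro x hx
    obtain ⟨h1, h2⟩ := i2' x hx
    exact f2 x h1 h2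
  have hn5 : 0 < Fintype.card α - 5 := by
    rcases Nat.eq_zero_or_pos (Fintype.card α - 5) with h0 | h0
    · rw [h0, Nat.mul_zero, Finset.card_eq_zero] at c2'
      rw [c2'] at hp0
      exact absurd hp0 (Finset.notMem_empty _)
    · exact h0
  have i2 : ∀ x : G, x ∈ P.image x2 ↔ (orderOf x = 2 ∧ x • a = b) := by
    intro x
    refine ⟨i2' x, ?_⟩
    rintro ⟨hx, hxa⟩
    have h5 := f2 x hx hxa
    have hne : (P.filter (fun p => x2 p = x)).Nonempty := by
      rw [← Finset.card_pos]; omega
    obtain ⟨p, hp⟩ := hne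
    rw [Finset.mem_filter] at hp
    exact Finset.mem_image.mpr ⟨p, hp.1, hp.2⟩
  have hII : P.image x1 = P.image x2 := by
    ext x; rw [i1, i2]
  have c1 : P.card = (P.image x1).card * 6 := by
    rw [Finset.card_eq_sum_card_image x1 P]
    rw [Finset.sum_const_nat (m := 6)]
    intro x hx
    obtain ⟨h1, h2⟩ := (i1 x).mp hx
    exact f1 x h1 h2
  have c2 : P.card = (P.image x1).card * (Fintype.card α - 5) := by
    rw [hII]; exact c2'
  have hpos : 0 < (P.image x1).card :=
    Finset.card_pos.mpr ⟨x1 p0, Finset.mem_image_of_mem _ hp0⟩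
  have hfin : 6 = Fintype.card α - 5 := Nat.eq_of_mul_eq_mul_left hpos (c1.symm.trans c2)
  omega

end H64.MHX5
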