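import Cfsg.Agent.Lib.H89.MX0

/-!
# S5316, piece ZB3 (helper89): subgroups between `Z_2` and `γ_2` have a large normalizer
-/

set_option autoImplicit false

namespace H64.MXZ3

open Subgroup Cfsg Cfsg.FusionSystem H67.HallPetrescu H57.Mc H89.MX
open scoped commutatorElement

variable {Ω : Type*} [Group Ω] {S : Subgroup Ω} [Finite S] {p n : ℕ} [hp : Fact p.Prime] {F : FusionSystem S} {E C W B : Subgroup Ω} {τ : MulAut E}

omit [Finite S] in
theorem norm_of {U : Subgroup ↥S} {E' : Subgroup Ω} (hE : E' ≤ S)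
    (h : ∀ u ∈ U, ∀ e : ↥S, (e : Ω) ∈ E' → ((⁅u, e⁆ : ↥S) : Ω) ∈ E') :
    U.map S.subtype ≤ normalizerIn S E' := by
  rintro _ ⟨u, hu, rfl⟩
  have key : ∀ u ∈ U, ∀ e ∈ E', (u : Ω) * e * (u : Ω)⁻¹ ∈ E' := by
    intro u hu e he
    have h1 := E'.mul_mem (h u hu ⟨e, hE he⟩ he) he
    have h2 : ((⁅u, (⟨e, hE he⟩ : ↥S)⁆ : ↥S) : Ω) * e = (u : Ω) * e * (u : Ω)⁻¹ := by
      simp [commutatorElement_def]
    rwa [h2] at h1
  refine ⟨u.2, ?_⟩
  show (u : Ω) ∈ normalizer (E' : Set Ω)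
  rw [Subgroup.mem_normalizer_iff]
  intro x
  refine ⟨fun hx => key u hu x hx, fun hx => ?_⟩
  have h1 := key u⁻¹ (U.inv_mem hu) _ hx
  have h4 : ((u⁻¹ : ↥S) : Ω) * ((u : Ω) * x * (u : Ω)⁻¹) * ((u⁻¹ : ↥S) : Ω)⁻¹ = x := by
    push_cast; group
  rwa [h4] at h1

theorem card_norm_ge (D : Dat S p n F E) (h6 : 6 ≤ n) {E' : Subgroup Ω} (h2 : K S (n - 2) ≤ E')
    (hE' : E' ≤ K S 2) : p ^ 5 ≤ Nat.card (normalizerIn S E') := by
  have hS : K S 2 ≤ S := by rintro _ ⟨x, _, rfl⟩; exact x.2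
  have hES : E' ≤ S := hE'.trans hS
  have h5 := D.hp
  have hmem : ∀ e : ↥S, (e : Ω) ∈ E' → e ∈ Q ↥S 2 := by
    intro e he
    obtain ⟨y, hy, hye⟩ := hE' he
    have : y = e := Subtype.ext hye
    rw [Q_of le_rfl, ← this]; exact hy
  have hm := (D.mc.blackburn (by omega) (by omega)).1
  have fin : Finite (normalizerIn S E') := Finite.of_injective
    (Subgroup.inclusion (inf_le_left : normalizerIn S E' ≤ S)) (Subgroup.inclusion_injective _)
  have main : ∀ U : Subgroup ↥S, (∀ u ∈ U, ∀ e : ↥S, (e : Ω) ∈ E' → ⁅u, e⁆ ∈ lcsF ↥S (n - 2)) →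
      Nat.card U = p ^ 5 → p ^ 5 ≤ Nat.card (normalizerIn S E') := by
    intro U hU hc
    have h1 := norm_of (S := S) (U := U) hES (fun u hu e he => h2 ⟨_, hU u hu e he, rfl⟩)
    have h6 : Nat.card (U.map S.subtype) = Nat.card U :=
      Nat.card_congr (U.equivMapOfInjective S.subtype S.subtype_injective).toEquiv.symm
    rw [← hc, ← h6]
    exact Nat.card_le_card_of_injective (Subgroup.inclusion h1) (Subgroup.inclusion_injective _)
  rcases Nat.lt_or_ge n 7 with h7 | h7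
  · obtain rfl : n = 6 := by omega
    refine main (TC ↥S 2) (fun u hu e he => ?_) ?_
    · have h3 := D.mc.comm_deg (by omega) (m := 4) hm (i := 1) (j := 2) (by omega) (by omega)
        (x := u) (y := e) (by rw [Q_one]; exact hu) (hmem e he)
      exact h3
    · have h3 := D.mc.index_TC (i := 2) le_rfl (by omega)
      have h4 := Subgroup.card_mul_index (TC ↥S 2)
      rw [h3, D.mc.card, pow_succ] at h4
      exact Nat.eq_of_mul_eq_mul_right hp.out.pos h4
  · refine main (lcsF ↥S (n - 5)) (fun u hu e he => ?_) ?_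
    · have h3 := D.mc.comm_deg (by omega) (m := n - 2) hm (i := n - 5) (j := 2) (by omega) (by omega)
        (x := u) (y := e) (by rw [Q_of (by omega)]; exact hu) (hmem e he)
      have h4 : min (n - 5 + 2 + 1) (n - 2 + 1) = n - 2 := by omega
      rw [h4] at h3
      exact h3
    · have h3 := D.mc.cardK (n - 5) (by omega) (by omega)
      rw [h3]
      congr 1
      omega

end H64.MXZ3
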