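import Cfsg.Agent.Lib.H89.MX0
import Cfsg.Agent.Lib.H64.MXZ3

/-!
# S5316, piece S1b (helper89)
-/

set_option autoImplicit false

namespace H64.MXS1b

open Subgroup Cfsg Cfsg.FusionSystem H67.HallPetrescu H57.Mc H89.MX
open scoped commutatorElement

variable {Ω : Type*} [Group Ω] {S : Subgroup Ω} [Finite S] {p n : ℕ} [hp : Fact p.Prime] {F : FusionSystem S} {E C W B : Subgroup Ω} {τ : MulAut E}

omit [Finite S] in
theorem card_subOf {A : Subgroup Ω} (h : A ≤ S) : Nat.card (A.subgroupOf S) = Nat.card A :=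
  Nat.card_congr (Subgroup.subgroupOfEquivOfLe h).toEquiv

theorem card_rel {G : Type*} [Group G] {A B : Subgroup G} (h : A ≤ B) :
    Nat.card A * A.relIndex B = Nat.card B := by
  have h1 := Subgroup.relIndex_mul_relIndex ⊥ A B bot_le h
  rwa [Subgroup.relIndex_bot_left, Subgroup.relIndex_bot_left] at h1

theorem card_sup {G : Type*} [Group G] {A B : Subgroup G} [B.Normal] :
    Nat.card (A ⊔ B : Subgroup G) * Nat.card (A ⊓ B : Subgroup G) = Nat.card A * Nat.card B := by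
  have h1 := card_rel (A := B) (B := A ⊔ B) le_sup_right
  rw [Subgroup.relIndex_sup_right] at h1
  have h2 := card_rel (A := A ⊓ B) (B := A) inf_le_left
  rw [Subgroup.inf_relIndex_left] at h2
  rw [← h1, ← h2]; ring

theorem s1b (D : Dat S p n F E) (hN : Nat.card (normalizerIn S E) = p ^ 4) (h2 : ¬ K S (n - 2) ≤ E)
    (hE1 : E ≤ T S 2) {y : Ω} (hy : y ∈ E) (hy' : y ∉ T S (n - 2)) (h6 : 6 ≤ n) :
    K S (n - 1) ≤ E ∧ K S (n - 3) ≤ normalizer (E : Set Ω) ∧ E ⊓ K S 2 ≤ K S (n - 3) ∧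
      Nat.card (E ⊓ K S (n - 3) : Subgroup Ω) = p ^ 2 ∧
      ∀ g ∈ S, g ∈ normalizer (E : Set Ω) → ∀ z ∈ E ⊓ K S (n - 3), g * z = z * g := by
  have hES : E ≤ S := D.ess.1.1
  have h5 := D.hp
  have hpos := hp.out.pos
  have mK : ∀ i (x : ↥S), (x : Ω) ∈ K S i ↔ x ∈ lcsF ↥S i := by
    intro i x
    refine ⟨?_, fun h => ⟨x, h, rfl⟩⟩
    rintro ⟨z, hz, hzx⟩
    have : z = x := Subtype.ext hzx
    rwa [← this]
  have hKS : ∀ i, K S i ≤ S := by rintro i _ ⟨x, _, rfl⟩; exact x.2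
  have mT : ∀ i (x : ↥S), (x : Ω) ∈ T S i ↔ x ∈ TC ↥S i := by
    intro i x
    refine ⟨?_, fun h => ⟨x, h, rfl⟩⟩
    rintro ⟨z, hz, hzx⟩
    have : z = x := Subtype.ext hzx
    rwa [← this]
  have hm := (D.mc.blackburn (by omega) (by omega)).1
  -- everything inside `S`
  set A : Subgroup ↥S := E.subgroupOf S with hA
  have cA : Nat.card A = p ^ 3 := by rw [hA, card_subOf hES, D.card]
  have mA : ∀ x : ↥S, x ∈ A ↔ (x : Ω) ∈ E := fun x => Subgroup.mem_subgroupOf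
  set M : Subgroup ↥S := (normalizerIn S E).subgroupOf S with hM
  have hNS : normalizerIn S E ≤ S := inf_le_left
  have cM : Nat.card M = p ^ 4 := by rw [hM, card_subOf hNS, hN]
  -- `Z_1 ≤ E`
  have hZ1 : K S (n - 1) ≤ E := by
    refine le_trans ?_ (H57.Ess.centralizerIn_le_of_essential D.ess)
    rintro _ ⟨x, hx, rfl⟩
    refine ⟨x.2, ?_⟩
    show (x : Ω) ∈ Subgroup.centralizer (E : Set Ω)
    rw [Subgroup.mem_centralizer_iff]
    intro e he
    have h := D.mc.central (by omega) hx ⟨e, hES he⟩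
    exact congrArg Subtype.val h
  have hZ1' : lcsF ↥S (n - 1) ≤ A := fun x hx => (mA x).2 (hZ1 ((mK _ x).2 hx))
  -- `Z_3` normalizes `E`
  have hZ3 : K S (n - 3) ≤ normalizerIn S E := by
    refine H64.MXZ3.norm_of hES fun u hu e he => ?_
    have he2 : e ∈ TC ↥S 2 := (mT 2 e).1 (hE1 he)
    have he3 : e ∈ TC ↥S (n - 3) := hm (n - 3) (by omega) (by omega) he2
    have h3 := he3 u hu
    have h4 : n - 3 + 2 = n - 1 := by omega
    rw [h4] at h3
    exact hZ1 ((mK _ _).2 h3)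
  have hZ3' : lcsF ↥S (n - 3) ≤ M := fun x hx => Subgroup.mem_subgroupOf.2 (hZ3 ((mK _ x).2 hx))
  have hZ23 : lcsF ↥S (n - 2) ≤ lcsF ↥S (n - 3) := K_anti (by omega)
  have hZ12 : lcsF ↥S (n - 1) ≤ lcsF ↥S (n - 2) := K_anti (by omega)
  have hAM : A ≤ M := by
    intro x hx
    refine Subgroup.mem_subgroupOf.2 ⟨x.2, ?_⟩
    exact Subgroup.le_normalizer ((mA x).1 hx)
  have c1 : Nat.card (lcsF ↥S (n - 1)) = p := by
    rw [D.mc.cardK (n - 1) (by omega) (by omega), show n - (n - 1) = 1 by omega, pow_one]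
  have c2 : Nat.card (lcsF ↥S (n - 2)) = p ^ 2 := by
    rw [D.mc.cardK (n - 2) (by omega) (by omega), show n - (n - 2) = 2 by omega]
  have c3 : Nat.card (lcsF ↥S (n - 3)) = p ^ 3 := by
    rw [D.mc.cardK (n - 3) (by omega) (by omega), show n - (n - 3) = 3 by omega]
  -- `E ∩ Z_2 = Z_1`
  have hA2 : ¬ lcsF ↥S (n - 2) ≤ A := by
    intro h
    apply h2
    rintro _ ⟨x, hx, rfl⟩
    exact (mA x).1 (h hx)
  have i2 : A ⊓ lcsF ↥S (n - 2) = lcsF ↥S (n - 1) := by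
    have hlt : A ⊓ lcsF ↥S (n - 2) < lcsF ↥S (n - 2) :=
      lt_of_le_of_ne inf_le_right (fun h => hA2 (inf_eq_right.1 h))
    have h3 := card_lt D.mc.isPGroup hlt
    rw [c2, pow_two] at h3
    have h4 := Nat.le_of_mul_le_mul_left h3 hpos
    symm
    apply Subgroup.eq_of_le_of_card_ge (le_inf hZ1' hZ12)
    rw [c1]; exact h4
  -- `N_S(E) = E Z_2`
  have hsup : A ⊔ lcsF ↥S (n - 2) = M := by
    have h3 := card_sup (A := A) (B := lcsF ↥S (n - 2))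
    rw [i2, c1, cA, c2] at h3
    have h4 : Nat.card (A ⊔ lcsF ↥S (n - 2) : Subgroup ↥S) = p ^ 4 := by
      apply Nat.eq_of_mul_eq_mul_right hpos
      rw [h3]; ring
    apply Subgroup.eq_of_le_of_card_ge (sup_le hAM (hZ23.trans hZ3'))
    rw [h4, cM]
  -- `|E ∩ Z_3| = p^2`
  have hded : (A ⊓ lcsF ↥S (n - 3)) ⊔ lcsF ↥S (n - 2) = lcsF ↥S (n - 3) := by
    apply le_antisymm (sup_le inf_le_right hZ23)
    intro x hx
    have hx' := hZ3' hx
    rw [← hsup, Subgroup.mem_sup_of_normal_right] at hx'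
    obtain ⟨e, he, z, hz, rfl⟩ := hx'
    refine Subgroup.mul_mem_sup ⟨he, ?_⟩ hz
    have h4 := (lcsF ↥S (n - 3)).mul_mem hx ((lcsF ↥S (n - 3)).inv_mem (hZ23 hz))
    rwa [mul_inv_cancel_right] at h4
  have c3' : Nat.card (A ⊓ lcsF ↥S (n - 3) : Subgroup ↥S) = p ^ 2 := by
    have h3 := card_sup (A := A ⊓ lcsF ↥S (n - 3)) (B := lcsF ↥S (n - 2))
    have h4 : A ⊓ lcsF ↥S (n - 3) ⊓ lcsF ↥S (n - 2) = lcsF ↥S (n - 1) := by
      rw [inf_assoc, inf_eq_right.2 hZ23, i2]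
    rw [hded, h4, c1, c2, c3] at h3
    apply Nat.eq_of_mul_eq_mul_right (pow_pos hpos 2)
    rw [← h3]; ring
  have cE3 : Nat.card (E ⊓ K S (n - 3) : Subgroup Ω) = p ^ 2 := by
    rw [← c3', ← card_subOf (S := S) (A := E ⊓ K S (n - 3)) (inf_le_left.trans hES)]
    congr 1
    have : (E ⊓ K S (n - 3)).subgroupOf S = A ⊓ lcsF ↥S (n - 3) := by
      ext x
      rw [Subgroup.mem_subgroupOf, Subgroup.mem_inf, Subgroup.mem_inf, mA, mK]
    rw [this]
  -- `E ∩ γ_2 = E ∩ Z_3`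
  have hEg : A ⊓ lcsF ↥S (n - 3) = A ⊓ lcsF ↥S 2 := by
    have hle : A ⊓ lcsF ↥S (n - 3) ≤ A ⊓ lcsF ↥S 2 := inf_le_inf_left _ (K_anti (by omega))
    have hlt : A ⊓ lcsF ↥S 2 < A := by
      refine lt_of_le_of_ne inf_le_left fun h => hy' ?_
      have h3 : (⟨y, hES hy⟩ : ↥S) ∈ A := (mA _).2 hy
      rw [← h] at h3
      exact (mT (n - 2) ⟨y, hES hy⟩).2 (K2_le_TC _ h3.2)
    have h3 := card_lt D.mc.isPGroup hlt
    rw [cA, show p ^ 3 = p * p ^ 2 by ring] at h3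
    have h4 := Nat.le_of_mul_le_mul_left h3 hpos
    apply Subgroup.eq_of_le_of_card_ge hle
    rw [c3']; exact h4
  refine ⟨hZ1, hZ3.trans inf_le_right, ?_, cE3, ?_⟩
  · rintro x ⟨hx1, hx2⟩
    have h3 : (⟨x, hES hx1⟩ : ↥S) ∈ A ⊓ lcsF ↥S 2 := ⟨(mA _).2 hx1, (mK 2 ⟨x, hES hx1⟩).1 hx2⟩
    rw [← hEg] at h3
    exact (mK (n - 3) ⟨x, hES hx1⟩).2 h3.2
  · intro g hg hgN w hw
    have hgM : (⟨g, hg⟩ : ↥S) ∈ M := Subgroup.mem_subgroupOf.2 ⟨hg, hgN⟩
    rw [← hsup, Subgroup.mem_sup_of_normal_right] at hgM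
    obtain ⟨e, he, z, hz, hez⟩ := hgM
    have hgz : g = (e : Ω) * (z : Ω) := by
      have := congrArg Subtype.val hez
      exact this.symm
    have hwS : w ∈ S := hES hw.1
    have h3 : z * (⟨w, hwS⟩ : ↥S) = ⟨w, hwS⟩ * z := by
      have h4 := comm_memK hz ((mK (n - 3) ⟨w, hwS⟩).1 hw.2)
      rwa [D.mc.K_n (by omega) (by omega), mem_bot, commutatorElement_eq_one_iff_mul_comm] at h4
    have h3' : (z : Ω) * w = w * z := congrArg Subtype.val h3
    have h4 : (e : Ω) * w = w * e := D.comm e ((mA e).1 he) w hw.1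
    rw [hgz, mul_assoc, h3', ← mul_assoc, h4, mul_assoc]

end H64.MXS1b
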