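import Cfsg.Agent.Lib.H60.Ord60
import Cfsg.Agent.Lib.H82.Deg
import Cfsg.Agent.Lib.H4.TwoTrans
import Cfsg.Agent.Lib.H1.Solv
import Cfsg.Agent.S0169
import Cfsg.Prelude.Def_DegreeGraph

set_option autoImplicit false

/-! Groups of order 60 with an irreducible character of degree divisible by 5. -/

namespace H64.Order60

open Cfsg

universe u

theorem card_sylow_five {G : Type u} [Group G] [Finite G] (h : Nat.card G = 60)
    (h1 : Nat.card (Sylow 5 G) ≠ 1) : Nat.card (Sylow 5 G) = 6 := by
  have : Fact (Nat.Prime 5) := ⟨by norm_num⟩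
  obtain ⟨P⟩ : Nonempty (Sylow 5 G) := inferInstance
  have hd : Nat.card (Sylow 5 G) ∣ 60 := by
    rw [P.card_eq_index_normalizer, ← h]; exact Subgroup.index_dvd_card _
  have hm : Nat.card (Sylow 5 G) % 5 = 1 := card_sylow_modEq_one 5 G
  have hmem : Nat.card (Sylow 5 G) ∈ (60 : ℕ).divisors := Nat.mem_divisors.mpr ⟨hd, by norm_num⟩
  have hdiv : (60 : ℕ).divisors = {1, 2, 3, 4, 5, 6, 10, 12, 15, 20, 30, 60} := by decide +kernel
  rw [hdiv] at hmem
  simp only [Finset.mem_insert, Finset.mem_singleton] at hmem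
  omega

theorem two_trans_sylow {G : Type u} [Group G] [Finite G] (h6 : Nat.card (Sylow 5 G) = 6) :
    MulAction.IsMultiplyPretransitive G (Sylow 5 G) 2 := by
  have : Fact (Nat.Prime 5) := ⟨by norm_num⟩
  -- each `P` is transitive on the others
  have key : ∀ P Q R : Sylow 5 G, Q ≠ P → R ≠ P → ∃ g ∈ P, g • Q = R := by
    intro P Q R hQ hR
    have hcard : (MulAction.orbit P Q).ncard = 5 := by
      have h1 : (MulAction.stabilizer P Q).index = (MulAction.orbit P Q).ncard :=
        MulAction.index_stabilizer P Q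
      obtain ⟨n, hn⟩ := IsPGroup.iff_card.1 P.2
      have h2 : (MulAction.orbit P Q).ncard ∣ 5 ^ n := by
        rw [← h1, ← hn]; exact Subgroup.index_dvd_card _
      obtain ⟨k, -, hk⟩ := (Nat.dvd_prime_pow (by norm_num)).1 h2
      have h3 : (MulAction.orbit P Q).ncard ≤ 6 := by
        rw [← h6, ← Set.ncard_univ]; exact Set.ncard_le_ncard (Set.subset_univ _)
      have hk0 : k ≠ 0 := by
        rintro rfl
        rw [pow_zero] at hk
        obtain ⟨S, hS⟩ := Set.ncard_eq_one.1 hk
        have hfix : Q ∈ MulAction.fixedPoints P (Sylow 5 G) := by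
          intro g
          have a1 : g • Q ∈ MulAction.orbit P Q := ⟨g, rfl⟩
          have a2 : Q ∈ MulAction.orbit P Q := MulAction.mem_orbit_self Q
          rw [hS] at a1 a2
          rw [Set.mem_singleton_iff] at a1 a2
          rw [a1, a2]
        rw [P.2.sylow_mem_fixedPoints_iff] at hfix
        exact hQ (Sylow.ext (P.3 Q.2 hfix))
      have hk1 : k < 2 := by
        by_contra hcon
        push Not at hcon
        have : 5 ^ 2 ≤ 5 ^ k := Nat.pow_le_pow_right (by norm_num) hcon
        omega
      have : k = 1 := by omega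
      rw [hk, this, pow_one]
    have hsub : MulAction.orbit P Q ⊆ {P}ᶜ := by
      rintro _ ⟨g, rfl⟩
      rw [Set.mem_compl_iff, Set.mem_singleton_iff]
      intro hg
      apply hQ
      have h1 : (g : G) • Q = P := hg
      have h2 : (g : G) • P = P := by
        rw [Sylow.smul_eq_iff_mem_normalizer]; exact Subgroup.le_normalizer g.2
      exact smul_left_cancel (g : G) (h1.trans h2.symm)
    have heq : MulAction.orbit P Q = {P}ᶜ := by
      apply Set.eq_of_subset_of_ncard_le hsub
      rw [hcard, Set.ncard_compl, Set.ncard_singleton, h6]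
    have hRm : R ∈ MulAction.orbit P Q := by
      rw [heq]; exact hR
    obtain ⟨g, hg⟩ := hRm
    exact ⟨g.1, g.2, hg⟩
  rw [MulAction.is_two_pretransitive_iff]
  intro a b c d hab hcd
  obtain ⟨g, hg⟩ := MulAction.exists_smul_eq G a c
  have h1 : g • b ≠ c := by
    rw [← hg]; intro h; exact hab (smul_left_cancel g h).symm
  obtain ⟨k, hk, hkb⟩ := key c (g • b) d h1 hcd.symm
  refine ⟨k * g, ?_, ?_⟩
  · rw [mul_smul, hg, Sylow.smul_eq_iff_mem_normalizer]; exact Subgroup.le_normalizer hk
  · rw [mul_smul]; exact hkb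

theorem five_mem {G : Type u} [Group G] [Finite G] (h6 : Nat.card (Sylow 5 G) = 6) :
    5 ∈ degreePrimes G := by
  have : Fact (Nat.Prime 5) := ⟨by norm_num⟩
  have := Fintype.ofFinite G
  have h2 := two_trans_sylow h6
  have h3 := (H4.TwoTrans.isIrr_iff_two_trans (G := G) (Sylow 5 G) (by rw [h6]; norm_num)).2 h2
  refine ⟨by norm_num, 5, ⟨⟨_, h3⟩, ?_⟩, dvd_rfl⟩
  apply H82.Deg.charDegree_eq_of
  have h4 : Nat.card (MulAction.fixedBy (Sylow 5 G) (1 : G)) = 6 := by
    rw [← h6]
    apply Nat.card_congr
    exact (Equiv.subtypeUnivEquiv fun x => one_smul G x)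
  simp only [H4.TwoTrans.permChar]
  rw [h4]; norm_num

/-- A `p`-subgroup centralises a normal subgroup of order less than `p`. -/
theorem le_centralizer_of_small {G : Type u} [Group G] [Finite G] {p : ℕ} [Fact p.Prime]
    (P : Sylow p G) (N : Subgroup G) [N.Normal] (hN : Nat.card N < p) :
    N ≤ Subgroup.centralizer (P : Set G) := by
  let : MulAction P N := MulAction.compHom N
    ((MulAut.conjNormal (H := N)).comp (P : Subgroup G).subtype)
  have hsmul : ∀ (x : P) (v : N), ((x • v : N) : G) = x * v * (x : G)⁻¹ := fun x v => rfl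
  have h1 := P.2.card_modEq_card_fixedPoints N
  have h2 : Nat.card (MulAction.fixedPoints P N) ≤ Nat.card N :=
    Nat.card_le_card_of_injective _ Subtype.val_injective
  have h3 : Nat.card N = Nat.card (MulAction.fixedPoints P N) := by
    have := h1
    rw [Nat.ModEq, Nat.mod_eq_of_lt hN, Nat.mod_eq_of_lt (lt_of_le_of_lt h2 hN)] at this
    exact this
  have h4 : MulAction.fixedPoints P N = Set.univ := by
    apply Set.eq_of_subset_of_ncard_le (Set.subset_univ _)
    rw [Set.ncard_univ, h3]; rfl
  intro v hv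
  rw [Subgroup.mem_centralizer_iff]
  intro x hx
  have h5 : (⟨v, hv⟩ : N) ∈ MulAction.fixedPoints P N := by rw [h4]; trivial
  have h6 := congrArg Subtype.val (h5 ⟨x, hx⟩)
  rw [hsmul, mul_inv_eq_iff_eq_mul] at h6
  exact h6

theorem not_solvable {G : Type u} [Group G] [Finite G] (h : Nat.card G = 60)
    (h5 : 5 ∈ degreePrimes G) : ¬ Group.IsSolvable G := by
  intro hs
  have f5 : Fact (Nat.Prime 5) := ⟨by norm_num⟩
  obtain ⟨P⟩ : Nonempty (Sylow 5 G) := inferInstance
  have hPcard : Nat.card P = 5 := by
    have h60 : Nat.factorization 60 5 = 1 := by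
      rw [show 60 = 5 * 12 by norm_num, Nat.factorization_mul (by norm_num) (by norm_num),
        Finsupp.add_apply, Nat.Prime.factorization_self (by norm_num),
        Nat.factorization_eq_zero_of_not_dvd (show ¬ 5 ∣ 12 by norm_num)]
    have := P.card_eq_multiplicity
    rw [h, h60, pow_one] at this
    exact this
  -- `P` is not normal
  have hPn : ¬ (P : Subgroup G).Normal := by
    intro hn
    obtain ⟨_, d, ⟨χ, rfl⟩, hd⟩ := h5
    obtain ⟨n, ρ, hρ, hρχ⟩ := χ.2
    have hcyc : IsCyclic P := isCyclic_of_prime_card (p := 5) hPcard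
    have hab : ∀ a ∈ (P : Subgroup G), ∀ b ∈ (P : Subgroup G), a * b = b * a := by
      intro a ha b hb
      obtain ⟨g, hg⟩ := hcyc.exists_generator
      obtain ⟨i, hi⟩ := Subgroup.mem_zpowers_iff.1 (hg ⟨a, ha⟩)
      obtain ⟨j, hj⟩ := Subgroup.mem_zpowers_iff.1 (hg ⟨b, hb⟩)
      have : (⟨a, ha⟩ : P) * ⟨b, hb⟩ = ⟨b, hb⟩ * ⟨a, ha⟩ := by
        rw [← hi, ← hj, ← zpow_add, ← zpow_add, add_comm]
      exact congrArg Subtype.val this
    have h1 := Cfsg.Agent.S0169.result ρ (P : Subgroup G) hab
    have h2 : charDegree (χ : G → ℂ) = n := by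
      apply H82.Deg.charDegree_eq_of
      rw [← hρχ]
      simp
    rw [h2] at hd
    rw [Module.finrank_fintype_fun_eq_card, Fintype.card_fin] at h1
    have h3 := (P : Subgroup G).card_mul_index
    have hPcard' : Nat.card (P : Subgroup G) = 5 := hPcard
    rw [hPcard', h] at h3
    have h4 : 5 ∣ 12 := by
      have : (P : Subgroup G).index = 12 := by omega
      rw [← this]; exact hd.trans h1
    omega
  -- the 5-core is trivial
  have hcore5 : pCore 5 G = ⊥ := by
    have h1 : pCore 5 G ≤ (P : Subgroup G) := H1.Cores.pCore_le_sylow P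
    obtain ⟨k, hk⟩ := IsPGroup.iff_card.1 (H1.Cores.isPGroup_pCore (G := G) 5)
    have h2 : Nat.card (pCore 5 G) ∣ Nat.card (P : Subgroup G) := Subgroup.card_dvd_of_le h1
    have hPcard' : Nat.card (P : Subgroup G) = 5 := hPcard
    rw [hPcard'] at h2
    rcases (Nat.dvd_prime (by norm_num)).1 h2 with h3 | h3
    · exact Subgroup.card_eq_one.1 h3
    · exfalso
      apply hPn
      have h4 : pCore 5 G = (P : Subgroup G) :=
        Subgroup.eq_of_le_of_card_ge h1 (by rw [h3, hPcard'])
      rw [← h4]; exact H1.Cores.pCore_normal 5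
  -- the Fitting subgroup
  have hle : fittingSubgroup G ≤ Subgroup.centralizer (P : Set G) := by
    rw [H1.Cores.fittingSubgroup_eq_iSup_pCore]
    refine iSup_le ?_
    rintro ⟨q, hq⟩
    change pCore q G ≤ _
    by_cases hq5 : q = 5
    · subst hq5; rw [hcore5]; exact bot_le
    · have : (pCore q G).Normal := H1.Cores.pCore_normal q
      apply le_centralizer_of_small
      have : Fact q.Prime := ⟨hq⟩
      obtain ⟨k, hk⟩ := IsPGroup.iff_card.1 (H1.Cores.isPGroup_pCore (G := G) q)
      have h1 : q ^ k ∣ 60 := by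
        rw [← hk, ← h]; exact Subgroup.card_subgroup_dvd_card _
      rw [hk]
      rcases Nat.eq_zero_or_pos k with rfl | hk0
      · norm_num
      · have h2 : q ∣ 60 := (dvd_pow_self q hk0.ne').trans h1
        have h3 : q ∣ 2 ^ 2 * (3 * 5) := by norm_num; exact h2
        have h4 : q = 2 ∨ q = 3 := by
          rcases (Nat.Prime.dvd_mul hq).1 h3 with h4 | h4
          · left; exact (Nat.prime_dvd_prime_iff_eq hq (by norm_num)).1 (hq.dvd_of_dvd_pow h4)
          · rcases (Nat.Prime.dvd_mul hq).1 h4 with h4 | h4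
            · right; exact (Nat.prime_dvd_prime_iff_eq hq (by norm_num)).1 h4
            · exact absurd ((Nat.prime_dvd_prime_iff_eq hq (by norm_num)).1 h4) hq5
        rcases h4 with rfl | rfl
        · have : k < 3 := by
            by_contra hcon
            push Not at hcon
            have := (pow_dvd_pow 2 hcon).trans h1
            omega
          interval_cases k <;> norm_num
        · have : k < 2 := by
            by_contra hcon
            push Not at hcon
            have := (pow_dvd_pow 3 hcon).trans h1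
            omega
          interval_cases k; norm_num
  have hPF : (P : Subgroup G) ≤ fittingSubgroup G := by
    refine le_trans ?_ (H1.Solv.centralizer_fitting_le hs)
    rw [Subgroup.le_centralizer_iff]
    exact hle
  have h6 := H1.Cores.not_dvd_relIndex_pCore_fittingSubgroup (G := G) 5
  rw [hcore5, Subgroup.relIndex_bot_left] at h6
  apply h6
  have h7 := Subgroup.card_dvd_of_le hPF
  have hPcard' : Nat.card (P : Subgroup G) = 5 := hPcard
  rwa [hPcard'] at h7

theorem main {G : Type u} [Group G] [Finite G] (h : Nat.card G = 60)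
    (hΓ : degreePrimes G = degreePrimes (alternatingGroup (Fin 5))) :
    Nonempty (G ≃* alternatingGroup (Fin 5)) := by
  have f5 : Fact (Nat.Prime 5) := ⟨by norm_num⟩
  have hcardA : Nat.card (alternatingGroup (Fin 5)) = 60 := by
    have h1 := two_mul_nat_card_alternatingGroup (α := Fin 5)
    rw [Nat.card_perm, Nat.card_eq_fintype_card (α := Fin 5), Fintype.card_fin] at h1
    have : (5 : ℕ).factorial = 120 := by decide
    omega
  have hA : Nat.card (Sylow 5 (alternatingGroup (Fin 5))) ≠ 1 := by
    intro h1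
    obtain ⟨P⟩ : Nonempty (Sylow 5 (alternatingGroup (Fin 5))) := inferInstance
    rw [P.card_eq_index_normalizer, Subgroup.index_eq_one] at h1
    have h1 : Subgroup.normalizer
      ((P : Subgroup (alternatingGroup (Fin 5))) : Set (alternatingGroup (Fin 5))) = ⊤ := h1
    rw [Subgroup.normalizer_eq_top_iff] at h1
    have hs : IsSimpleGroup (alternatingGroup (Fin 5)) := alternatingGroup.isSimpleGroup_five
    have hc := P.card_eq_multiplicity
    have h60 : Nat.factorization 60 5 = 1 := by
      rw [show 60 = 5 * 12 by norm_num, Nat.factorization_mul (by norm_num) (by norm_num),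
        Finsupp.add_apply, Nat.Prime.factorization_self (by norm_num),
        Nat.factorization_eq_zero_of_not_dvd (show ¬ 5 ∣ 12 by norm_num)]
    rw [hcardA, h60, pow_one] at hc
    have hc' : Nat.card (P : Subgroup (alternatingGroup (Fin 5))) = 5 := hc
    rcases h1.eq_bot_or_eq_top with h2 | h2
    · rw [h2, Subgroup.card_bot] at hc'; omega
    · rw [h2, Subgroup.card_top, hcardA] at hc'; omega
  have h5A := five_mem (card_sylow_five hcardA hA)
  rw [← hΓ] at h5A
  have := H60.Ord60.isSimple_of_not_solvable h (not_solvable h h5A)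
  exact H60.Ord60.iso_alt5 h

end H64.Order60
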