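import Mathlib

set_option autoImplicit false

/-! Sylow numbers under homomorphisms and normal subgroups. -/

namespace H64.SylowNumbers

variable {G H : Type*} [Group G] [Group H] {p : ℕ}

theorem ker_smul_eq [Finite G] [Fact p.Prime] (f : G →* H) (hf : Function.Surjective f)
    (hc : Nat.card (Sylow p G) ≤ Nat.card (Sylow p H)) {g : G} (hg : f g = 1) (P : Sylow p G) :
    g • P = P := by
  have h1 := (Sylow.mapSurjective_surjective hf p).bijective_of_nat_card_le hc
  apply h1.1
  apply Sylow.ext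
  ext x
  rw [Sylow.coe_mapSurjective, Sylow.coe_mapSurjective]
  constructor
  · rintro ⟨y, hy, rfl⟩
    rw [SetLike.mem_coe, Sylow.coe_subgroup_smul, Subgroup.mem_pointwise_smul_iff_inv_smul_mem] at hy
    have h2 : g⁻¹ * y * g ∈ (P : Subgroup G) := by simpa [MulAut.smul_def] using hy
    refine ⟨_, h2, ?_⟩
    simp [hg]
  · rintro ⟨y, hy, rfl⟩
    refine ⟨g * y * g⁻¹, ?_, by simp [hg]⟩
    rw [SetLike.mem_coe, Sylow.coe_subgroup_smul, Subgroup.mem_pointwise_smul_iff_inv_smul_mem]
    have hy' : y ∈ (P : Subgroup G) := hy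
    simpa [MulAut.smul_def, mul_assoc] using hy'

theorem card_dvd_of_surjective [Finite G] [Finite H] [Fact p.Prime] (f : G →* H)
    (hf : Function.Surjective f) : Nat.card (Sylow p H) ∣ Nat.card (Sylow p G) := by
  obtain ⟨P⟩ : Nonempty (Sylow p G) := inferInstance
  rw [(P.mapSurjective hf).card_eq_index_normalizer, P.card_eq_index_normalizer,
    ← Subgroup.index_comap_of_surjective _ hf]
  apply Subgroup.index_dvd_of_le
  intro g hg
  rw [Subgroup.mem_comap, Subgroup.mem_set_normalizer_iff]
  rw [Subgroup.mem_set_normalizer_iff] at hg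
  intro x
  constructor
  · rintro ⟨y, hy, rfl⟩
    exact ⟨g * y * g⁻¹, (hg y).1 hy, by simp⟩
  · rintro ⟨y, hy, h⟩
    refine ⟨g⁻¹ * y * g, ?_, ?_⟩
    · apply (hg _).2
      simpa [mul_assoc] using hy
    · rw [map_mul, map_mul, h, map_inv]; group

/-- Sylow subgroups of a normal subgroup containing all Sylow subgroups. -/
theorem card_sylow_eq_of_le {K : Subgroup G} (h : ∀ Q : Sylow p G, (Q : Subgroup G) ≤ K) :
    Nat.card (Sylow p K) = Nat.card (Sylow p G) := by
  have : Function.Bijective (fun Q : Sylow p G => (Q.subtype (h Q) : Sylow p K)) := by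
    constructor
    · intro Q R hQR
      apply Sylow.ext
      ext x
      have h1 : ((Q.subtype (h Q) : Sylow p K) : Subgroup K) = (R.subtype (h R) : Sylow p K) :=
        congrArg _ hQR
      rw [Sylow.coe_subtype, Sylow.coe_subtype] at h1
      constructor
      · intro hx
        have h2 : (⟨x, h Q hx⟩ : K) ∈ (Q : Subgroup G).subgroupOf K := hx
        rw [h1] at h2; exact h2
      · intro hx
        have h2 : (⟨x, h R hx⟩ : K) ∈ (R : Subgroup G).subgroupOf K := hx
        rw [← h1] at h2; exact h2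
    · intro R
      obtain ⟨Q, hQ⟩ := (R.2.map K.subtype).exists_le_sylow
      refine ⟨Q, ?_⟩
      apply Sylow.ext
      apply R.3 (Q.subtype (h Q)).2
      intro x hx
      rw [Sylow.coe_subtype]
      exact hQ ⟨x, hx, rfl⟩
  exact (Nat.card_congr (Equiv.ofBijective _ this)).symm

/-- If a subgroup normalises all Sylow subgroups, its own Sylow subgroups are normal. -/
theorem normal_of_normalizes [Finite G] {K : Subgroup G} (hK : ∀ P : Sylow p G, ∀ g ∈ K, g • P = P)
    (R : Sylow p K) : (R : Subgroup K).Normal := by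
  obtain ⟨Q, hQ⟩ := (R.2.map K.subtype).exists_le_sylow
  have hRQ : (R : Subgroup K) = (Q : Subgroup G).subgroupOf K := by
    symm
    apply R.3
    · exact Q.2.comap_of_injective K.subtype Subtype.coe_injective
    · intro x hx
      exact hQ ⟨x, hx, rfl⟩
  constructor
  intro n hn g
  have hg := hK Q g g.2
  rw [Sylow.smul_eq_iff_mem_normalizer, Subgroup.mem_set_normalizer_iff] at hg
  rw [hRQ] at hn ⊢
  exact (hg n).1 hn

/-- In a group with a normal Sylow 17-subgroup, the Sylow `p`-number is not divisible exactly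
once by 17 unless `p` divides 16. -/
theorem no_seventeen {K : Type*} [Group K] [Finite K] (p q : ℕ) [hp : Fact p.Prime] [hq : Fact q.Prime]
    (hpq : p ≠ q) (hpq1 : ¬ p ∣ q - 1) (V : Sylow q K) [hV : (V : Subgroup K).Normal]
    (h1 : q ∣ Nat.card (Sylow p K)) (h2 : Nat.card (Sylow p K) < q ^ 2) : False := by
  obtain ⟨P⟩ : Nonempty (Sylow p K) := inferInstance
  set N : Subgroup K := Subgroup.normalizer (P : Set K) with hN
  have hidx : N.index = Nat.card (Sylow p K) := (P.card_eq_index_normalizer).symm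
  have hrel : N.relIndex V ≤ N.index := by
    rw [← Subgroup.relIndex_top_right]
    apply Subgroup.relIndex_le_of_le_right le_top
    rw [Subgroup.relIndex_top_right]
    exact Subgroup.index_ne_zero_of_finite
  obtain ⟨n, hn⟩ := IsPGroup.iff_card.1 V.2
  have hmul : Nat.card (N.subgroupOf V) * N.relIndex V = Nat.card V :=
    (N.subgroupOf V).card_mul_index
  have hdvd : N.relIndex V ∣ q ^ n := by
    rw [← hn, ← hmul]; exact dvd_mul_left _ _
  obtain ⟨k, -, hk⟩ := (Nat.dvd_prime_pow hq.out).1 hdvd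
  have hk1 : k ≤ 1 := by
    by_contra hcon
    push Not at hcon
    have : q ^ 2 ≤ q ^ k := Nat.pow_le_pow_right hq.out.pos hcon
    omega
  -- the case `k = 0`
  have hk0 : k ≠ 0 := by
    rintro rfl
    rw [pow_zero, Subgroup.relIndex_eq_one] at hk
    have h3 := Subgroup.index_dvd_of_le hk
    rw [hidx] at h3
    exact V.not_dvd_index (h1.trans h3)
  have hk1 : k = 1 := by omega
  rw [hk1, pow_one] at hk
  -- fixed points of `P` on `V`
  letI : MulAction P V := MulAction.compHom V
    ((MulAut.conjNormal (H := (V : Subgroup K))).comp (P : Subgroup K).subtype)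
  have hsmul : ∀ (x : P) (v : V), ((x • v : V) : K) = x * v * (x : K)⁻¹ := fun x v => rfl
  have hfix := P.2.card_modEq_card_fixedPoints V
  have hdisj : ∀ x : K, x ∈ P → x ∈ V → x = 1 := by
    intro x hxP hxV
    obtain ⟨a, ha⟩ := P.2 ⟨x, hxP⟩
    obtain ⟨b, hb⟩ := V.2 ⟨x, hxV⟩
    have ha' : x ^ p ^ a = 1 := by simpa using congrArg Subtype.val ha
    have hb' : x ^ q ^ b = 1 := by simpa using congrArg Subtype.val hb
    have hcop : Nat.Coprime (p ^ a) (q ^ b) :=
      Nat.Coprime.pow _ _ ((Nat.coprime_primes hp.out hq.out).2 hpq)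
    have := orderOf_dvd_of_pow_eq_one ha'
    have h4 := orderOf_dvd_of_pow_eq_one hb'
    have h5 := Nat.dvd_gcd this h4
    rw [hcop] at h5
    rw [← orderOf_eq_one_iff]
    exact Nat.dvd_one.1 h5
  have hcard : Nat.card (MulAction.fixedPoints P V) = Nat.card (N.subgroupOf V) := by
    apply Nat.card_congr
    refine Equiv.subtypeEquivRight ?_
    intro v
    rw [MulAction.mem_fixedPoints, Subgroup.mem_subgroupOf, hN, Subgroup.mem_set_normalizer_iff]
    constructor
    · intro h x
      constructor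
      · intro hx
        have h3 := congrArg Subtype.val (h ⟨x, hx⟩)
        rw [hsmul] at h3
        have h4 : (v : K) * x * (v : K)⁻¹ = x := by
          rw [mul_inv_eq_iff_eq_mul]
          rw [mul_inv_eq_iff_eq_mul] at h3
          exact h3.symm
        rw [h4]; exact hx
      · intro hx
        have h3 := congrArg Subtype.val (h ⟨_, hx⟩)
        rw [hsmul] at h3
        have h4 : (v : K) * x * (v : K)⁻¹ = x := by
          change ((v : K) * x * (v : K)⁻¹) * v * ((v : K) * x * (v : K)⁻¹)⁻¹ = v at h3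
          have h5 : (v : K) * (x * v * x⁻¹) * (v : K)⁻¹ = v := by
            calc (v : K) * (x * v * x⁻¹) * (v : K)⁻¹
                = ((v : K) * x * (v : K)⁻¹) * v * ((v : K) * x * (v : K)⁻¹)⁻¹ := by group
              _ = v := h3
          have h6 : x * (v : K) * x⁻¹ = v := by
            have : x * (v : K) * x⁻¹ = (v : K)⁻¹ * (v * (x * v * x⁻¹) * (v : K)⁻¹) * v := by group
            rw [this, h5]; group
          rw [mul_inv_eq_iff_eq_mul] at h6 ⊢
          exact h6.symm
        rw [h4] at hx; exact hx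
    · intro h x
      apply Subtype.ext
      rw [hsmul]
      -- the commutator is in the intersection
      have h3 : (v : K) * x * (v : K)⁻¹ * (x : K)⁻¹ ∈ P :=
        (P : Subgroup K).mul_mem ((h x).1 x.2) ((P : Subgroup K).inv_mem x.2)
      have h4 : (v : K) * x * (v : K)⁻¹ * (x : K)⁻¹ ∈ V := by
        have h5 := hV.conj_mem _ ((V : Subgroup K).inv_mem v.2) (x : K)
        have h6 := (V : Subgroup K).mul_mem v.2 h5
        have h7 : (v : K) * (x * (v : K)⁻¹ * (x : K)⁻¹) = (v : K) * x * (v : K)⁻¹ * (x : K)⁻¹ := by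
          group
        rw [h7] at h6
        exact h6
      have h5 := hdisj _ h3 h4
      rw [mul_inv_eq_one, mul_inv_eq_iff_eq_mul] at h5
      rw [mul_inv_eq_iff_eq_mul, h5]
  rw [hcard, ← hmul, hk] at hfix
  set c := Nat.card (N.subgroupOf V) with hc
  have hc0 : 0 < c := Nat.card_pos
  have h3 : p ∣ c * q - c := by
    rw [← (Nat.modEq_iff_dvd' (by nlinarith [hq.out.pos]))]
    exact hfix.symm
  have h4 : c * q - c = c * (q - 1) := by rw [Nat.mul_sub_one]
  rw [h4] at h3
  rcases (Nat.Prime.dvd_mul hp.out).1 h3 with h5 | h5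
  · have h6 : c ∣ q ^ n := by rw [← hn, ← hmul]; exact dvd_mul_right _ _
    have h7 := hp.out.dvd_of_dvd_pow (h5.trans h6)
    exact hpq ((Nat.prime_dvd_prime_iff_eq hp.out hq.out).1 h7)
  · exact hpq1 h5

/-- A normal subgroup of a centreless group normalising all Sylow subgroups is trivial. -/
theorem eq_bot_of_normalizes [Finite G] (hZ : Subgroup.center G = ⊥) (K : Subgroup G) [hKn : K.Normal]
    (hK : ∀ p : ℕ, p.Prime → ∀ P : Sylow p G, ∀ g ∈ K, g • P = P) : K = ⊥ := by
  by_contra hne
  have hcard : Nat.card K ≠ 1 := fun h => hne (Subgroup.card_eq_one.1 h)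
  obtain ⟨r, hr, hrK⟩ := Nat.exists_prime_and_dvd hcard
  have : Fact r.Prime := ⟨hr⟩
  obtain ⟨R⟩ : Nonempty (Sylow r K) := inferInstance
  have hRn := normal_of_normalizes (hK r hr) R
  have hRc : (R : Subgroup K).Characteristic := R.characteristic_of_normal hRn
  have hR0n : ((R : Subgroup K).map K.subtype).Normal := inferInstance
  set R0 : Subgroup G := (R : Subgroup K).map K.subtype with hR0
  have hR0K : R0 ≤ K := by
    rintro _ ⟨x, -, rfl⟩; exact x.2
  have hR0p : IsPGroup r R0 := R.2.map K.subtype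
  have hR0card : r ∣ Nat.card R0 := by
    have h1 : r ∣ Nat.card R := R.dvd_card_of_dvd_card hrK
    rwa [hR0, Nat.card_congr ((R : Subgroup K).equivMapOfInjective K.subtype
      Subtype.coe_injective).toEquiv.symm]
  obtain ⟨Pr⟩ : Nonempty (Sylow r G) := inferInstance
  letI : MulAction Pr R0 := MulAction.compHom R0
    ((MulAut.conjNormal (H := R0)).comp (Pr : Subgroup G).subtype)
  have hsmul : ∀ (x : Pr) (v : R0), ((x • v : R0) : G) = x * v * (x : G)⁻¹ := fun x v => rfl
  obtain ⟨x, hx, hx1⟩ := Pr.2.exists_fixed_point_of_prime_dvd_card_of_fixed_point R0 hR0card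
    (a := (1 : R0)) (by intro g; apply Subtype.ext; rw [hsmul]; simp)
  have hxr : ∀ y ∈ Pr, y * (x : G) = x * y := by
    intro y hy
    have := congrArg Subtype.val (hx ⟨y, hy⟩)
    rw [hsmul, mul_inv_eq_iff_eq_mul] at this
    exact this
  have hxp : ∀ p : ℕ, p.Prime → ∃ P : Sylow p G, ∀ y ∈ P, y * (x : G) = x * y := by
    intro p hp
    by_cases hpr : p = r
    · subst hpr; exact ⟨Pr, hxr⟩
    · have : Fact p.Prime := ⟨hp⟩
      obtain ⟨P⟩ : Nonempty (Sylow p G) := inferInstance
      refine ⟨P, ?_⟩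
      intro y hy
      have hxN := hK p hp P x (hR0K x.2)
      rw [Sylow.smul_eq_iff_mem_normalizer, Subgroup.mem_set_normalizer_iff] at hxN
      have h1 : y * (x : G) * y⁻¹ * (x : G)⁻¹ ∈ P := by
        have h2 := (hxN y⁻¹).1 ((P : Subgroup G).inv_mem hy)
        have h3 := (P : Subgroup G).mul_mem hy h2
        have h4 : y * ((x : G) * y⁻¹ * (x : G)⁻¹) = y * (x : G) * y⁻¹ * (x : G)⁻¹ := by group
        rw [h4] at h3; exact h3
      have h2 : y * (x : G) * y⁻¹ * (x : G)⁻¹ ∈ R0 :=
        mul_mem (hR0n.conj_mem _ x.2 y) (inv_mem x.2)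
      obtain ⟨a, ha⟩ := P.2 ⟨_, h1⟩
      obtain ⟨b, hb⟩ := hR0p ⟨_, h2⟩
      have ha' := congrArg Subtype.val ha
      have hb' := congrArg Subtype.val hb
      simp only [SubmonoidClass.mk_pow, OneMemClass.coe_one] at ha' hb'
      have hcop : Nat.Coprime (p ^ a) (r ^ b) :=
        Nat.Coprime.pow _ _ ((Nat.coprime_primes hp hr).2 hpr)
      have h5 := Nat.dvd_gcd (orderOf_dvd_of_pow_eq_one ha') (orderOf_dvd_of_pow_eq_one hb')
      rw [hcop] at h5
      have h6 := orderOf_eq_one_iff.1 (Nat.dvd_one.1 h5)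
      rw [mul_inv_eq_one, mul_inv_eq_iff_eq_mul] at h6
      exact h6
  have hcent : Subgroup.centralizer {(x : G)} = ⊤ := by
    rw [← Subgroup.index_eq_one]
    by_contra hcon
    obtain ⟨p, hp, hpi⟩ := Nat.exists_prime_and_dvd hcon
    have : Fact p.Prime := ⟨hp⟩
    obtain ⟨P, hP⟩ := hxp p hp
    have hle : (P : Subgroup G) ≤ Subgroup.centralizer {(x : G)} := by
      intro y hy
      rw [Subgroup.mem_centralizer_singleton_iff]
      exact hP y hy
    exact P.not_dvd_index (hpi.trans (Subgroup.index_dvd_of_le hle))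
  have hxc : (x : G) ∈ Subgroup.center G := by
    rw [Subgroup.mem_center_iff]
    intro g
    have : g ∈ Subgroup.centralizer {(x : G)} := by rw [hcent]; trivial
    rw [Subgroup.mem_centralizer_singleton_iff] at this
    exact this
  rw [hZ, Subgroup.mem_bot] at hxc
  exact hx1 (Subtype.ext hxc).symm

end H64.SylowNumbers
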