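import Mathlib

set_option autoImplicit false

/-! Elements of prime order `p` when the Sylow `p`-subgroups have order `p`. -/

namespace H64.SylowPrime

variable {G : Type*} [Group G] [Finite G]

omit [Finite G] in
theorem sylow_zpowers {p : ℕ} [Fact p.Prime] (h : ¬ p ^ 2 ∣ Nat.card G) {x : G}
    (hx : orderOf x = p) : ∃ P : Sylow p G, (P : Subgroup G) = Subgroup.zpowers x := by
  have hp : p.Prime := Fact.out
  have hc : Nat.card (Subgroup.zpowers x) = p := by rw [Nat.card_zpowers, hx]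
  have hpg : IsPGroup p (Subgroup.zpowers x) := IsPGroup.of_card (n := 1) (by rw [hc, pow_one])
  have hi := (Subgroup.zpowers x).card_mul_index
  rw [hc] at hi
  refine ⟨hpg.toSylow ?_, rfl⟩
  rintro ⟨k, hk⟩
  apply h
  rw [← hi, hk]
  exact ⟨k, by ring⟩

theorem exists_conj {p : ℕ} [Fact p.Prime] (h : ¬ p ^ 2 ∣ Nat.card G) {x e : G}
    (hx : orderOf x = p) (he : orderOf e = p) :
    ∃ (y : G) (n : ℕ), 0 < n ∧ n < p ∧ y * x * y⁻¹ = e ^ n := by
  have hp : p.Prime := Fact.out
  obtain ⟨P, hP⟩ := sylow_zpowers h hx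
  obtain ⟨P', hP'⟩ := sylow_zpowers h he
  obtain ⟨y, hy⟩ := MulAction.exists_smul_eq G P P'
  have h1 : y * x * y⁻¹ ∈ (P' : Subgroup G) := by
    rw [← hy, Sylow.coe_subgroup_smul, Subgroup.mem_pointwise_smul_iff_inv_smul_mem, hP]
    have : (MulAut.conj y)⁻¹ • (y * x * y⁻¹) = x := by
      rw [← map_inv, MulAut.smul_def, MulAut.conj_apply]
      group
    rw [this]
    exact Subgroup.mem_zpowers x
  rw [hP'] at h1
  classical
  have h3 : IsOfFinOrder e := isOfFinOrder_of_finite e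
  rw [h3.mem_zpowers_iff_mem_range_orderOf, Finset.mem_image] at h1
  obtain ⟨n, hn, hn'⟩ := h1
  rw [Finset.mem_range, he] at hn
  refine ⟨y, n, Nat.pos_of_ne_zero ?_, hn, hn'.symm⟩
  rintro rfl
  rw [pow_zero] at hn'
  have hx1 : x = 1 := by
    have : x = y⁻¹ * (y * x * y⁻¹) * y := by group
    rw [this, ← hn']; group
  rw [hx1, orderOf_one] at hx
  exact hp.one_lt.ne hx

/-- If the centralizer of every nontrivial element of a subgroup `U` of prime order `p` has exponent
`p`-like bound, the same holds for all elements of order `p`. -/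
theorem pow_eq_one_of_commute {p : ℕ} [Fact p.Prime] (h : ¬ p ^ 2 ∣ Nat.card G) {e : G}
    (he : orderOf e = p) (m : ℕ) (hC : ∀ z : G, z * e = e * z → z ^ m = 1) {x z : G}
    (hx : orderOf x = p) (hz : z * x = x * z) : z ^ m = 1 := by
  have hp : p.Prime := Fact.out
  obtain ⟨y, n, hn0, hn, hy⟩ := exists_conj h he hx
  have h1 : (y⁻¹ * z * y) * e = e * (y⁻¹ * z * y) := by
    have h2 : z * x ^ n = x ^ n * z := (Commute.pow_right (show Commute z x from hz) n).eq
    rw [← hy] at h2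
    have h3 : y⁻¹ * (z * (y * e * y⁻¹)) * y = y⁻¹ * (y * e * y⁻¹ * z) * y := by rw [h2]
    calc (y⁻¹ * z * y) * e = y⁻¹ * (z * (y * e * y⁻¹)) * y := by group
      _ = y⁻¹ * (y * e * y⁻¹ * z) * y := h3
      _ = e * (y⁻¹ * z * y) := by group
  have h2 := hC _ h1
  have h3 : (y⁻¹ * z * y) ^ m = y⁻¹ * z ^ m * y := by
    have := conj_pow (i := m) (a := y⁻¹) (b := z)
    rw [inv_inv] at this
    exact this
  rw [h3] at h2
  calc z ^ m = y * (y⁻¹ * z ^ m * y) * y⁻¹ := by group
    _ = 1 := by rw [h2]; group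

end H64.SylowPrime
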